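import Mathlib

/-!
# ODD half, D8: the groups `M22` and `M23` (helper438): the sheet of K-facts and the setting

`Sheet SK V W z c`: what the uniform kill of `K = M22, M23` uses about `K`.
`SK` is a Sylow 2-subgroup (order 128), `V`, `W` its two elementary abelian subgroups of order 16
(`N(V)/V = A6` resp. `A7`, `N(W)/W = S5` resp. `(3 × A5):2`), `V ∩ W` of order 4, `SK = VW⟨c⟩`.

`Setting t φ`: `t` is an involution of `G` and `C_G(t) = ⟨t⟩ × φ(K)`.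

`Half V t`: the situation of one of the two subgroups in `G` (see the text
`blueprints/ODD-M22M23-helper438.md`).
-/

set_option autoImplicit false

namespace Cfsg.Agent.OddHalf.MM

/-- `g` normalises `V` -/
def Nrm {G : Type*} [Group G] (g : G) (V : Subgroup G) : Prop := ∀ x, g * x * g⁻¹ ∈ V ↔ x ∈ V

/-- `g` centralises `V` -/
def Cen {G : Type*} [Group G] (g : G) (V : Subgroup G) : Prop := ∀ x ∈ V, g * x = x * g

/-- `E` is elementary abelian (exponent 2) -/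
def El {G : Type*} [Group G] (E : Subgroup G) : Prop := ∀ x ∈ E, x * x = 1

/-- the K-facts -/
structure Sheet {K : Type*} [Group K] (SK V W : Subgroup K) (z c : K) : Prop where
  two : IsPGroup 2 SK
  max : ∀ P : Subgroup K, IsPGroup 2 P → SK ≤ P → P = SK
  VS : V ≤ SK
  WS : W ≤ SK
  cardV : Nat.card V = 16
  cardW : Nat.card W = 16
  cardVW : Nat.card (V ⊓ W : Subgroup K) = 4
  elV : El V
  elW : El W
  nV : ∀ s ∈ SK, Nrm s V
  nW : ∀ s ∈ SK, Nrm s W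
  zV : z ∈ V
  zW : z ∈ W
  z1 : z ≠ 1
  cS : c ∈ SK
  cc : c * c = 1
  cN : ∀ v ∈ V, ∀ w ∈ W, c ≠ v * w
  gen : ∀ s ∈ SK, ∃ v ∈ V, ∃ w ∈ W, s = v * w ∨ s = v * w * c
  /-- an element of `V` outside `W` centralises only `V ∩ W` in `W`, and conversely -/
  cVW : ∀ v ∈ V, v ∉ W → ∀ w ∈ W, v * w = w * v → w ∈ V
  cWV : ∀ w ∈ W, w ∉ V → ∀ v ∈ V, v * w = w * v → v ∈ W
  /-- the centre of `SK` is `⟨z⟩` -/
  cen : ∀ y ∈ SK, (∀ s ∈ SK, s * y = y * s) → y = 1 ∨ y = z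
  /-- one class of involutions -/
  inv : ∀ k : K, k * k = 1 → k ≠ 1 → ∃ g : K, k = g * z * g⁻¹
  /-- `N(V)` is transitive on `V#`, `N(W)` on `W#` -/
  trV : ∀ v ∈ V, v ≠ 1 → ∃ k : K, Nrm k V ∧ k * z * k⁻¹ = v
  trW : ∀ w ∈ W, w ≠ 1 → ∃ k : K, Nrm k W ∧ k * z * k⁻¹ = w
  CV : ∀ k : K, Cen k V → k ∈ V
  CW : ∀ k : K, Cen k W → k ∈ W
  /-- `V`, `W` are the only elementary abelian subgroups of `SK` of order at least 16 -/
  el16 : ∀ E : Subgroup K, E ≤ SK → El E → 16 ≤ Nat.card E → E = V ∨ E = W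
  /-- no subgroup `⟨z, r⟩` of order 4 of `V` is normal in `N(V) ∩ C(z)` -/
  sq : ∀ r ∈ V, (∀ k : K, Nrm k V → k * z = z * k → k * r * k⁻¹ = r ∨ k * r * k⁻¹ = r * z) →
    r = 1 ∨ r = z
  /-- `N(SK) ∩ C(V ∩ W) ≤ VW` -/
  nS : ∀ k : K, Nrm k SK → (∀ x ∈ V, x ∈ W → k * x = x * k) → ∃ v ∈ V, ∃ w ∈ W, k = v * w
  /-- some element normalising `V` and `W` moves `z` -/
  del : ∃ d : K, Nrm d V ∧ Nrm d W ∧ d * z * d⁻¹ ≠ z
  /-- `z ∈ [C(z), C(z)]` -/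
  zD : z ∈ ⁅Subgroup.centralizer ({z} : Set K), Subgroup.centralizer ({z} : Set K)⁆
  /-- `c` acts nontrivially on `V ∩ W`, `V/(V ∩ W)`, `W/(V ∩ W)` -/
  c0 : ∃ x ∈ V, x ∈ W ∧ c * x ≠ x * c
  cV : ∃ v ∈ V, c * v * c⁻¹ * v⁻¹ ∉ W
  cW : ∃ w ∈ W, c * w * c⁻¹ * w⁻¹ ∉ V

/-- the setting: `t` an involution with `C_G(t) = ⟨t⟩ × φ(K)` -/
structure Setting {K : Type*} [Group K] {G : Type*} [Group G] (t : G) (φ : K →* G) : Prop where
  tt : t * t = 1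
  t1 : t ≠ 1
  inj : Function.Injective φ
  comm : ∀ k, φ k * t = t * φ k
  tK : ∀ k, φ k ≠ t
  cent : ∀ g : G, g * t = t * g → ∃ k, g = φ k ∨ g = t * φ k

/-- One half: `V ≤ C(t)` elementary abelian of order 16, `t ∉ V`, self-centralising in `C(t)` modulo
`⟨t⟩`; every `v ∈ V` is `[b, t]` for some `b ∈ C(V)`; such `b` have squares in `{1, v}`. -/
structure Half {G : Type*} [Group G] (t : G) (V : Subgroup G) : Prop where
  tt : t * t = 1
  t1 : t ≠ 1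
  card : Nat.card V = 16
  el : El V
  comm : ∀ v ∈ V, v * t = t * v
  tV : t ∉ V
  /-- `C_{C(V)}(t) = ⟨t⟩ × V` -/
  cent : ∀ g : G, g * t = t * g → Cen g V → ∃ v ∈ V, g = v ∨ g = t * v
  ex : ∀ v ∈ V, ∃ b : G, Cen b V ∧ b * t * b⁻¹ = t * v
  /-- squares -/
  sq : ∀ v ∈ V, ∀ b : G, Cen b V → b * t * b⁻¹ = t * v → b * b = 1 ∨ b * b = v

/-- the group `B = {b ∈ C(V) : t^b ∈ tV}` -/
def InB {G : Type*} [Group G] (t : G) (V : Subgroup G) (b : G) : Prop :=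
  Cen b V ∧ ∃ v ∈ V, b * t * b⁻¹ = t * v

/-- the elements of `U`: involutions `b` of `B` outside `tV`, and `V` -/
def InU {G : Type*} [Group G] (t : G) (V : Subgroup G) (b : G) : Prop :=
  InB t V b ∧ b * b = 1 ∧ (b * t = t * b → b ∈ V)

end Cfsg.Agent.OddHalf.MM
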