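import Cfsg.Agent.OddHalf.MM.Sheet

/-!
# Transport of the sheet along an isomorphism (helper259)
-/

set_option autoImplicit false

namespace Cfsg.Agent.OddHalf.MM

variable {K L : Type*} [Group K] [Group L] (f : L ≃* K)

theorem mem_comapE {V : Subgroup K} {x : L} : x ∈ V.comap f.toMonoidHom ↔ f x ∈ V := Iff.rfl

theorem nrm_comapE {V : Subgroup K} {k : L} : Nrm k (V.comap f.toMonoidHom) ↔ Nrm (f k) V := by
  constructor
  · intro h x
    have h1 := h (f.symm x)
    rw [mem_comapE, mem_comapE, map_mul, map_mul, map_inv, f.apply_symm_apply] at h1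
    exact h1
  · intro h x
    rw [mem_comapE, mem_comapE, map_mul, map_mul, map_inv]
    exact h (f x)

theorem cen_comapE {V : Subgroup K} {k : L} : Cen k (V.comap f.toMonoidHom) ↔ Cen (f k) V := by
  constructor
  · intro h x hx
    have h1 := h (f.symm x) (by rw [mem_comapE, f.apply_symm_apply]; exact hx)
    have h2 := congrArg f h1
    rwa [map_mul, map_mul, f.apply_symm_apply] at h2
  · intro h x hx
    apply f.injective
    rw [map_mul, map_mul]
    exact h (f x) hx

theorem el_comapE {V : Subgroup K} : El (V.comap f.toMonoidHom) ↔ El V := by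
  constructor
  · intro h x hx
    have h1 := h (f.symm x) (by rw [mem_comapE, f.apply_symm_apply]; exact hx)
    have h2 := congrArg f h1
    rwa [map_mul, f.apply_symm_apply, map_one] at h2
  · intro h x hx
    apply f.injective
    rw [map_mul, map_one]
    exact h (f x) hx

theorem card_comapE {V : Subgroup K} : Nat.card (V.comap f.toMonoidHom) = Nat.card V := by
  refine Nat.card_congr ⟨fun x => ⟨f x, x.2⟩, fun y => ⟨f.symm y, ?_⟩, fun x => ?_, fun y => ?_⟩
  · rw [mem_comapE, f.apply_symm_apply]; exact y.2
  · exact Subtype.ext (f.symm_apply_apply _)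
  · exact Subtype.ext (f.apply_symm_apply _)

theorem two_comapE {V : Subgroup K} : IsPGroup 2 (V.comap f.toMonoidHom) ↔ IsPGroup 2 V := by
  constructor
  · intro h
    rintro ⟨x, hx⟩
    obtain ⟨n, hn⟩ := h ⟨f.symm x, by rw [mem_comapE, f.apply_symm_apply]; exact hx⟩
    refine ⟨n, Subtype.ext ?_⟩
    have h1 : f.symm x ^ 2 ^ n = 1 := congrArg Subtype.val hn
    have h2 := congrArg f h1
    rwa [map_pow, f.apply_symm_apply, map_one] at h2
  · intro h
    rintro ⟨x, hx⟩
    obtain ⟨n, hn⟩ := h ⟨f x, hx⟩
    refine ⟨n, Subtype.ext ?_⟩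
    have h1 : f x ^ 2 ^ n = 1 := congrArg Subtype.val hn
    show x ^ 2 ^ n = 1
    apply f.injective
    rw [map_pow, h1, map_one]

theorem comap_symm {V : Subgroup L} : (V.comap f.symm.toMonoidHom).comap f.toMonoidHom = V := by
  ext x
  show f.symm (f x) ∈ V ↔ _
  rw [f.symm_apply_apply]

/-- **Transport.** -/
theorem Sheet.transport {SK V W : Subgroup K} {z c : K} (h : Sheet SK V W z c) :
    Sheet (SK.comap f.toMonoidHom) (V.comap f.toMonoidHom) (W.comap f.toMonoidHom) (f.symm z)
      (f.symm c) where
  two := (two_comapE f).2 h.two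
  max := by
    intro P hP hle
    have h1 : P.comap f.symm.toMonoidHom = SK := by
      apply h.max
      · rw [← two_comapE f, comap_symm]; exact hP
      · intro x hx
        apply hle
        show f (f.symm x) ∈ SK
        rw [f.apply_symm_apply]; exact hx
    rw [← h1, comap_symm]
  VS := fun x hx => h.VS hx
  WS := fun x hx => h.WS hx
  cardV := by rw [card_comapE]; exact h.cardV
  cardW := by rw [card_comapE]; exact h.cardW
  cardVW := by
    have : V.comap f.toMonoidHom ⊓ W.comap f.toMonoidHom = (V ⊓ W).comap f.toMonoidHom := rfl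
    rw [this, card_comapE]
    exact h.cardVW
  elV := (el_comapE f).2 h.elV
  elW := (el_comapE f).2 h.elW
  nV := fun s hs => (nrm_comapE f).2 (h.nV _ hs)
  nW := fun s hs => (nrm_comapE f).2 (h.nW _ hs)
  zV := by rw [mem_comapE, f.apply_symm_apply]; exact h.zV
  zW := by rw [mem_comapE, f.apply_symm_apply]; exact h.zW
  z1 := by
    intro e
    apply h.z1
    rw [← f.apply_symm_apply z, e, map_one]
  cS := by rw [mem_comapE, f.apply_symm_apply]; exact h.cS
  cc := by rw [← map_mul, h.cc, map_one]
  cN := by
    intro v hv w hw e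
    apply h.cN _ hv _ hw
    rw [← f.apply_symm_apply c, e, map_mul]
    rfl
  gen := by
    intro s hs
    obtain ⟨v, hv, w, hw, e⟩ := h.gen _ hs
    refine ⟨f.symm v, by rw [mem_comapE, f.apply_symm_apply]; exact hv, f.symm w,
      by rw [mem_comapE, f.apply_symm_apply]; exact hw, ?_⟩
    rcases e with e | e
    · left
      rw [← map_mul, ← e]
      exact (f.symm_apply_apply s).symm
    · right
      rw [← map_mul, ← map_mul, ← e]
      exact (f.symm_apply_apply s).symm
  cVW := by
    intro v hv hvW w hw e
    exact h.cVW _ hv hvW _ hw (by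
      have := congrArg f e
      rwa [map_mul, map_mul] at this)
  cWV := by
    intro v hv hvW w hw e
    exact h.cWV _ hv hvW _ hw (by
      have := congrArg f e
      rwa [map_mul, map_mul] at this)
  cen := by
    intro y hy hyc
    rcases h.cen (f y) hy (fun s hs => by
      have h1 := hyc (f.symm s) (by rw [mem_comapE, f.apply_symm_apply]; exact hs)
      have h2 := congrArg f h1
      rwa [map_mul, map_mul, f.apply_symm_apply] at h2) with e | e
    · left
      apply f.injective
      rw [e, map_one]
    · right
      rw [← e, f.symm_apply_apply]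
  inv := by
    intro k hk hk1
    obtain ⟨g, hg⟩ := h.inv (f k) (by rw [← map_mul, hk, map_one]) (by
      intro e
      apply hk1
      apply f.injective
      rw [e, map_one])
    refine ⟨f.symm g, ?_⟩
    apply f.injective
    rw [hg, map_mul, map_mul, map_inv, f.apply_symm_apply, f.apply_symm_apply]
  trV := by
    intro v hv hv1
    obtain ⟨k, hk, e⟩ := h.trV (f v) hv (by
      intro e
      apply hv1
      apply f.injective
      rw [e, map_one])
    refine ⟨f.symm k, (nrm_comapE f).2 (by rw [f.apply_symm_apply]; exact hk), ?_⟩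
    rw [← map_inv, ← map_mul, ← map_mul, e, f.symm_apply_apply]
  trW := by
    intro v hv hv1
    obtain ⟨k, hk, e⟩ := h.trW (f v) hv (by
      intro e
      apply hv1
      apply f.injective
      rw [e, map_one])
    refine ⟨f.symm k, (nrm_comapE f).2 (by rw [f.apply_symm_apply]; exact hk), ?_⟩
    rw [← map_inv, ← map_mul, ← map_mul, e, f.symm_apply_apply]
  CV := fun k hk => h.CV _ ((cen_comapE f).1 hk)
  CW := fun k hk => h.CW _ ((cen_comapE f).1 hk)
  el16 := by
    intro E hE hel hc
    have h1 : E.comap f.symm.toMonoidHom = V ∨ E.comap f.symm.toMonoidHom = W := by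
      apply h.el16
      · intro x hx
        have h2 := hE hx
        rw [mem_comapE] at h2
        have h3 : f (f.symm x) ∈ SK := h2
        rwa [f.apply_symm_apply] at h3
      · rw [← el_comapE f, comap_symm]; exact hel
      · rw [← card_comapE f, comap_symm]; exact hc
    rcases h1 with h1 | h1
    · left; rw [← h1, comap_symm]
    · right; rw [← h1, comap_symm]
  sq := by
    intro r hr hc
    rcases h.sq (f r) hr (fun k hk hkz => by
      have h1 := hc (f.symm k) ((nrm_comapE f).2 (by rw [f.apply_symm_apply]; exact hk))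
        (by rw [← map_mul, hkz, map_mul])
      rcases h1 with h1 | h1
      · left
        have h2 := congrArg f h1
        rwa [map_mul, map_mul, map_inv, f.apply_symm_apply] at h2
      · right
        have h2 := congrArg f h1
        rwa [map_mul, map_mul, map_inv, f.apply_symm_apply, map_mul, f.apply_symm_apply] at h2) with e | e
    · left
      apply f.injective
      rw [e, map_one]
    · right
      rw [← e, f.symm_apply_apply]
  nS := by
    intro k hk hc
    obtain ⟨v, hv, w, hw, e⟩ := h.nS (f k) ((nrm_comapE f).1 hk) (fun x hx hx' => by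
      have h1 := hc (f.symm x) (by rw [mem_comapE, f.apply_symm_apply]; exact hx)
        (by rw [mem_comapE, f.apply_symm_apply]; exact hx')
      have h2 := congrArg f h1
      rwa [map_mul, map_mul, f.apply_symm_apply] at h2)
    refine ⟨f.symm v, by rw [mem_comapE, f.apply_symm_apply]; exact hv, f.symm w,
      by rw [mem_comapE, f.apply_symm_apply]; exact hw, ?_⟩
    rw [← map_mul, ← e, f.symm_apply_apply]
  del := by
    obtain ⟨d, h1, h2, h3⟩ := h.del
    refine ⟨f.symm d, (nrm_comapE f).2 (by rw [f.apply_symm_apply]; exact h1),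
      (nrm_comapE f).2 (by rw [f.apply_symm_apply]; exact h2), ?_⟩
    intro e
    apply h3
    have h4 := congrArg f e
    rwa [map_mul, map_mul, map_inv, f.apply_symm_apply, f.apply_symm_apply] at h4
  zD := by
    have h1 : (⁅Subgroup.centralizer ({z} : Set K), Subgroup.centralizer ({z} : Set K)⁆).map
        f.symm.toMonoidHom ≤ ⁅Subgroup.centralizer ({f.symm z} : Set L),
          Subgroup.centralizer ({f.symm z} : Set L)⁆ := by
      rw [Subgroup.map_commutator]
      have h2 : (Subgroup.centralizer ({z} : Set K)).map f.symm.toMonoidHom ≤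
          Subgroup.centralizer ({f.symm z} : Set L) := by
        rintro _ ⟨k, hk, rfl⟩
        rw [Subgroup.mem_centralizer_singleton_iff]
        have h3 := congrArg f.symm (Subgroup.mem_centralizer_singleton_iff.1 hk)
        rw [map_mul, map_mul] at h3
        exact h3
      exact Subgroup.commutator_mono h2 h2
    exact h1 ⟨z, h.zD, rfl⟩
  c0 := by
    obtain ⟨x, hx, hx', hc⟩ := h.c0
    refine ⟨f.symm x, by rw [mem_comapE, f.apply_symm_apply]; exact hx,
      by rw [mem_comapE, f.apply_symm_apply]; exact hx', fun e => hc ?_⟩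
    rw [← map_mul, ← map_mul] at e
    exact f.symm.injective e
  cV := by
    obtain ⟨x, hx, hc⟩ := h.cV
    refine ⟨f.symm x, by rw [mem_comapE, f.apply_symm_apply]; exact hx, fun e => hc ?_⟩
    rw [mem_comapE, map_mul, map_mul, map_mul, map_inv, map_inv, f.apply_symm_apply,
      f.apply_symm_apply] at e
    exact e
  cW := by
    obtain ⟨x, hx, hc⟩ := h.cW
    refine ⟨f.symm x, by rw [mem_comapE, f.apply_symm_apply]; exact hx, fun e => hc ?_⟩
    rw [mem_comapE, map_mul, map_mul, map_mul, map_inv, map_inv, f.apply_symm_apply,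
      f.apply_symm_apply] at e
    exact e

end Cfsg.Agent.OddHalf.MM
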