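import Cfsg.Agent.OddHalf.MM.Row
import Cfsg.Agent.OddHalf.MM.Transport
import Cfsg.Agent.KFacts.MM.Main

/-!
# ODD half, D8: the row `M23`, unconditional (helper259)
-/

set_option autoImplicit false

namespace Cfsg.Agent.OddHalf.MM.RowM23

open Cfsg Cfsg.Agent.OddHalf.MM

universe u

/-- the sheet of every group isomorphic to `M23` -/
theorem sheet23 (K : Type u) [Group K] (hK : Spor.IsoM23 K) :
    ∃ (SK V W : Subgroup K) (z c : K), Sheet SK V W z c := by
  obtain ⟨e⟩ := hK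
  obtain ⟨SK, V, W, z, c, h⟩ := Cfsg.Agent.KFacts.MM.Main.sheet23
  exact ⟨_, _, _, _, _, h.transport e⟩

/-- the sheet of every group isomorphic to `M22` -/
theorem sheet22 (K : Type u) [Group K] (hK : Spor.IsoM22 K) :
    ∃ (SK V W : Subgroup K) (z c : K), Sheet SK V W z c := by
  obtain ⟨e⟩ := hK
  obtain ⟨SK, V, W, z, c, h⟩ := Cfsg.Agent.KFacts.MM.Main.sheet22
  exact ⟨_, _, _, _, _, h.transport e⟩

/-- **row `m23` of `D8.Rows.All`** -/
theorem m23 : D8.Rows.Row.{u} (fun K _ => Spor.IsoM23 K) := Row.row_m23 sheet23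

end Cfsg.Agent.OddHalf.MM.RowM23
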