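import Cfsg.Agent.OddHalf.MM.Sheet

/-!
# ODD half, D8, `M22` / `M23`, node C (helper409): the involutions of `B_V` outside `⟨t⟩V` commute

See `blueprints/ODD-M22M23-helper438.md`, node C.
-/

set_option autoImplicit false
set_option linter.unusedSectionVars false

namespace Cfsg.Agent.OddHalf.MM

variable {G : Type*} [Group G]

/-- `b ∈ C(V)`, `t^b = t v`, `b² = 1` -/
def II (t : G) (V : Subgroup G) (v b : G) : Prop :=
  Cen b V ∧ b * t * b⁻¹ = t * v ∧ b * b = 1

/-- `u ∈ C(V)`, `t^u = t v`, `u² = v` -/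
def UU (t : G) (V : Subgroup G) (v u : G) : Prop :=
  Cen u V ∧ u * t * u⁻¹ = t * v ∧ u * u = v

/-- the pair `v, w` is bad -/
def Bad (t : G) (V : Subgroup G) (v w : G) : Prop :=
  ∃ b b', II t V v b ∧ II t V w b' ∧ b * b' ≠ b' * b

theorem inv_eq_self_of_mul_self {x : G} (h : x * x = 1) : x⁻¹ = x :=
  inv_eq_of_mul_eq_one_right h

theorem El.inv_eq {V : Subgroup G} (h : El V) {x : G} (hx : x ∈ V) : x⁻¹ = x :=
  inv_eq_self_of_mul_self (h x hx)

theorem El.gcomm {V : Subgroup G} (h : El V) {x y : G} (hx : x ∈ V) (hy : y ∈ V) :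
    x * y = y * x := by
  have h1 := h (x * y) (V.mul_mem hx hy)
  have h2 := inv_eq_self_of_mul_self h1
  rw [mul_inv_rev, h.inv_eq hx, h.inv_eq hy] at h2
  exact h2.symm

theorem Cen.gmul {V : Subgroup G} {a b : G} (ha : Cen a V) (hb : Cen b V) : Cen (a * b) V := by
  intro x hx
  rw [mul_assoc, hb x hx, ← mul_assoc, ha x hx, mul_assoc]

theorem Cen.ginv {V : Subgroup G} {a : G} (ha : Cen a V) : Cen a⁻¹ V := by
  intro x hx
  rw [inv_mul_eq_iff_eq_mul, ← mul_assoc, ha x hx, mul_assoc, mul_inv_cancel, mul_one]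

theorem Cen.of_mem {V : Subgroup G} (h : El V) {a : G} (ha : a ∈ V) : Cen a V :=
  fun _ hx => h.gcomm ha hx

theorem Nrm.gconj {V : Subgroup G} {g : G} (h : Nrm g V) {x : G} (hx : x ∈ V) :
    g * x * g⁻¹ ∈ V := (h x).2 hx

theorem Nrm.gconj' {V : Subgroup G} {g : G} (h : Nrm g V) {x : G} (hx : x ∈ V) :
    g⁻¹ * x * g ∈ V := by
  rw [← h (g⁻¹ * x * g)]
  have : g * (g⁻¹ * x * g) * g⁻¹ = x := by group
  rwa [this]

theorem Cen.gconj {V : Subgroup G} {a g : G} (ha : Cen a V) (h : Nrm g V) :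
    Cen (g * a * g⁻¹) V := by
  intro x hx
  have h1 := ha _ (h.gconj' hx)
  calc g * a * g⁻¹ * x = g * (a * (g⁻¹ * x * g)) * g⁻¹ := by group
    _ = g * ((g⁻¹ * x * g) * a) * g⁻¹ := by rw [h1]
    _ = x * (g * a * g⁻¹) := by group

namespace Half

variable {t : G} {V : Subgroup G} (h : Half t V)
include h

theorem cent_t : Cen t V := fun x hx => (h.comm x hx).symm

theorem conj_mul {a b v w : G} (_hv : v ∈ V) (hw : w ∈ V) (ca : Cen a V)
    (ha : a * t * a⁻¹ = t * v) (hb : b * t * b⁻¹ = t * w) :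
    (a * b) * t * (a * b)⁻¹ = t * (v * w) := by
  have h1 : a * w * a⁻¹ = w := by rw [ca w hw, mul_inv_cancel_right]
  calc (a * b) * t * (a * b)⁻¹ = a * (b * t * b⁻¹) * a⁻¹ := by group
    _ = a * (t * w) * a⁻¹ := by rw [hb]
    _ = (a * t * a⁻¹) * (a * w * a⁻¹) := by group
    _ = t * (v * w) := by rw [ha, h1, mul_assoc]

theorem conj_inv {a v : G} (hv : v ∈ V) (ca : Cen a V) (ha : a * t * a⁻¹ = t * v) :
    a⁻¹ * t * a = t * v := by
  have h1 : a⁻¹ * v * a = v := by rw [ca.ginv v hv, inv_mul_cancel_right]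
  have h2 : t = (a⁻¹ * t * a) * v := by
    calc t = a⁻¹ * (a * t * a⁻¹) * a := by group
      _ = a⁻¹ * (t * v) * a := by rw [ha]
      _ = (a⁻¹ * t * a) * (a⁻¹ * v * a) := by group
      _ = (a⁻¹ * t * a) * v := by rw [h1]
  have h3 : v * v = 1 := h.el v hv
  calc a⁻¹ * t * a = (a⁻¹ * t * a) * v * v := by rw [mul_assoc _ v v, h3, mul_one]
    _ = t * v := by rw [← h2]

/-- a product `a b` with `a, b` over `v, w`: over `v w` -/
theorem conj_inv_mul {a b v w : G} (hv : v ∈ V) (hw : w ∈ V) (ca : Cen a V)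
    (ha : a * t * a⁻¹ = t * v) (hb : b * t * b⁻¹ = t * w) :
    (a⁻¹ * b) * t * (a⁻¹ * b)⁻¹ = t * (v * w) := by
  have h1 : a⁻¹ * t * a⁻¹⁻¹ = t * v := by
    rw [inv_inv]; exact h.conj_inv hv ca ha
  exact h.conj_mul hv hw ca.ginv h1 hb

theorem t_conj {v : G} (hv : v ∈ V) : t * (t * v) * t⁻¹ = t * v := by
  have h1 : t * v = v * t := (h.comm v hv).symm
  calc t * (t * v) * t⁻¹ = t * (v * t) * t⁻¹ := by rw [h1]
    _ = t * v := by group

/-- from an involution over `v` to an element with square `v`, and conversely -/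
theorem UU_of_II {v b : G} (hv : v ∈ V) (hb : II t V v b) : UU t V v (t * b) := by
  obtain ⟨c1, c2, c3⟩ := hb
  refine ⟨h.cent_t.gmul c1, ?_, ?_⟩
  · calc t * b * t * (t * b)⁻¹ = t * (b * t * b⁻¹) * t⁻¹ := by group
      _ = t * v := by rw [c2, h.t_conj hv]
  · calc t * b * (t * b) = t * (b * t * b⁻¹) * (b * b) := by group
      _ = v := by rw [c2, c3, mul_one, ← mul_assoc, h.tt, one_mul]

theorem II_of_UU {v u : G} (hv : v ∈ V) (hu : UU t V v u) : II t V v (t * u) := by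
  obtain ⟨c1, c2, c3⟩ := hu
  refine ⟨h.cent_t.gmul c1, ?_, ?_⟩
  · calc t * u * t * (t * u)⁻¹ = t * (u * t * u⁻¹) * t⁻¹ := by group
      _ = t * v := by rw [c2, h.t_conj hv]
  · calc t * u * (t * u) = t * (u * t * u⁻¹) * (u * u) := by group
      _ = 1 := by
        rw [c2, c3, ← mul_assoc, h.tt, one_mul, h.el v hv]

theorem ex_II {v : G} (hv : v ∈ V) : ∃ b, II t V v b := by
  obtain ⟨b, cb, hb⟩ := h.ex v hv
  rcases h.sq v hv b cb hb with h1 | h1
  · exact ⟨b, cb, hb, h1⟩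
  · exact ⟨t * b, h.II_of_UU hv ⟨cb, hb, h1⟩⟩

/-- two involutions over the same `v ≠ 1` differ by an element of `V` -/
theorem same_II {v b b' : G} (hv : v ∈ V) (v1 : v ≠ 1) (hb : II t V v b) (hb' : II t V v b') :
    ∃ r ∈ V, b' = b * r := by
  have h1 := h.conj_inv_mul hv hv hb.1 hb.2.1 hb'.2.1
  rw [h.el v hv, mul_one] at h1
  have h2 : (b⁻¹ * b') * t = t * (b⁻¹ * b') := by
    rw [mul_inv_eq_iff_eq_mul] at h1; exact h1
  obtain ⟨r, hr, h3 | h3⟩ := h.cent _ h2 (hb.1.ginv.gmul hb'.1)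
  · exact ⟨r, hr, by rw [← h3]; group⟩
  · exfalso
    have h4 : b' = b * (t * r) := by rw [← h3]; group
    have h5 : b' * b' = v := by
      have hbr : r * b = b * r := (hb.1 r hr).symm
      have htr : r * t = t * r := h.comm r hr
      calc b' * b' = b * t * (r * b) * t * r := by rw [h4]; group
        _ = b * t * b * (r * t) * r := by rw [hbr]; group
        _ = (b * t * b⁻¹) * (b * b) * t * (r * r) := by rw [htr]; group
        _ = t * v * t := by rw [hb.2.1, hb.2.2, h.el r hr]; group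
        _ = v := by rw [mul_assoc, h.comm v hv, ← mul_assoc, h.tt, one_mul]
    exact v1 (h5.symm.trans hb'.2.2)

/-- two elements with square `v` over the same `v ≠ 1` differ by an element of `V` -/
theorem same_UU {v b b' : G} (hv : v ∈ V) (v1 : v ≠ 1) (hb : UU t V v b) (hb' : UU t V v b') :
    ∃ r ∈ V, b' = b * r := by
  obtain ⟨r, hr, h1⟩ := h.same_II hv v1 (h.II_of_UU hv hb) (h.II_of_UU hv hb')
  refine ⟨r, hr, ?_⟩
  rw [mul_assoc] at h1
  exact mul_left_cancel h1

theorem sq_mul {v w b b' : G} (hv : v ∈ V) (hw : w ∈ V) (hb : II t V v b) (hb' : II t V w b') :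
    b * b' * (b * b') = 1 ∨ b * b' * (b * b') = v * w :=
  h.sq _ (V.mul_mem hv hw) _ (hb.1.gmul hb'.1) (h.conj_mul hv hw hb.1 hb.2.1 hb'.2.1)

omit h in
theorem _root_.Cfsg.Agent.OddHalf.MM.comm_of_sq {b b' : G} (h1 : b * b = 1) (h2 : b' * b' = 1)
    (h3 : b * b' * (b * b') = 1) : b * b' = b' * b := by
  have h4 := inv_eq_self_of_mul_self h3
  rw [mul_inv_rev, inv_eq_self_of_mul_self h1, inv_eq_self_of_mul_self h2] at h4
  exact h4.symm

omit h in
theorem _root_.Cfsg.Agent.OddHalf.MM.sq_of_comm {b b' : G} (h1 : b * b = 1) (h2 : b' * b' = 1)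
    (h3 : b * b' = b' * b) : b * b' * (b * b') = 1 := by
  calc b * b' * (b * b') = b * b' * (b' * b) := by rw [h3]
    _ = b * (b' * b') * b := by group
    _ = 1 := by rw [h2, mul_one, h1]

/-- a bad pair is bad for all representatives -/
theorem bad_iff {v w : G} (hv : v ∈ V) (hw : w ∈ V) (v1 : v ≠ 1) (w1 : w ≠ 1)
    (hbad : Bad t V v w) {b b' : G} (hb : II t V v b) (hb' : II t V w b') :
    b * b' * (b * b') = v * w := by
  obtain ⟨a, a', ha, ha', hne⟩ := hbad
  have h1 : a * a' * (a * a') = v * w := by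
    rcases h.sq_mul hv hw ha ha' with h2 | h2
    · exact absurd (comm_of_sq ha.2.2 ha'.2.2 h2) hne
    · exact h2
  obtain ⟨r, hr, rfl⟩ := h.same_II hv v1 ha hb
  obtain ⟨s, hs, rfl⟩ := h.same_II hw w1 ha' hb'
  have e1 : r * a' = a' * r := (ha'.1 r hr).symm
  have e2 : s * a = a * s := (ha.1 s hs).symm
  have e3 : s * a' = a' * s := (ha'.1 s hs).symm
  have e4 : r * a = a * r := (ha.1 r hr).symm
  have e5 : r * s = s * r := h.el.gcomm hr hs
  calc a * r * (a' * s) * (a * r * (a' * s))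
      = a * (r * a') * (s * a) * (r * a') * s := by group
    _ = a * a' * (r * a) * (s * a') * r * s := by rw [e1, e2]; group
    _ = a * a' * a * (r * a') * s * r * s := by rw [e3, e4]; group
    _ = (a * a' * (a * a')) * (r * (s * r) * s) := by rw [e1]; group
    _ = v * w := by
      rw [h1, ← e5]
      have : r * (r * s) * s = (r * r) * (s * s) := by group
      rw [this, h.el r hr, h.el s hs, mul_one, mul_one]

theorem bad_symm {v w : G} (hbad : Bad t V v w) : Bad t V w v := by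
  obtain ⟨a, a', ha, ha', hne⟩ := hbad
  exact ⟨a', a, ha', ha, fun e => hne e.symm⟩

/-- LEMMA A -/
theorem lemmaA {v w x : G} (hv : v ∈ V) (hw : w ∈ V) (hx : x ∈ V) (v1 : v ≠ 1) (w1 : w ≠ 1)
    (x1 : x ≠ 1) (hvw : v ≠ w) (xv : x ≠ v) (xw : x ≠ w) (_xvw : x ≠ v * w)
    (hbad : Bad t V v w) : Bad t V v x ∧ Bad t V w x := by
  obtain ⟨b, hb⟩ := h.ex_II hv
  obtain ⟨c, hc⟩ := h.ex_II hw
  obtain ⟨d, hd⟩ := h.ex_II hx
  have k1 := h.bad_iff hv hw v1 w1 hbad hb hc
  -- `b c = v w c b`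
  have e1 : b * c = v * w * (c * b) := by
    have : b * c = (b * c * (b * c)) * (c * b) := by
      calc b * c = b * c * (b * (c * c) * b) := by rw [hc.2.2, mul_one, hb.2.2, mul_one]
        _ = (b * c * (b * c)) * (c * b) := by group
    rw [k1] at this; exact this
  -- `b d = κ d b`
  obtain ⟨κ, hκ, hκV, e2⟩ : ∃ κ, (κ = 1 ∨ κ = v * x) ∧ κ ∈ V ∧ b * d = κ * (d * b) := by
    refine ⟨b * d * (b * d), h.sq_mul hv hx hb hd, ?_, ?_⟩
    · rcases h.sq_mul hv hx hb hd with h2 | h2 <;> rw [h2]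
      · exact V.one_mem
      · exact V.mul_mem hv hx
    · calc b * d = b * d * (b * (d * d) * b) := by rw [hd.2.2, mul_one, hb.2.2, mul_one]
        _ = (b * d * (b * d)) * (d * b) := by group
  have hbad2 : κ = v * x → Bad t V v x := by
    intro h2
    refine ⟨b, d, hb, hd, fun e => ?_⟩
    have : κ = 1 := by
      rw [e] at e2
      exact (mul_eq_right.1 e2.symm)
    rw [this] at h2
    exact xv (by
      have h3 := h.el.inv_eq hv
      rw [← h3]; exact (inv_eq_of_mul_eq_one_right h2.symm).symm)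
  have hbt : b * t = t * v * b := by
    have := hb.2.1; rwa [mul_inv_eq_iff_eq_mul] at this
  have cvw : Cen (v * w) V := Cen.of_mem h.el (V.mul_mem hv hw)
  rcases h.sq_mul hw hx hc hd with h3 | h3
  · -- `c d` is an involution
    exfalso
    have hj : II t V (w * x) (c * d) := ⟨hc.1.gmul hd.1, h.conj_mul hw hx hc.1 hc.2.1 hd.2.1, h3⟩
    have e3 : b * (c * d) = v * w * κ * (c * d * b) := by
      calc b * (c * d) = (b * c) * d := by group
        _ = v * w * (c * b) * d := by rw [e1]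
        _ = v * w * c * (b * d) := by group
        _ = v * w * (c * κ) * (d * b) := by rw [e2]; group
        _ = v * w * κ * (c * d * b) := by rw [hc.1 κ hκV]; group
    have e4 : b * (c * d) * (b * (c * d)) = v * w * κ := by
      calc b * (c * d) * (b * (c * d)) = v * w * κ * (c * d * b) * (b * (c * d)) := by
            rw [← e3]
        _ = v * w * κ * (c * d * (b * b) * (c * d)) := by group
        _ = v * w * κ := by rw [hb.2.2, mul_one, h3, mul_one]
    have e5 := h.sq_mul hv (V.mul_mem hw hx) hb hj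
    rw [e4] at e5
    rcases hκ with rfl | rfl
    · rw [mul_one] at e5
      rcases e5 with e5 | e5
      · exact hvw (by
          rw [← h.el.inv_eq hw]; exact (inv_eq_of_mul_eq_one_left e5).symm)
      · rw [← mul_assoc] at e5
        exact x1 (by simpa using e5.symm)
    · have e6 : v * w * (v * x) = w * x := by
        calc v * w * (v * x) = v * (w * v) * x := by group
          _ = (v * v) * (w * x) := by rw [h.el.gcomm hw hv]; group
          _ = w * x := by rw [h.el v hv, one_mul]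
      rw [e6] at e5
      rcases e5 with e5 | e5
      · exact xw (by
          rw [← h.el.inv_eq hw]; exact (inv_eq_of_mul_eq_one_right e5).symm)
      · exact v1 (by simpa using e5.symm)
  · -- `c d t` is an involution
    have hcd : Bad t V w x := by
      refine ⟨c, d, hc, hd, fun e => ?_⟩
      have h4 := sq_of_comm hc.2.2 hd.2.2 e
      rw [h4] at h3
      exact xw (by
          rw [← h.el.inv_eq hw]; exact (inv_eq_of_mul_eq_one_right h3.symm).symm)
    have hwx := V.mul_mem hw hx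
    have hg := h.conj_mul hw hx hc.1 hc.2.1 hd.2.1
    have hgu : UU t V (w * x) (c * d) := ⟨hc.1.gmul hd.1, hg, h3⟩
    have hj0 : II t V (w * x) (t * (c * d)) := h.II_of_UU hwx hgu
    refine ⟨?_, hcd⟩
    apply hbad2
    rcases hκ with rfl | hκ
    swap
    · exact hκ
    exfalso
    have e3 : b * (t * (c * d)) = w * (t * (c * d) * b) := by
      calc b * (t * (c * d)) = (b * t) * c * d := by group
        _ = t * v * (b * c) * d := by rw [hbt]; group
        _ = t * v * (v * w) * c * (b * d) := by rw [e1]; group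
        _ = t * (v * v) * w * c * (d * b) := by rw [e2]; group
        _ = (t * w) * (c * d * b) := by rw [h.el v hv]; group
        _ = w * (t * (c * d) * b) := by rw [← h.comm w hw]; group
    have e4 : b * (t * (c * d)) * (b * (t * (c * d))) = w := by
      calc b * (t * (c * d)) * (b * (t * (c * d)))
          = w * (t * (c * d) * b) * (b * (t * (c * d))) := by rw [← e3]
        _ = w * ((t * (c * d)) * (b * b) * (t * (c * d))) := by group
        _ = w := by rw [hb.2.2, mul_one, hj0.2.2, mul_one]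
    have e5 := h.sq_mul hv hwx hb hj0
    rw [e4] at e5
    rcases e5 with e5 | e5
    · exact w1 e5
    · -- w = v * (w * x)
      have e6 : v * (w * x) = w * (v * x) := by
        calc v * (w * x) = (v * w) * x := by group
          _ = w * (v * x) := by rw [h.el.gcomm hv hw]; group
      rw [e6] at e5
      have e7 : v * x = 1 := by simpa using e5.symm
      exact xv (by
          rw [← h.el.inv_eq hv]; exact (inv_eq_of_mul_eq_one_right e7).symm)

theorem exists_off (v w : G) : ∃ x ∈ V, x ≠ 1 ∧ x ≠ v ∧ x ≠ w ∧ x ≠ v * w := by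
  classical
  by_contra hc
  push Not at hc
  have h1 : (V : Set G) ⊆ (({1, v, w, v * w} : Finset G) : Set G) := by
    intro x hx
    simp only [Finset.coe_insert, Finset.coe_singleton, Set.mem_insert_iff, Set.mem_singleton_iff]
    by_cases e1 : x = 1
    · exact Or.inl e1
    by_cases e2 : x = v
    · exact Or.inr (Or.inl e2)
    by_cases e3 : x = w
    · exact Or.inr (Or.inr (Or.inl e3))
    exact Or.inr (Or.inr (Or.inr (hc x hx e1 e2 e3)))
  have h2 := Set.ncard_le_ncard h1 (Finset.finite_toSet _)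
  rw [Set.ncard_coe_finset] at h2
  have h3 : (({1, v, w, v * w} : Finset G)).card ≤ 4 := Finset.card_le_four
  have h4 : (V : Set G).ncard = 16 := h.card
  omega

/-- one bad pair: all pairs are bad -/
theorem bad_all {v w : G} (hv : v ∈ V) (hw : w ∈ V) (v1 : v ≠ 1) (w1 : w ≠ 1) (hvw : v ≠ w)
    (hbad : Bad t V v w) {p q : G} (hp : p ∈ V) (hq : q ∈ V) (p1 : p ≠ 1) (q1 : q ≠ 1)
    (hpq : p ≠ q) : Bad t V p q := by
  have step : ∀ {v w : G}, v ∈ V → w ∈ V → v ≠ 1 → w ≠ 1 → v ≠ w → Bad t V v w →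
      ∀ q ∈ V, q ≠ 1 → q ≠ v → Bad t V v q := by
    intro v w hv hw v1 w1 hvw hbad q hq q1 qv
    by_cases e1 : q = w
    · rw [e1]; exact hbad
    by_cases e2 : q = v * w
    · obtain ⟨x, hx, x1, xv, xw, xvw⟩ := h.exists_off v w
      have b1 := (h.lemmaA hv hw hx v1 w1 x1 hvw xv xw xvw hbad).1
      rw [e2]
      refine (h.lemmaA hv hx (V.mul_mem hv hw) v1 x1 ?_ (Ne.symm xv) ?_ (Ne.symm xvw) ?_ b1).1
      · rw [← e2]; exact q1
      · intro e; exact w1 (by simpa using e)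
      · intro e; exact xw (mul_left_cancel e).symm
    · exact (h.lemmaA hv hw hq v1 w1 q1 hvw qv e1 e2 hbad).1
  by_cases e : p = v
  · subst e
    exact step hv hw v1 w1 hvw hbad q hq q1 (Ne.symm hpq)
  · have b1 := step hv hw v1 w1 hvw hbad p hp p1 e
    exact step hp hv p1 v1 e (h.bad_symm b1) q hq q1 (Ne.symm hpq)

/-- if all pairs are bad, the elements `u` with `u² = v` commute -/
theorem comm_UU (hall : ∀ p ∈ V, ∀ q ∈ V, p ≠ 1 → q ≠ 1 → p ≠ q → Bad t V p q)
    {v w u u' : G} (hv : v ∈ V) (hw : w ∈ V) (v1 : v ≠ 1) (w1 : w ≠ 1)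
    (hu : UU t V v u) (hu' : UU t V w u') : u * u' = u' * u := by
  by_cases e : v = w
  · subst e
    obtain ⟨r, hr, rfl⟩ := h.same_UU hv v1 hu hu'
    rw [mul_assoc, ← hu.1 r hr]
  · have hb := h.II_of_UU hv hu
    have hb' := h.II_of_UU hw hu'
    have k1 := h.bad_iff hv hw v1 w1 (hall v hv w hw v1 w1 e) hb hb'
    have t1 : u * t = t * v * u := by
      have := hu.2.1; rwa [mul_inv_eq_iff_eq_mul] at this
    have t2 : u' * t = t * w * u' := by
      have := hu'.2.1; rwa [mul_inv_eq_iff_eq_mul] at this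
    -- `t u t u' = v u u'`
    have e1 : t * u * (t * u') = v * (u * u') := by
      calc t * u * (t * u') = t * (u * t) * u' := by group
        _ = (t * t) * v * (u * u') := by rw [t1]; group
        _ = v * (u * u') := by rw [h.tt, one_mul]
    rw [e1] at k1
    have e2 : u * u' * v = v * (u * u') := hu.1.gmul hu'.1 v hv
    have e3 : v * (u * u') * (v * (u * u')) = (u * u') * (u * u') := by
      calc v * (u * u') * (v * (u * u')) = v * ((u * u') * v) * (u * u') := by group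
        _ = (v * v) * ((u * u') * (u * u')) := by rw [e2]; group
        _ = (u * u') * (u * u') := by rw [h.el v hv, one_mul]
    rw [e3] at k1
    -- `(u u')² = v w = u² u'²`
    have e4 : u * (u' * u) * u' = u * (u * u') * u' := by
      calc u * (u' * u) * u' = (u * u') * (u * u') := by group
        _ = v * w := k1
        _ = (u * u) * (u' * u') := by rw [hu.2.2, hu'.2.2]
        _ = u * (u * u') * u' := by group
    exact (mul_left_cancel (mul_right_cancel e4)).symm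

end Half

section LemmaB

variable {t : G} {V W : Subgroup G}

/-- the elements of `V ⊓ W` -/
theorem mem_V0 {z z' x : G} (c4 : Nat.card (V ⊓ W : Subgroup G) = 4) (el : El V)
    (hz : z ∈ V) (hz2 : z ∈ W) (hz' : z' ∈ V) (hz2' : z' ∈ W) (z1 : z ≠ 1) (z1' : z' ≠ 1)
    (zz : z' ≠ z) (hx : x ∈ V) (hx2 : x ∈ W) :
    x = 1 ∨ x = z ∨ x = z' ∨ x = z * z' := by
  classical
  have h2 : z * z' ≠ 1 := fun e => zz (by
    rw [← el.inv_eq hz]; exact (inv_eq_of_mul_eq_one_right e).symm)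
  have h1 : (({1, z, z', z * z'} : Finset G)).card = 4 := by
    rw [Finset.card_insert_of_notMem, Finset.card_insert_of_notMem, Finset.card_pair]
    · intro e; exact z1 (by simpa using e.symm)
    · simp only [Finset.mem_insert, Finset.mem_singleton, not_or]
      exact ⟨Ne.symm zz, fun e => z1' (by simpa using e.symm)⟩
    · simp only [Finset.mem_insert, Finset.mem_singleton, not_or]
      exact ⟨Ne.symm z1, Ne.symm z1', Ne.symm h2⟩
  have h3 : (({1, z, z', z * z'} : Finset G) : Set G) ⊆ ((V ⊓ W : Subgroup G) : Set G) := by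
    intro y hy
    simp only [Finset.coe_insert, Finset.coe_singleton, Set.mem_insert_iff,
      Set.mem_singleton_iff] at hy
    rcases hy with rfl | rfl | rfl | rfl
    · exact (V ⊓ W).one_mem
    · exact ⟨hz, hz2⟩
    · exact ⟨hz', hz2'⟩
    · exact ⟨V.mul_mem hz hz', W.mul_mem hz2 hz2'⟩
  have hfin : ((V ⊓ W : Subgroup G) : Set G).Finite := by
    apply Set.finite_of_ncard_pos
    have : ((V ⊓ W : Subgroup G) : Set G).ncard = 4 := c4
    omega
  have h4 := Set.eq_of_subset_of_ncard_le h3 (by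
    rw [Set.ncard_coe_finset, h1]
    exact le_of_eq c4) hfin
  have h5 : x ∈ ((V ⊓ W : Subgroup G) : Set G) := ⟨hx, hx2⟩
  rw [← h4] at h5
  simpa using h5

/-- an element of `V` outside `W` -/
theorem exists_out (hc : Nat.card V = 16) (c4 : Nat.card (V ⊓ W : Subgroup G) = 4) :
    ∃ v ∈ V, v ∉ W := by
  by_contra hn
  push Not at hn
  have : V ⊓ W = V := inf_eq_left.2 hn
  rw [this] at c4
  omega

/-- two elements `w1, w2` of `W` independent modulo `V` -/
theorem exists_two (hc : Nat.card W = 16) (c4 : Nat.card (V ⊓ W : Subgroup G) = 4) {w1 : G}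
    (hw1 : w1 ∈ W) : ∃ w2 ∈ W, w2 ∉ V ∧ w1 * w2 ∉ V := by
  classical
  by_contra hn
  push Not at hn
  have hfin : ((V ⊓ W : Subgroup G) : Set G).Finite := by
    apply Set.finite_of_ncard_pos
    have : ((V ⊓ W : Subgroup G) : Set G).ncard = 4 := c4
    omega
  have h1 : (W : Set G) ⊆ ((V ⊓ W : Subgroup G) : Set G) ∪
      (fun x => w1⁻¹ * x) '' ((V ⊓ W : Subgroup G) : Set G) := by
    intro w hw
    by_cases e : w ∈ V
    · exact Or.inl ⟨e, hw⟩
    · exact Or.inr ⟨w1 * w, ⟨hn w hw e, W.mul_mem hw1 hw⟩, by simp⟩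
  have h2 := Set.ncard_le_ncard h1 (hfin.union (hfin.image _))
  have h3 := Set.ncard_union_le ((V ⊓ W : Subgroup G) : Set G)
    ((fun x => w1⁻¹ * x) '' ((V ⊓ W : Subgroup G) : Set G))
  have h4 := Set.ncard_image_le (f := fun x => w1⁻¹ * x) hfin
  have h5 : ((V ⊓ W : Subgroup G) : Set G).ncard = 4 := c4
  have h6 : (W : Set G).ncard = 16 := hc
  omega

/-- the elements `y_x` for `x ∈ V ∩ W` -/
theorem exists_Y (hV : Half t V) (ctW : Cen t W) {z y d : G}
    (c4 : Nat.card (V ⊓ W : Subgroup G) = 4) (zV : z ∈ V) (zW : z ∈ W) (z1 : z ≠ 1)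
    (yy : y * y = 1) (yV : Cen y V) (yW : Cen y W) (yt : y * t * y⁻¹ = t * z)
    (dV : Nrm d V) (dW : Nrm d W) (dt : d * t = t * d) (dz : d * z * d⁻¹ ≠ z) :
    ∀ x ∈ V, x ∈ W → x ≠ 1 → ∃ b, II t V x b ∧ Cen b W := by
  have hzV := dV.gconj zV
  have hzW := dW.gconj zW
  have h1 : II t V z y := ⟨yV, yt, yy⟩
  have dt' : d⁻¹ * t * d = t := by
    rw [mul_assoc, ← dt, ← mul_assoc, inv_mul_cancel, one_mul]
  have h2 : II t V (d * z * d⁻¹) (d * y * d⁻¹) := by
    refine ⟨yV.gconj dV, ?_, ?_⟩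
    · calc d * y * d⁻¹ * t * (d * y * d⁻¹)⁻¹ = d * y * (d⁻¹ * t * d) * y⁻¹ * d⁻¹ := by group
        _ = d * (y * t * y⁻¹) * d⁻¹ := by rw [dt']; group
        _ = (d * t) * z * d⁻¹ := by rw [yt]; group
        _ = t * (d * z * d⁻¹) := by rw [dt]; group
    · calc d * y * d⁻¹ * (d * y * d⁻¹) = d * (y * y) * d⁻¹ := by group
        _ = 1 := by rw [yy, mul_one, mul_inv_cancel]
  have z1' : d * z * d⁻¹ ≠ 1 := fun e => z1 (by
    rw [mul_inv_eq_one] at e; simpa using e)
  intro x hx hx2 x1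
  rcases mem_V0 c4 hV.el zV zW hzV hzW z1 z1' dz hx hx2 with e | e | e | e
  · exact absurd e x1
  · rw [e]; exact ⟨y, h1, yW⟩
  · rw [e]; exact ⟨_, h2, yW.gconj dW⟩
  · rw [e]
    have h3 : Cen (y * (d * y * d⁻¹)) W := yW.gmul (yW.gconj dW)
    have h4 := hV.conj_mul zV hzV h1.1 h1.2.1 h2.2.1
    rcases hV.sq_mul zV hzV h1 h2 with h5 | h5
    · exact ⟨_, ⟨h1.1.gmul h2.1, h4, h5⟩, h3⟩
    · exact ⟨_, hV.II_of_UU (V.mul_mem zV hzV) ⟨h1.1.gmul h2.1, h4, h5⟩, ctW.gmul h3⟩

/-- the commutator of an element `u` over `v` with an element `w` of `W` -/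
theorem exists_comm (hV : Half t V) (elW : El W) (ctW : Cen t W)
    (nV : ∀ w ∈ W, Nrm w V) (nW : ∀ v ∈ V, Nrm v W)
    (cVW : ∀ v ∈ V, v ∉ W → ∀ w ∈ W, v * w = w * v → w ∈ V)
    (hY : ∀ x ∈ V, x ∈ W → x ≠ 1 → ∃ b, II t V x b ∧ Cen b W)
    (hall : ∀ p ∈ V, ∀ q ∈ V, p ≠ 1 → q ≠ 1 → p ≠ q → Bad t V p q)
    {v u : G} (hv : v ∈ V) (hvW : v ∉ W) (hu : UU t V v u) {w : G} (hw : w ∈ W) (hwV : w ∉ V) :
    ∃ a r, UU t V (v * (w * v * w)) a ∧ Cen a W ∧ r ∈ V ∧ r * v ∈ W ∧
      w * u * w = u * (a * r) := by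
  have ww : w * w = 1 := elW w hw
  have wi : w⁻¹ = w := inv_eq_self_of_mul_self ww
  have v1 : v ≠ 1 := fun e => hvW (e ▸ W.one_mem)
  have wvw : w * v * w ∈ V := by
    have := (nV w hw).gconj hv; rwa [wi] at this
  have vwv : v * w * v ∈ W := by
    have := (nW v hv).gconj hw; rwa [hV.el.inv_eq hv] at this
  have hxV : v * (w * v * w) ∈ V := V.mul_mem hv wvw
  have hxW : v * (w * v * w) ∈ W := by
    have h1 : v * (w * v * w) = (v * w * v) * w := by group
    rw [h1]; exact W.mul_mem vwv hw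
  set x := v * (w * v * w) with hx
  have ex : w * v * w = v * x := by
    rw [hx, ← mul_assoc, hV.el v hv, one_mul]
  have x1 : x ≠ 1 := by
    intro e
    apply hwV
    apply cVW v hv hvW w hw
    have h1 : w * v * w = v := by rw [ex, e, mul_one]
    calc v * w = w * v * w * w := by rw [h1]
      _ = w * v := by rw [mul_assoc, ww, mul_one]
  obtain ⟨b, hb, bW⟩ := hY x hxV hxW x1
  have ha := hV.UU_of_II hxV hb
  have aW : Cen (t * b) W := ctW.gmul bW
  -- the conjugate `w u w`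
  have wt : w * t = t * w := (ctW w hw).symm
  have h1 : UU t V (v * x) (w * u * w) := by
    refine ⟨?_, ?_, ?_⟩
    · have := hu.1.gconj (nV w hw); rwa [wi] at this
    · calc w * u * w * t * (w * u * w)⁻¹ = w * u * (w * t) * w⁻¹ * u⁻¹ * w⁻¹ := by group
        _ = w * (u * t * u⁻¹) * w⁻¹ := by rw [wt]; group
        _ = (w * t) * v * w⁻¹ := by rw [hu.2.1]; group
        _ = t * (w * v * w) := by rw [wt, wi]; group
        _ = t * (v * x) := by rw [ex]
    · calc w * u * w * (w * u * w) = w * u * (w * w) * u * w := by group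
        _ = w * (u * u) * w := by rw [ww]; group
        _ = v * x := by rw [hu.2.2, ex]
  have vx1 : v * x ≠ 1 := by
    rw [← ex]; intro e
    apply v1
    calc v = w * (w * v * w) * w := by
          calc v = (w * w) * v * (w * w) := by rw [ww]; group
            _ = w * (w * v * w) * w := by group
      _ = 1 := by rw [e, mul_one, ww]
  have hcom := hV.comm_UU hall hv (V.mul_mem hv hxV) v1 vx1 hu h1
  -- `g = u⁻¹ (w u w)` is over `x`
  have hg : UU t V x (u⁻¹ * (w * u * w)) := by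
    refine ⟨hu.1.ginv.gmul h1.1, ?_, ?_⟩
    · have := hV.conj_inv_mul hv (V.mul_mem hv hxV) hu.1 hu.2.1 h1.2.1
      rw [this, ← mul_assoc v v x, hV.el v hv, one_mul]
    · have hcom' : (w * u * w) * u⁻¹ = u⁻¹ * (w * u * w) := by
        calc (w * u * w) * u⁻¹ = u⁻¹ * (u * (w * u * w)) * u⁻¹ := by group
          _ = u⁻¹ * ((w * u * w) * u) * u⁻¹ := by rw [hcom]
          _ = u⁻¹ * (w * u * w) := by group
      calc u⁻¹ * (w * u * w) * (u⁻¹ * (w * u * w))
          = u⁻¹ * ((w * u * w) * u⁻¹) * (w * u * w) := by group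
        _ = (u * u)⁻¹ * ((w * u * w) * (w * u * w)) := by rw [hcom']; group
        _ = v⁻¹ * (v * x) := by rw [hu.2.2, h1.2.2]
        _ = x := by group
  obtain ⟨r, hr, er⟩ := hV.same_UU hxV x1 ha hg
  refine ⟨t * b, r, ha, aW, hr, ?_, by rw [← er]; group⟩
  -- `r v` commutes with `w`
  set a := t * b with hadef
  have waw : w * a * w = a := by rw [← aW w hw, mul_assoc, ww, mul_one]
  -- `w g w = g⁻¹`
  have e1 : w * (u⁻¹ * (w * u * w)) * w = (u⁻¹ * (w * u * w))⁻¹ := by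
    have h2 : w * (u⁻¹ * (w * u * w)) * w = (w * u * w)⁻¹ * u := by
      calc w * (u⁻¹ * (w * u * w)) * w = w * u⁻¹ * w * u * (w * w) := by group
        _ = w⁻¹ * u⁻¹ * w⁻¹ * u := by rw [ww, wi, mul_one]
        _ = (w * u * w)⁻¹ * u := by group
    rw [h2]; group
  rw [er] at e1
  have rr : r⁻¹ = r := hV.el.inv_eq hr
  have e2 : w * (a * r) * w = a * (w * r * w) := by
    calc w * (a * r) * w = (w * a * w) * (w⁻¹ * r * w) := by group
      _ = a * (w * r * w) := by rw [waw, wi]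
  have e3 : (a * r)⁻¹ = a⁻¹ * r := by
    rw [mul_inv_rev, rr, ← ha.1.ginv r hr]
  have wrw : w * r * w ∈ V := by
    have := (nV w hw).gconj hr; rwa [wi] at this
  have e4 : w * r * w = x * r := by
    rw [e2, e3] at e1
    have e5 : x * (w * r * w) = r := by
      calc x * (w * r * w) = a * a * (w * r * w) := by rw [ha.2.2]
        _ = a * (a * (w * r * w)) := by group
        _ = a * (a⁻¹ * r) := by rw [e1]
        _ = r := by group
    calc w * r * w = x * (x * (w * r * w)) := by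
          rw [← mul_assoc x x, hV.el x hxV, one_mul]
      _ = x * r := by rw [e5]
  by_contra hrv
  apply hwV
  apply cVW (r * v) (V.mul_mem hr hv) hrv w hw
  have e6 : w * (r * v) * w = r * v := by
    calc w * (r * v) * w = (w * r * w) * (w⁻¹ * v * w) := by group
      _ = (x * r) * (v * x) := by rw [e4, wi, ex]
      _ = r * v * (x * x) := by
        rw [hV.el.gcomm hxV hr, mul_assoc, ← mul_assoc x v x, hV.el.gcomm hxV hv]; group
      _ = r * v := by rw [hV.el x hxV, mul_one]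
  calc r * v * w = w * (r * v) * w * w := by rw [e6]
    _ = w * (r * v) := by rw [mul_assoc _ w w, ww, mul_one]

/-- LEMMA B: no bad pair -/
theorem not_bad (hV : Half t V) (elW : El W) (cW : Nat.card W = 16) (ctW : Cen t W) (c4 : Nat.card (V ⊓ W : Subgroup G) = 4)
    (nV : ∀ w ∈ W, Nrm w V) (nW : ∀ v ∈ V, Nrm v W)
    (cVW : ∀ v ∈ V, v ∉ W → ∀ w ∈ W, v * w = w * v → w ∈ V)
    (hY : ∀ x ∈ V, x ∈ W → x ≠ 1 → ∃ b, II t V x b ∧ Cen b W)
    {p q : G} (hp : p ∈ V) (hq : q ∈ V) (p1 : p ≠ 1) (q1 : q ≠ 1) (hpq : p ≠ q) :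
    ¬ Bad t V p q := by
  intro hbad
  have hall : ∀ p ∈ V, ∀ q ∈ V, p ≠ 1 → q ≠ 1 → p ≠ q → Bad t V p q :=
    fun p' hp' q' hq' p1' q1' hpq' => hV.bad_all hp hq p1 q1 hpq hbad hp' hq' p1' q1' hpq'
  obtain ⟨v, hv, hvW⟩ := exists_out (W := W) hV.card c4
  have c4' : Nat.card (W ⊓ V : Subgroup G) = 4 := by rwa [inf_comm]
  obtain ⟨w1, hw1, hw1V⟩ := exists_out (W := V) cW c4'
  obtain ⟨w2, hw2, hw2V, hw12V⟩ := exists_two (V := V) cW c4 hw1
  obtain ⟨b, hb⟩ := hV.ex_II hv
  have hu := hV.UU_of_II hv hb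
  set u := t * b with hudef
  obtain ⟨a1, r1, ha1, aW1, hr1, hrv1, e1⟩ :=
    exists_comm hV elW ctW nV nW cVW hY hall hv hvW hu hw1 hw1V
  obtain ⟨a2, r2, ha2, aW2, hr2, hrv2, e2⟩ :=
    exists_comm hV elW ctW nV nW cVW hY hall hv hvW hu hw2 hw2V
  have ww1 : w1 * w1 = 1 := elW w1 hw1
  have ww2 : w2 * w2 = 1 := elW w2 hw2
  have wi1 : w1⁻¹ = w1 := inv_eq_self_of_mul_self ww1
  have wi2 : w2⁻¹ = w2 := inv_eq_self_of_mul_self ww2
  have hw12 : w1 * w2 = w2 * w1 := elW.gcomm hw1 hw2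
  have v1 : v ≠ 1 := fun e => hvW (e ▸ W.one_mem)
  -- membership of `x_i`
  have hx : ∀ w ∈ W, w ∉ V → v * (w * v * w) ∈ V ∧ v * (w * v * w) ≠ 1 := by
    intro w hw hwV
    have ww : w * w = 1 := elW w hw
    have wi : w⁻¹ = w := inv_eq_self_of_mul_self ww
    have wvw : w * v * w ∈ V := by
      have := (nV w hw).gconj hv; rwa [wi] at this
    refine ⟨V.mul_mem hv wvw, fun e => hwV (cVW v hv hvW w hw ?_)⟩
    have h1 : w * v * w = v := by
      have := inv_eq_of_mul_eq_one_right e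
      rw [hV.el.inv_eq hv] at this
      exact this.symm
    calc v * w = w * v * w * w := by rw [h1]
      _ = w * v := by rw [mul_assoc, ww, mul_one]
  obtain ⟨hx1V, hx11⟩ := hx w1 hw1 hw1V
  obtain ⟨hx2V, hx21⟩ := hx w2 hw2 hw2V
  -- conjugation of `r_i`
  have conjr : ∀ w ∈ W, ∀ r ∈ V, r * v ∈ W → w * r * w = r * (v * (w * v * w)) := by
    intro w hw r hr hrv
    have ww : w * w = 1 := elW w hw
    have wi : w⁻¹ = w := inv_eq_self_of_mul_self ww
    have wvw : w * v * w ∈ V := by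
      have := (nV w hw).gconj hv; rwa [wi] at this
    have h1 : w * (r * v) * w = r * v := by
      rw [elW.gcomm hw hrv, mul_assoc, ww, mul_one]
    have h2 : (w * r * w) * (w * v * w) = r * v := by
      calc (w * r * w) * (w * v * w) = w * r * (w * w) * v * w := by group
        _ = w * (r * v) * w := by rw [ww]; group
        _ = r * v := h1
    calc w * r * w = (w * r * w) * ((w * v * w) * (w * v * w)) := by
          rw [hV.el _ wvw, mul_one]
      _ = r * (v * (w * v * w)) := by rw [← mul_assoc, h2, mul_assoc]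
  have k1 := conjr w2 hw2 r1 hr1 hrv1
  have k2 := conjr w1 hw1 r2 hr2 hrv2
  have f1 : w2 * (w1 * u * w1) * w2 = u * (a2 * r2 * (a1 * r1)) * (v * (w2 * v * w2)) := by
    calc w2 * (w1 * u * w1) * w2 = w2 * (u * (a1 * r1)) * w2 := by rw [e1]
      _ = (w2 * u * w2) * (w2⁻¹ * a1 * w2) * (w2⁻¹ * r1 * w2) := by group
      _ = u * (a2 * r2) * (a1 * (r1 * (v * (w2 * v * w2)))) := by
        have : w2⁻¹ * a1 * w2 = a1 := by rw [mul_assoc, aW1 w2 hw2]; group
        rw [e2, this, wi2, k1]; group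
      _ = _ := by group
  have f2 : w1 * (w2 * u * w2) * w1 = u * (a1 * r1 * (a2 * r2)) * (v * (w1 * v * w1)) := by
    calc w1 * (w2 * u * w2) * w1 = w1 * (u * (a2 * r2)) * w1 := by rw [e2]
      _ = (w1 * u * w1) * (w1⁻¹ * a2 * w1) * (w1⁻¹ * r2 * w1) := by group
      _ = u * (a1 * r1) * (a2 * (r2 * (v * (w1 * v * w1)))) := by
        have : w1⁻¹ * a2 * w1 = a2 := by rw [mul_assoc, aW2 w1 hw1]; group
        rw [e1, this, wi1, k2]; group
      _ = _ := by group
  have f3 : w2 * (w1 * u * w1) * w2 = w1 * (w2 * u * w2) * w1 := by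
    calc w2 * (w1 * u * w1) * w2 = (w2 * w1) * u * (w1 * w2) := by group
      _ = (w1 * w2) * u * (w2 * w1) := by rw [hw12]
      _ = w1 * (w2 * u * w2) * w1 := by group
  have ca : a1 * a2 = a2 * a1 := hV.comm_UU hall hx1V hx2V hx11 hx21 ha1 ha2
  have f4 : a1 * r1 * (a2 * r2) = a2 * r2 * (a1 * r1) := by
    have g1 : r1 * a2 = a2 * r1 := (ha2.1 r1 hr1).symm
    have g2 : r2 * a1 = a1 * r2 := (ha1.1 r2 hr2).symm
    calc a1 * r1 * (a2 * r2) = a1 * (r1 * a2) * r2 := by group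
      _ = (a1 * a2) * (r1 * r2) := by rw [g1]; group
      _ = a2 * a1 * (r2 * r1) := by rw [ca, hV.el.gcomm hr1 hr2]
      _ = a2 * (a1 * r2) * r1 := by group
      _ = a2 * r2 * (a1 * r1) := by rw [← g2]; group
  rw [f1, f2, f4] at f3
  have f5 := mul_left_cancel f3
  have f6 : w2 * v * w2 = w1 * v * w1 := mul_left_cancel f5
  apply hw12V
  apply cVW v hv hvW _ (W.mul_mem hw1 hw2)
  calc v * (w1 * w2) = (w1 * w1) * v * w1 * w2 := by rw [ww1]; group
    _ = w1 * (w1 * v * w1) * w2 := by group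
    _ = w1 * (w2 * v * w2) * w2 := by rw [f6]
    _ = w1 * w2 * v * (w2 * w2) := by group
    _ = w1 * w2 * v := by rw [ww2, mul_one]

/-- from good pairs to `InU` -/
theorem comm_of_good (hV : Half t V)
    (hgood : ∀ p ∈ V, ∀ q ∈ V, p ≠ 1 → q ≠ 1 → p ≠ q → ¬ Bad t V p q) :
    ∀ b b', InU t V b → InU t V b' → b * b' = b' * b := by
  intro b b' ⟨⟨cb, v, hv, hb⟩, bb, hbt⟩ ⟨⟨cb', w, hw, hb'⟩, bb', hbt'⟩
  by_cases v1 : v = 1
  · have : b ∈ V := hbt (by
      rw [v1, mul_one, mul_inv_eq_iff_eq_mul] at hb; exact hb)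
    exact (cb' b this).symm
  by_cases w1 : w = 1
  · have : b' ∈ V := hbt' (by
      rw [w1, mul_one, mul_inv_eq_iff_eq_mul] at hb'; exact hb')
    exact cb b' this
  have h1 : II t V v b := ⟨cb, hb, bb⟩
  have h2 : II t V w b' := ⟨cb', hb', bb'⟩
  by_cases e : v = w
  · subst e
    obtain ⟨r, hr, rfl⟩ := hV.same_II hv v1 h1 h2
    rw [mul_assoc, ← cb r hr]
  · by_contra hne
    exact hgood v hv w hw v1 w1 e ⟨b, b', h1, h2, hne⟩

/-- the involutions of `B_V` outside `⟨t⟩V` commute (here `W` is only an elementary abelian subgroup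
of order 16 of `C(t)`) -/
theorem goodV {z y d : G} (hV : Half t V) (elW : El W) (cW : Nat.card W = 16)
    (tW : ∀ w ∈ W, w * t = t * w)
    (c4 : Nat.card (V ⊓ W : Subgroup G) = 4) (zV : z ∈ V) (zW : z ∈ W) (z1 : z ≠ 1)
    (nV : ∀ w ∈ W, Nrm w V) (nW : ∀ v ∈ V, Nrm v W)
    (cVW : ∀ v ∈ V, v ∉ W → ∀ w ∈ W, v * w = w * v → w ∈ V)
    (yy : y * y = 1) (yV : Cen y V) (yW : Cen y W) (yt : y * t * y⁻¹ = t * z)
    (dV : Nrm d V) (dW : Nrm d W) (dt : d * t = t * d) (dz : d * z * d⁻¹ ≠ z) :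
    ∀ b b', InU t V b → InU t V b' → b * b' = b' * b := by
  have ctW : Cen t W := fun w hw => (tW w hw).symm
  have hY := exists_Y hV ctW c4 zV zW z1 yy yV yW yt dV dW dt dz
  exact comm_of_good hV fun p hp q hq p1 q1 hpq =>
    not_bad hV elW cW ctW c4 nV nW cVW hY hp hq p1 q1 hpq

/-- **NODE C**: the involutions of `B_V` outside `⟨t⟩V` commute, the same for `W` -/
theorem good {z y d : G} (hV : Half t V) (hW : Half t W)
    (c4 : Nat.card (V ⊓ W : Subgroup G) = 4) (zV : z ∈ V) (zW : z ∈ W) (z1 : z ≠ 1)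
    (nV : ∀ w ∈ W, Nrm w V) (nW : ∀ v ∈ V, Nrm v W)
    (cVW : ∀ v ∈ V, v ∉ W → ∀ w ∈ W, v * w = w * v → w ∈ V)
    (yy : y * y = 1) (yV : Cen y V) (yW : Cen y W) (yt : y * t * y⁻¹ = t * z)
    (dV : Nrm d V) (dW : Nrm d W) (dt : d * t = t * d) (dz : d * z * d⁻¹ ≠ z) :
    (∀ b b', InU t V b → InU t V b' → b * b' = b' * b) ∧
      (∀ b b', InU t W b → InU t W b' → b * b' = b' * b) := by
  have hY := exists_Y hV hW.cent_t c4 zV zW z1 yy yV yW yt dV dW dt dz
  have hgV : ∀ p ∈ V, ∀ q ∈ V, p ≠ 1 → q ≠ 1 → p ≠ q → ¬ Bad t V p q :=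
    fun p hp q hq p1 q1 hpq => not_bad hV hW.el hW.card hW.cent_t c4 nV nW cVW hY hp hq p1 q1 hpq
  refine ⟨comm_of_good hV hgV, comm_of_good hW ?_⟩
  intro p hp q hq p1 q1 hpq hbad
  -- the pair `z, d z d⁻¹`
  have hzV := dV.gconj zV
  have hzW := dW.gconj zW
  have z1' : d * z * d⁻¹ ≠ 1 := fun e => z1 (by
    rw [mul_inv_eq_one] at e; simpa using e)
  obtain ⟨b', hb', bW'⟩ := hY _ hzV hzW z1'
  have h1 : II t V z y := ⟨yV, yt, yy⟩
  have hb2 := hW.bad_all hp hq p1 q1 hpq hbad zW hzW z1 z1' (Ne.symm dz)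
  have h3 := hW.bad_iff zW hzW z1 z1' hb2 ⟨yW, yt, yy⟩ ⟨bW', hb'.2⟩
  have h4 : y * b' = b' * y := by
    by_contra hne
    exact hgV z zV _ hzV z1 z1' (Ne.symm dz) ⟨y, b', h1, hb', hne⟩
  rw [sq_of_comm yy hb'.2.2 h4] at h3
  have h5 := inv_eq_of_mul_eq_one_right h3.symm
  rw [hV.el.inv_eq zV] at h5
  exact dz h5.symm

end LemmaB

end Cfsg.Agent.OddHalf.MM
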