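import Cfsg.Agent.OddHalf.MM.Elem

/-!
# ODD half, D8, `M22`, `M23`: node F, part (F_c) (helper438)

All involutions of the coset `c S0`, `S0 = U_V U_W`, are conjugate to `c`.
-/

set_option autoImplicit false

namespace Cfsg.Agent.OddHalf.MM

variable {G : Type*} [Group G]

/-- an involution acting nontrivially on a quotient of order 4 of an elementary abelian group:
fixed points are commutators -/
theorem fix4 {E E0 : Subgroup G} {c : G} (hE : El E) (h0 : E0 ≤ E)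
    (hcard : Nat.card E = 4 * Nat.card E0) (hpos : Nat.card E0 ≠ 0)
    (cc : c * c = 1) (nE : Nrm c E) (n0 : Nrm c E0)
    (hv : ∃ v ∈ E, c * v * c⁻¹ * v⁻¹ ∉ E0) {y : G} (hy : y ∈ E)
    (hy0 : c * y * c⁻¹ * y⁻¹ ∈ E0) : ∃ e ∈ E, y * (c * e * c⁻¹ * e⁻¹) ∈ E0 := by
  classical
  obtain ⟨v, hvE, hv0⟩ := hv
  set d : G := c * v * c⁻¹ * v⁻¹ with hd
  have ci : c⁻¹ = c := inv_eq_of_mul_eq_one_right cc
  have hvc : c * v * c⁻¹ ∈ E := (nE v).mpr hvE
  have hdE : d ∈ E := E.mul_mem hvc (E.inv_mem hvE)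
  -- `[c, d] = 1`
  have hdd : c * d * c⁻¹ = d := by
    have h1 : c * d * c⁻¹ = (c * c) * v * (c * c)⁻¹ * (c * v⁻¹ * c⁻¹) := by rw [hd]; group
    have h2 : (c * v * c⁻¹)⁻¹ = c * v * c⁻¹ := hE.inv hvc
    have h3 : c * v⁻¹ * c⁻¹ = c * v * c⁻¹ := by
      rw [← h2]; group
    rw [h1, h3, cc, hd, hE.inv hvE]
    have := hE.comm hvE hvc
    simpa using this
  have hv1 : v ∉ E0 := by
    intro h
    exact hv0 (E0.mul_mem ((n0 v).mpr h) (E0.inv_mem h))
  have hvd : v * d ∉ E0 := by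
    intro h
    apply hv0
    have h1 := E0.mul_mem ((n0 _).mpr h) (E0.inv_mem h)
    have h2 : c * (v * d) * c⁻¹ * (v * d)⁻¹ = (c * v * c⁻¹) * (c * d * c⁻¹) * d⁻¹ * v⁻¹ := by group
    rw [h2, hdd] at h1
    have h3 : c * v * c⁻¹ * d * d⁻¹ * v⁻¹ = d := by rw [hd]; group
    rw [h3] at h1
    exact h1
  have hyv : y * v ∉ E0 := by
    intro h
    apply hv0
    have h1 := E0.mul_mem ((n0 _).mpr h) (E0.inv_mem h)
    -- c y v c⁻¹ (y v)⁻¹ = [c,y] [c,v]
    have e1 : c * (y * v) * c⁻¹ * (y * v)⁻¹ = (c * y * c⁻¹) * ((c * v * c⁻¹) * v⁻¹) * y⁻¹ := by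
      group
    have e2 : (c * v * c⁻¹) * v⁻¹ * y⁻¹ = y⁻¹ * ((c * v * c⁻¹) * v⁻¹) :=
      hE.comm hdE (E.inv_mem hy)
    have e3 : c * (y * v) * c⁻¹ * (y * v)⁻¹ = (c * y * c⁻¹ * y⁻¹) * d := by
      rw [e1, mul_assoc (c * y * c⁻¹), e2, hd]; group
    rw [e3] at h1
    have h4 := E0.mul_mem (E0.inv_mem hy0) h1
    have e5 : (c * y * c⁻¹ * y⁻¹)⁻¹ * ((c * y * c⁻¹ * y⁻¹) * d) = d := by group
    rw [e5] at h4
    exact h4
  have hyvd : y * (v * d) ∉ E0 := by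
    intro h
    apply hv0
    have h1 := E0.mul_mem ((n0 _).mpr h) (E0.inv_mem h)
    have e1 : c * (y * (v * d)) * c⁻¹ * (y * (v * d))⁻¹ =
        (c * y * c⁻¹) * ((c * v * c⁻¹) * (c * d * c⁻¹) * d⁻¹ * v⁻¹) * y⁻¹ := by group
    have e2 : (c * v * c⁻¹) * (c * d * c⁻¹) * d⁻¹ * v⁻¹ = d := by rw [hdd, hd]; group
    have e3 : d * y⁻¹ = y⁻¹ * d := hE.comm hdE (E.inv_mem hy)
    have e4 : c * (y * (v * d)) * c⁻¹ * (y * (v * d))⁻¹ = (c * y * c⁻¹ * y⁻¹) * d := by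
      rw [e1, e2, mul_assoc (c * y * c⁻¹), e3]; group
    rw [e4] at h1
    have h4 := E0.mul_mem (E0.inv_mem hy0) h1
    have e5 : (c * y * c⁻¹ * y⁻¹)⁻¹ * ((c * y * c⁻¹ * y⁻¹) * d) = d := by group
    rw [e5] at h4
    exact h4
  by_cases hyE : y ∈ E0
  · exact ⟨1, E.one_mem, by simpa using hyE⟩
  by_cases hyd : y * d ∈ E0
  · exact ⟨v, hvE, by rw [← hd]; exact hyd⟩
  exfalso
  -- five cosets in a quotient of order four
  have hidx : (E0.subgroupOf E).index = 4 := by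
    have h1 := Subgroup.card_mul_index (E0.subgroupOf E)
    rw [Nat.card_congr (Subgroup.subgroupOfEquivOfLe h0).toEquiv, hcard] at h1
    have h2 : Nat.card E0 * (E0.subgroupOf E).index = Nat.card E0 * 4 := by rw [h1]; ring
    exact Nat.eq_of_mul_eq_mul_left (Nat.pos_of_ne_zero hpos) h2
  have hfinQ : Finite (E ⧸ E0.subgroupOf E) := Nat.finite_of_card_ne_zero (by
    have : Nat.card (E ⧸ E0.subgroupOf E) = 4 := hidx
    rw [this]; norm_num)
  have := Fintype.ofFinite (E ⧸ E0.subgroupOf E)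
  let q : E → E ⧸ E0.subgroupOf E := fun x => QuotientGroup.mk x
  have hq : ∀ a b : E, q a = q b → (a : G) * b ∈ E0 := by
    intro a b hab
    have h1 := QuotientGroup.eq.mp hab
    have h2 : ((a⁻¹ * b : E) : G) ∈ E0 := Subgroup.mem_subgroupOf.mp h1
    have h3 : ((a⁻¹ * b : E) : G) = (a : G)⁻¹ * b := rfl
    rw [h3, hE.inv a.2] at h2
    exact h2
  let S : Finset (E ⧸ E0.subgroupOf E) :=
    {q 1, q ⟨v, hvE⟩, q ⟨d, hdE⟩, q ⟨v * d, E.mul_mem hvE hdE⟩, q ⟨y, hy⟩}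
  have hS : S.card = 5 := by
    have n1 : q 1 ≠ q ⟨v, hvE⟩ := fun h => hv1 (by simpa using hq _ _ h)
    have n2 : q 1 ≠ q ⟨d, hdE⟩ := fun h => hv0 (by simpa using hq _ _ h)
    have n3 : q 1 ≠ q ⟨v * d, E.mul_mem hvE hdE⟩ := fun h => hvd (by simpa using hq _ _ h)
    have n4 : q 1 ≠ q ⟨y, hy⟩ := fun h => hyE (by simpa using hq _ _ h)
    have n5 : q ⟨v, hvE⟩ ≠ q ⟨d, hdE⟩ := fun h => hvd (hq _ _ h)
    have n6 : q ⟨v, hvE⟩ ≠ q ⟨v * d, E.mul_mem hvE hdE⟩ := fun h => by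
      have := hq _ _ h
      apply hv0
      have e : v * (v * d) = d := by rw [← mul_assoc, hE v hvE, one_mul]
      rw [← e]; exact this
    have n7 : q ⟨v, hvE⟩ ≠ q ⟨y, hy⟩ := fun h => by
      have := hq _ _ h
      apply hyv
      rw [hE.comm hy hvE]; exact this
    have n8 : q ⟨d, hdE⟩ ≠ q ⟨v * d, E.mul_mem hvE hdE⟩ := fun h => by
      have := hq _ _ h
      apply hv1
      have e : d * (v * d) = v := by
        rw [hE.comm hvE hdE, ← mul_assoc, hE d hdE, one_mul]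
      rw [← e]; exact this
    have n9 : q ⟨d, hdE⟩ ≠ q ⟨y, hy⟩ := fun h => by
      have := hq _ _ h
      apply hyd
      rw [hE.comm hy hdE]; exact this
    have n10 : q ⟨v * d, E.mul_mem hvE hdE⟩ ≠ q ⟨y, hy⟩ := fun h => by
      have := hq _ _ h
      apply hyvd
      rw [hE.comm hy (E.mul_mem hvE hdE)]; exact this
    show Finset.card {q 1, q ⟨v, hvE⟩, q ⟨d, hdE⟩, q ⟨v * d, E.mul_mem hvE hdE⟩, q ⟨y, hy⟩} = 5
    rw [Finset.card_insert_of_notMem, Finset.card_insert_of_notMem,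
      Finset.card_insert_of_notMem, Finset.card_insert_of_notMem, Finset.card_singleton]
    · simp [n10]
    · simp [n8, n9]
    · simp [n5, n6, n7]
    · simp [n1, n2, n3, n4]
  have h4 : Fintype.card (E ⧸ E0.subgroupOf E) = 4 := by
    rw [← Nat.card_eq_fintype_card]; exact hidx
  have h5 := Finset.card_le_univ S
  omega

/-- the conjugation step -/
theorem cj_step {c s a : G} (cc : c * c = 1)
    (h : c * (c * a⁻¹ * c * s * a) * (c * (c * a⁻¹ * c * s * a)) = 1 →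
      ∃ x : G, c * (c * a⁻¹ * c * s * a) = x * c * x⁻¹)
    (hs : c * s * (c * s) = 1) : ∃ x : G, c * s = x * c * x⁻¹ := by
  have e : c * (c * a⁻¹ * c * s * a) = a⁻¹ * (c * s) * a := by
    calc c * (c * a⁻¹ * c * s * a) = (c * c) * a⁻¹ * (c * s) * a := by group
      _ = a⁻¹ * (c * s) * a := by rw [cc]; group
  rw [e] at h
  obtain ⟨x, hx⟩ := h (by
    calc a⁻¹ * (c * s) * a * (a⁻¹ * (c * s) * a) = a⁻¹ * (c * s * (c * s)) * a := by group
      _ = 1 := by rw [hs]; group)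
  refine ⟨a * x, ?_⟩
  calc c * s = a * (a⁻¹ * (c * s) * a) * a⁻¹ := by group
    _ = a * (x * c * x⁻¹) * a⁻¹ := by rw [hx]
    _ = a * x * c * (a * x)⁻¹ := by group

/-- the data for node F, in terms of `G` -/
structure FData (t c : G) (V W UV UW : Subgroup G) : Prop where
  tt : t * t = 1
  cc : c * c = 1
  ct : c * t = t * c
  nV : Nrm c V
  nW : Nrm c W
  elV : El V
  elW : El W
  cardV : Nat.card V = 16
  cardW : Nat.card W = 16
  cardVW : Nat.card (V ⊓ W : Subgroup G) = 4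
  commV : ∀ v ∈ V, v * t = t * v
  commW : ∀ w ∈ W, w * t = t * w
  LV : Layer t V UV
  LW : Layer t W UW
  /-- node E -/
  nE : ∀ b ∈ UW, Nrm b UV
  /-- elements of `W` inside `U_V` -/
  WU : ∀ w ∈ W, w ∈ UV → w ∈ V
  /-- the elements `y_x` -/
  yx : ∀ x ∈ V, x ∈ W → ∃ y ∈ UV, y ∈ UW ∧ y * t * y⁻¹ = t * x
  c0 : ∃ x ∈ V, x ∈ W ∧ c * x ≠ x * c
  cV : ∃ v ∈ V, c * v * c⁻¹ * v⁻¹ ∉ W
  cW : ∃ w ∈ W, c * w * c⁻¹ * w⁻¹ ∉ V

namespace FData

variable {t c : G} {V W UV UW : Subgroup G}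

theorem ci (h : FData t c V W UV UW) : c⁻¹ = c := inv_eq_of_mul_eq_one_right h.cc

/-- `β(c b c) = c β(b) c` -/
theorem beta_c (h : FData t c V W UV UW) {b v : G} (e : b * t * b⁻¹ = t * v) :
    (c * b * c) * t * (c * b * c)⁻¹ = t * (c * v * c) := by
  have hc : c * t * c = t := by
    calc c * t * c = t * c * c := by rw [h.ct]
      _ = t * (c * c) := by group
      _ = t := by rw [h.cc, mul_one]
  calc (c * b * c) * t * (c * b * c)⁻¹ = c * (b * (c * t * c⁻¹) * b⁻¹) * c⁻¹ := by group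
    _ = c * (b * (c * t * c) * b⁻¹) * c := by rw [h.ci]
    _ = c * (t * v) * c := by rw [hc, e]
    _ = c * t * v * c := by group
    _ = t * c * v * c := by rw [h.ct]
    _ = t * (c * v * c) := by group

theorem cUV (h : FData t c V W UV UW) {b : G} (hb : b ∈ UV) : c * b * c ∈ UV := by
  have := (h.LV.nrm c h.nV h.ct b).mpr hb
  rw [h.ci] at this; exact this

theorem cUW (h : FData t c V W UV UW) {b : G} (hb : b ∈ UW) : c * b * c ∈ UW := by
  have := (h.LW.nrm c h.nW h.ct b).mpr hb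
  rw [h.ci] at this; exact this

theorem cVm (h : FData t c V W UV UW) {b : G} (hb : b ∈ V) : c * b * c ∈ V := by
  have := (h.nV b).mpr hb
  rw [h.ci] at this; exact this

theorem cWm (h : FData t c V W UV UW) {b : G} (hb : b ∈ W) : c * b * c ∈ W := by
  have := (h.nW b).mpr hb
  rw [h.ci] at this; exact this

/-- fixed points mod `W` in `V` -/
theorem fixV (h : FData t c V W UV UW) {y : G} (hy : y ∈ V) (hy0 : c * y * c * y ∈ W) :
    ∃ e ∈ V, y * (c * e * c * e) ∈ W ∧ y * (c * e * c * e) ∈ V := by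
  have := fix4 (E := V) (E0 := V ⊓ W) (c := c) h.elV inf_le_left
    (by rw [h.cardV, h.cardVW]) (by rw [h.cardVW]; norm_num) h.cc h.nV
    (fun x => and_congr (h.nV x) (h.nW x))
    (by
      obtain ⟨v, hv, h1⟩ := h.cV
      exact ⟨v, hv, fun h2 => h1 h2.2⟩) hy
    (by
      rw [h.ci, h.elV.inv hy]
      exact ⟨V.mul_mem (h.cVm hy) hy, hy0⟩)
  obtain ⟨e, he, h2⟩ := this
  rw [h.ci, h.elV.inv he] at h2
  exact ⟨e, he, h2.2, h2.1⟩

/-- fixed points mod `V` in `W` -/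
theorem fixW (h : FData t c V W UV UW) {y : G} (hy : y ∈ W) (hy0 : c * y * c * y ∈ V) :
    ∃ e ∈ W, y * (c * e * c * e) ∈ V ∧ y * (c * e * c * e) ∈ W := by
  have := fix4 (E := W) (E0 := V ⊓ W) (c := c) h.elW inf_le_right
    (by rw [h.cardW, h.cardVW]) (by rw [h.cardVW]; norm_num) h.cc h.nW
    (fun x => and_congr (h.nV x) (h.nW x))
    (by
      obtain ⟨v, hv, h1⟩ := h.cW
      exact ⟨v, hv, fun h2 => h1 h2.1⟩) hy
    (by
      rw [h.ci, h.elW.inv hy]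
      exact ⟨hy0, W.mul_mem (h.cWm hy) hy⟩)
  obtain ⟨e, he, h2⟩ := this
  rw [h.ci, h.elW.inv he] at h2
  exact ⟨e, he, h2.1, h2.2⟩

/-- fixed points in `V ∩ W` -/
theorem fix0 (h : FData t c V W UV UW) {y : G} (hy : y ∈ V) (hy' : y ∈ W)
    (hy0 : c * y * c * y = 1) :
    ∃ e ∈ V, e ∈ W ∧ y * (c * e * c * e) = 1 := by
  have hel : El (V ⊓ W : Subgroup G) := fun x hx => h.elV x hx.1
  have := fix4 (E := V ⊓ W) (E0 := ⊥) (c := c) hel bot_le
    (by rw [h.cardVW, Subgroup.card_bot]) (by rw [Subgroup.card_bot]; norm_num) h.cc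
    (fun x => and_congr (h.nV x) (h.nW x))
    (fun x => by
      rw [Subgroup.mem_bot, Subgroup.mem_bot]
      constructor
      · intro h1
        have : x = c⁻¹ * (c * x * c⁻¹) * c := by group
        rw [this, h1]; group
      · intro h1; rw [h1]; group)
    (by
      obtain ⟨v, hv, hv', h1⟩ := h.c0
      refine ⟨v, ⟨hv, hv'⟩, fun h2 => h1 ?_⟩
      rw [Subgroup.mem_bot] at h2
      have : c * v = (c * v * c⁻¹ * v⁻¹) * v * c := by group
      rw [this, h2, one_mul]) ⟨hy, hy'⟩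
    (by
      rw [h.ci, h.elV.inv hy, Subgroup.mem_bot]
      exact hy0)
  obtain ⟨e, he, h2⟩ := this
  rw [h.ci, h.elV.inv he.1, Subgroup.mem_bot] at h2
  exact ⟨e, he.1, he.2, h2⟩

/-- elements of `V` in `U_W` -/
theorem VU (h : FData t c V W UV UW) {v : G} (hv : v ∈ V) (hv' : v ∈ UW) : v ∈ W :=
  h.LW.cT v hv' (h.commV v hv)

/-- an element of `U_W` with `β` in `V ∩ W` is in `U0 W` -/
theorem low (h : FData t c V W UV UW) {b x : G} (hb : b ∈ UW) (e : b * t * b⁻¹ = t * x)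
    (hx : x ∈ V) (hx' : x ∈ W) : ∃ y ∈ UV, y ∈ UW ∧ ∃ w ∈ W, b = y * w := by
  obtain ⟨y, hy, hy', ey⟩ := h.yx x hx hx'
  refine ⟨y, hy, hy', y⁻¹ * b, ?_, by group⟩
  apply h.LW.cT _ (UW.mul_mem (UW.inv_mem hy') hb)
  have e1 := beta_mul (t := t) (V := W) ((h.LW.cV y hy').inv) hx'
    (beta_inv h.elW (h.LW.cV y hy') hx' ey) e
  rw [h.elW x hx', mul_one] at e1
  have := congrArg (· * (y⁻¹ * b)) e1
  simpa [mul_assoc] using this

theorem low' (h : FData t c V W UV UW) {b x : G} (hb : b ∈ UV) (e : b * t * b⁻¹ = t * x)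
    (hx : x ∈ V) (hx' : x ∈ W) : ∃ y ∈ UV, y ∈ UW ∧ ∃ v ∈ V, b = y * v := by
  obtain ⟨y, hy, hy', ey⟩ := h.yx x hx hx'
  refine ⟨y, hy, hy', y⁻¹ * b, ?_, by group⟩
  apply h.LV.cT _ (UV.mul_mem (UV.inv_mem hy) hb)
  have e1 := beta_mul (t := t) (V := V) ((h.LV.cV y hy).inv) hx
    (beta_inv h.elV (h.LV.cV y hy) hx ey) e
  rw [h.elV x hx, mul_one] at e1
  have := congrArg (· * (y⁻¹ * b)) e1
  simpa [mul_assoc] using this

/-- step 1 -/
theorem step1 (h : FData t c V W UV UW) {s : G} (hs : s ∈ V) (hs' : s ∈ W)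
    (hcs : c * s * (c * s) = 1) : ∃ x : G, c * s = x * c * x⁻¹ := by
  obtain ⟨e, he, he', h1⟩ := h.fix0 hs hs' (by rw [← hcs]; group)
  -- s = (c e c e)⁻¹ = e c e c
  refine ⟨e, ?_⟩
  have h2 : s = (c * e * c * e)⁻¹ := eq_inv_of_mul_eq_one_left h1
  rw [h2]
  have ci := h.ci
  have ei := h.elV.inv he
  -- c * (c e c e)⁻¹ = c * (e⁻¹ c⁻¹ e⁻¹ c⁻¹) ; commuting
  have h3 : (c * e * c) * e = e * (c * e * c) := h.elV.comm (h.cVm he) he
  have h4 : (c * e * c * e)⁻¹ = c * e * c * e := by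
    apply inv_eq_of_mul_eq_one_right
    exact h.elV _ (V.mul_mem (h.cVm he) he)
  rw [h4, ei]
  calc c * (c * e * c * e) = (c * c) * e * c * e := by group
    _ = e * c * e := by rw [h.cc, one_mul]

/-- step 2 -/
theorem step2 (h : FData t c V W UV UW) {s : G} (hs : s ∈ UV) (hs' : s ∈ UW)
    (hcs : c * s * (c * s) = 1) : ∃ x : G, c * s = x * c * x⁻¹ := by
  obtain ⟨x, hx, ex⟩ := h.LV.beta s hs
  obtain ⟨x', hx', ex'⟩ := h.LW.beta s hs'
  have hxx : x = x' := mul_left_cancel (ex.symm.trans ex')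
  subst hxx
  have e1 := beta_mul (t := t) (V := V) (h.LV.cV _ (h.cUV hs)) hx (h.beta_c ex) ex
  have e2 : c * s * c * s = 1 := by rw [← hcs]; group
  rw [e2] at e1
  have e3 : c * x * c * x = 1 := by
    have : t * (c * x * c * x) = t := by rw [← e1]; group
    exact mul_eq_left.mp this
  obtain ⟨e, he, he', h1⟩ := h.fix0 hx hx' e3
  obtain ⟨a, ha, ha', ea⟩ := h.yx e he he'
  refine cj_step (a := a) h.cc (fun hcs' => ?_) hcs
  have hm : c * a⁻¹ * c * s * a ∈ UV :=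
    UV.mul_mem (UV.mul_mem (h.cUV (UV.inv_mem ha)) hs) ha
  have hm' : c * a⁻¹ * c * s * a ∈ UW :=
    UW.mul_mem (UW.mul_mem (h.cUW (UW.inv_mem ha')) hs') ha'
  have b1 := h.beta_c (beta_inv h.elV (h.LV.cV _ ha) he ea)
  have b2 := beta_mul (t := t) (V := V) (h.LV.cV _ (h.cUV (UV.inv_mem ha))) hx b1 ex
  have b3 := beta_mul (t := t) (V := V)
    ((h.LV.cV _ (h.cUV (UV.inv_mem ha))).mul (h.LV.cV _ hs)) he b2 ea
  have b4 : c * e * c * x * e = 1 := by
    have q1 : c * e * c * x = x * (c * e * c) := h.elV.comm (h.cVm he) hx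
    rw [q1, ← h1]; group
  rw [b4, mul_one] at b3
  have b5 : (c * a⁻¹ * c * s * a) * t = t * (c * a⁻¹ * c * s * a) := by
    have := congrArg (· * (c * a⁻¹ * c * s * a)) b3
    simpa [mul_assoc] using this
  exact h.step1 (h.LV.cT _ hm b5) (h.LW.cT _ hm' b5) hcs'

/-- step 3 -/
theorem step3 (h : FData t c V W UV UW) {v y : G} (hv : v ∈ V) (hy : y ∈ UV) (hy' : y ∈ UW)
    (hcs : c * (y * v) * (c * (y * v)) = 1) : ∃ x : G, c * (y * v) = x * c * x⁻¹ := by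
  have hvU := h.LV.VU hv
  -- (c v c) v ∈ UW
  have e1 : c * v * c * v ∈ UW := by
    have h1 : (c * y * c) * (c * v * c) * y * v = 1 := by
      calc (c * y * c) * (c * v * c) * y * v = c * y * (c * c) * v * (c * y * v) := by group
        _ = c * (y * v) * (c * (y * v)) := by rw [h.cc]; group
        _ = 1 := hcs
    have h2 : (c * v * c) * y = y * (c * v * c) := h.LV.el.comm (h.cUV hvU) hy
    have h3 : (c * y * c) * y * (c * v * c * v) = 1 := by
      rw [← h1]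
      calc (c * y * c) * y * (c * v * c * v) = (c * y * c) * (y * (c * v * c)) * v := by group
        _ = (c * y * c) * ((c * v * c) * y) * v := by rw [h2]
        _ = (c * y * c) * (c * v * c) * y * v := by group
    have h4 : c * v * c * v = ((c * y * c) * y)⁻¹ := eq_inv_of_mul_eq_one_right h3
    rw [h4]
    exact UW.inv_mem (UW.mul_mem (h.cUW hy') hy')
  have e2 : c * v * c * v ∈ W := h.VU (V.mul_mem (h.cVm hv) hv) e1
  obtain ⟨e, he, h1, _⟩ := h.fixV hv e2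
  have heU := h.LV.VU he
  refine cj_step (a := e) h.cc (fun hcs' => ?_) hcs
  have ei := h.elV.inv he
  have hk : c * e⁻¹ * c * (y * v) * e = y * (v * (c * e * c * e)) := by
    rw [ei]
    have q1 : (c * e * c) * (y * v) = (y * v) * (c * e * c) :=
      h.LV.el.comm (h.cUV heU) (UV.mul_mem hy hvU)
    rw [q1]; group
  have hUV : c * e⁻¹ * c * (y * v) * e ∈ UV := by
    rw [hk]
    exact UV.mul_mem hy (UV.mul_mem hvU (UV.mul_mem (h.cUV heU) heU))
  have hUW : c * e⁻¹ * c * (y * v) * e ∈ UW := by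
    rw [hk]
    exact UW.mul_mem hy' (h.LW.VU h1)
  exact h.step2 hUV hUW hcs'

/-- step 4 -/
theorem step4 (h : FData t c V W UV UW) {s : G} (hs : s ∈ UV)
    (hcs : c * s * (c * s) = 1) : ∃ x : G, c * s = x * c * x⁻¹ := by
  obtain ⟨x, hx, ex⟩ := h.LV.beta s hs
  have e1 := beta_mul (t := t) (V := V) (h.LV.cV _ (h.cUV hs)) hx (h.beta_c ex) ex
  have e2 : c * s * c * s = 1 := by rw [← hcs]; group
  rw [e2] at e1
  have e3 : c * x * c * x = 1 := by
    have : t * (c * x * c * x) = t := by rw [← e1]; group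
    exact mul_eq_left.mp this
  obtain ⟨e, he, h1, h1'⟩ := h.fixV hx (by rw [e3]; exact W.one_mem)
  obtain ⟨a, ha, ea⟩ := h.LV.onto e he
  refine cj_step (a := a) h.cc (fun hcs' => ?_) hcs
  have hm : c * a⁻¹ * c * s * a ∈ UV :=
    UV.mul_mem (UV.mul_mem (h.cUV (UV.inv_mem ha)) hs) ha
  have b1 := h.beta_c (beta_inv h.elV (h.LV.cV _ ha) he ea)
  have b2 := beta_mul (t := t) (V := V) (h.LV.cV _ (h.cUV (UV.inv_mem ha))) hx b1 ex
  have b3 := beta_mul (t := t) (V := V)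
    ((h.LV.cV _ (h.cUV (UV.inv_mem ha))).mul (h.LV.cV _ hs)) he b2 ea
  have b4 : c * e * c * x * e = x * (c * e * c * e) := by
    have q1 : c * e * c * x = x * (c * e * c) := h.elV.comm (h.cVm he) hx
    rw [q1]; group
  rw [b4] at b3
  obtain ⟨y, hy, hy', v, hv, e5⟩ := h.low' hm b3 h1' h1
  rw [e5] at hcs' ⊢
  exact h.step3 hv hy hy' hcs'

theorem nE' (h : FData t c V W UV UW) {b u : G} (hb : b ∈ UW) (hu : u ∈ UV) :
    b * u * b⁻¹ ∈ UV := (h.nE b hb u).mpr hu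

theorem nE'' (h : FData t c V W UV UW) {b u : G} (hb : b ∈ UW) (hu : u ∈ UV) :
    b⁻¹ * u * b ∈ UV := by
  have := h.nE' (UW.inv_mem hb) hu
  rw [inv_inv] at this
  exact this

/-- if `(c u b)^2 = 1` with `u ∈ U_V`, `b ∈ U_W` then `(c b c) b ∈ U_V` -/
theorem modUV (h : FData t c V W UV UW) {u b : G} (hu : u ∈ UV) (hb : b ∈ UW)
    (hcs : c * (u * b) * (c * (u * b)) = 1) : c * b * c * b ∈ UV := by
  -- (c u c)(c b c) u b = 1
  have h1 : (c * u * c) * ((c * b * c) * u * (c * b * c)⁻¹) * (c * b * c * b) = 1 := by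
    calc (c * u * c) * ((c * b * c) * u * (c * b * c)⁻¹) * (c * b * c * b)
        = c * u * (c * c) * b * c * u * b := by group
      _ = c * (u * b) * (c * (u * b)) := by rw [h.cc]; group
      _ = 1 := hcs
  have h2 : c * b * c * b = ((c * u * c) * ((c * b * c) * u * (c * b * c)⁻¹))⁻¹ :=
    eq_inv_of_mul_eq_one_right h1
  rw [h2]
  exact UV.inv_mem (UV.mul_mem (h.cUV hu) (h.nE' (h.cUW hb) hu))

/-- conjugating `c u b` by `a ∈ U_W` -/
theorem conjUW (h : FData t c V W UV UW) {u b a : G} (hu : u ∈ UV) (ha : a ∈ UW) :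
    ∃ u' ∈ UV, c * a⁻¹ * c * (u * b) * a = u' * ((c * a * c) * b * a) := by
  have ai : a⁻¹ = a := h.LW.el.inv ha
  refine ⟨(c * a * c) * u * (c * a * c)⁻¹, h.nE' (h.cUW ha) hu, ?_⟩
  rw [ai]; group

/-- step 5 -/
theorem step5 (h : FData t c V W UV UW) {u w : G} (hu : u ∈ UV) (hw : w ∈ W)
    (hcs : c * (u * w) * (c * (u * w)) = 1) : ∃ x : G, c * (u * w) = x * c * x⁻¹ := by
  have hwU := h.LW.VU hw
  have e1 := h.modUV hu hwU hcs
  have e2 : c * w * c * w ∈ V := h.WU _ (W.mul_mem (h.cWm hw) hw) e1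
  obtain ⟨e, he, h1, h1'⟩ := h.fixW hw e2
  have heU := h.LW.VU he
  refine cj_step (a := e) h.cc (fun hcs' => ?_) hcs
  obtain ⟨u', hu', e3⟩ := h.conjUW (b := w) hu heU
  have e4 : (c * e * c) * w * e = w * (c * e * c * e) := by
    have q1 : (c * e * c) * w = w * (c * e * c) := h.elW.comm (h.cWm he) hw
    rw [q1]; group
  rw [e4] at e3
  rw [e3] at hcs' ⊢
  exact h.step4 (UV.mul_mem hu' (h.LV.VU h1)) hcs'

/-- step 6: all involutions of `c U_V U_W` are conjugate to `c` -/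
theorem conj_c (h : FData t c V W UV UW) {u b : G} (hu : u ∈ UV) (hb : b ∈ UW)
    (hcs : c * (u * b) * (c * (u * b)) = 1) : ∃ x : G, c * (u * b) = x * c * x⁻¹ := by
  obtain ⟨w, hw, ew⟩ := h.LW.beta b hb
  have e1 := h.modUV hu hb hcs
  have e1' : c * b * c * b ∈ UW := UW.mul_mem (h.cUW hb) hb
  have e2 := beta_mul (t := t) (V := W) (h.LW.cV _ (h.cUW hb)) hw (h.beta_c ew) ew
  obtain ⟨x, hx, ex⟩ := h.LV.beta _ e1
  have e3 : c * w * c * w ∈ V := by
    have : c * w * c * w = x := mul_left_cancel (e2.symm.trans ex)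
    rw [this]; exact hx
  obtain ⟨e, he, h1, h1'⟩ := h.fixW hw e3
  obtain ⟨a, ha, ea⟩ := h.LW.onto e he
  refine cj_step (a := a) h.cc (fun hcs' => ?_) hcs
  obtain ⟨u', hu', e4⟩ := h.conjUW (b := b) hu ha
  have b1 := h.beta_c ea
  have b2 := beta_mul (t := t) (V := W) (h.LW.cV _ (h.cUW ha)) hw b1 ew
  have b3 := beta_mul (t := t) (V := W)
    ((h.LW.cV _ (h.cUW ha)).mul (h.LW.cV _ hb)) he b2 ea
  have b4 : c * e * c * w * e = w * (c * e * c * e) := by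
    have q1 : c * e * c * w = w * (c * e * c) := h.elW.comm (h.cWm he) hw
    rw [q1]; group
  rw [b4] at b3
  obtain ⟨y, hy, hy', w', hw', e5⟩ := h.low (UW.mul_mem (UW.mul_mem (h.cUW ha) hb) ha) b3 h1 h1'
  rw [e5, ← mul_assoc u'] at e4
  rw [e4] at hcs' ⊢
  exact h.step5 (UV.mul_mem hu' hy) hw' hcs'

end FData

end Cfsg.Agent.OddHalf.MM
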