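import Cfsg.Agent.OddHalf.MM.Sheet

/-!
# ODD half, D8, `M22`, `M23`: node E, `U_W` normalises `U_V` (helper681)

Text: `blueprints/ODD-M22M23-helper438.md`, NODE E. The outputs of node D are hypotheses.
-/

set_option autoImplicit false

namespace Cfsg.Agent.OddHalf.MM.Norm

open Cfsg.Agent.OddHalf.MM

variable {G : Type*} [Group G]

/-- the output of node D for one of the two subgroups: `U = {b : InU t V b}` -/
structure Dat (t : G) (V U : Subgroup G) : Prop where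
  tt : t * t = 1
  elV : El V
  comm : ∀ v ∈ V, v * t = t * v
  mem : ∀ b, b ∈ U ↔ InU t V b
  el : El U

/-- output (9), (9') of node D -/
structure Uniq (t : G) (V U : Subgroup G) : Prop extends Dat t V U where
  card : Nat.card U = 256
  nine : ∀ R : Subgroup G, IsPGroup 2 R → t ∈ R → (∀ r ∈ R, Cen r V) → ∀ r ∈ R, InB t V r
  nine' : ∀ F : Subgroup G, El F → Nat.card F = 256 → (∀ f ∈ F, InB t V f) → F = U

theorem El.inv_eq {E : Subgroup G} (h : El E) {x : G} (hx : x ∈ E) : x⁻¹ = x :=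
  inv_eq_of_mul_eq_one_left (h x hx)

theorem El.comm {E : Subgroup G} (h : El E) {x y : G} (hx : x ∈ E) (hy : y ∈ E) : x * y = y * x := by
  have h1 := h (x * y) (mul_mem hx hy)
  have hx' := El.inv_eq h hx
  have hy' := El.inv_eq h hy
  have h2 : x * y = (x * y)⁻¹ := (inv_eq_of_mul_eq_one_left h1).symm
  rw [h2, mul_inv_rev, hx', hy']

namespace Dat

variable {t : G} {V U : Subgroup G}

theorem V_le (D : Dat t V U) {v : G} (hv : v ∈ V) : v ∈ U := by
  rw [D.mem]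
  refine ⟨⟨fun x hx => El.comm D.elV hv hx, 1, one_mem _, ?_⟩, D.elV v hv, fun _ => hv⟩
  rw [D.comm v hv]; group

theorem cen (D : Dat t V U) {b : G} (hb : b ∈ U) : Cen b V := ((D.mem b).1 hb).1.1

/-- everything that normalises `V` and centralises `t` normalises `U` -/
theorem nrm (D : Dat t V U) {g : G} (hg : Nrm g V) (ht : g * t = t * g) : Nrm g U := by
  have key : ∀ h : G, Nrm h V → h * t = t * h → ∀ x ∈ U, h * x * h⁻¹ ∈ U := by
    intro h hh hht x hx
    rw [D.mem] at hx ⊢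
    obtain ⟨⟨hc, v, hv, hxt⟩, hxx, hcomm⟩ := hx
    have hht' : h⁻¹ * t = t * h⁻¹ := by
      rw [inv_mul_eq_iff_eq_mul, ← mul_assoc, hht]; group
    refine ⟨⟨?_, h * v * h⁻¹, (hh v).2 hv, ?_⟩, ?_, ?_⟩
    · intro y hy
      have hy' : h⁻¹ * y * h ∈ V := by
        rw [← hh]
        have e : h * (h⁻¹ * y * h) * h⁻¹ = y := by group
        rwa [e]
      have h1 := hc _ hy'
      calc h * x * h⁻¹ * y = h * (x * (h⁻¹ * y * h)) * h⁻¹ := by group
        _ = h * (h⁻¹ * y * h * x) * h⁻¹ := by rw [h1]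
        _ = y * (h * x * h⁻¹) := by group
    · calc h * x * h⁻¹ * t * (h * x * h⁻¹)⁻¹ = h * x * (h⁻¹ * t) * (h * x⁻¹ * h⁻¹) := by group
        _ = h * x * (t * h⁻¹) * (h * x⁻¹ * h⁻¹) := by rw [hht']
        _ = h * (x * t * x⁻¹) * h⁻¹ := by group
        _ = h * (t * v) * h⁻¹ := by rw [hxt]
        _ = h * t * v * h⁻¹ := by group
        _ = t * h * v * h⁻¹ := by rw [hht]
        _ = t * (h * v * h⁻¹) := by group
    · calc h * x * h⁻¹ * (h * x * h⁻¹) = h * (x * x) * h⁻¹ := by group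
        _ = 1 := by rw [hxx]; group
    · intro h1
      apply (hh x).2
      apply hcomm
      have h2 : h * (x * t) * h⁻¹ = h * (t * x) * h⁻¹ := by
        calc h * (x * t) * h⁻¹ = h * x * (t * h⁻¹) := by group
          _ = h * x * (h⁻¹ * t) := by rw [hht']
          _ = h * x * h⁻¹ * t := by group
          _ = t * (h * x * h⁻¹) := h1
          _ = t * h * x * h⁻¹ := by group
          _ = h * t * x * h⁻¹ := by rw [hht]
          _ = h * (t * x) * h⁻¹ := by group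
      exact mul_left_cancel (mul_right_cancel h2)
  have hg' : Nrm g⁻¹ V := by
    intro x
    rw [← hg]
    have e : g * (g⁻¹ * x * g⁻¹⁻¹) * g⁻¹ = x := by group
    rw [e]
  have ht' : g⁻¹ * t = t * g⁻¹ := by
    rw [inv_mul_eq_iff_eq_mul, ← mul_assoc, ht]; group
  intro x
  constructor
  · intro hx
    have h1 := key g⁻¹ hg' ht' _ hx
    have e : g⁻¹ * (g * x * g⁻¹) * g⁻¹⁻¹ = x := by group
    rwa [e] at h1
  · exact key g hg ht x

end Dat

theorem Nrm.mul {g h : G} {V : Subgroup G} (hg : Nrm g V) (hh : Nrm h V) : Nrm (g * h) V := by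
  intro x
  have e : g * (h * x * h⁻¹) * g⁻¹ = g * h * x * (g * h)⁻¹ := by group
  have h1 := (hg (h * x * h⁻¹)).trans (hh x)
  rwa [e] at h1

theorem Nrm.inv {g : G} {V : Subgroup G} (hg : Nrm g V) : Nrm g⁻¹ V := by
  intro x
  rw [← hg]
  have e : g * (g⁻¹ * x * g⁻¹⁻¹) * g⁻¹ = x := by group
  rw [e]

theorem Nrm.of_mem {g : G} {V : Subgroup G} (hg : g ∈ V) : Nrm g V := by
  intro x
  constructor
  · intro h
    have h1 := mul_mem (mul_mem (inv_mem hg) h) hg
    have e : g⁻¹ * (g * x * g⁻¹) * g = x := by group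
    rwa [e] at h1
  · intro h
    exact mul_mem (mul_mem hg h) (inv_mem hg)

theorem Nrm.mem_normalizer {g : G} {V : Subgroup G} (hg : Nrm g V) :
    g ∈ Subgroup.normalizer (V : Set G) := by
  rw [Subgroup.mem_normalizer_iff]
  intro x
  exact (hg x).symm

/-- **NODE E**: `U_W` normalises `U_V`. -/
theorem norm [Finite G] {t : G} {V W UV UW : Subgroup G} (DV : Uniq t V UV) (DW : Dat t W UW)
    (nVW : ∀ v ∈ V, Nrm v W) (nWV : ∀ w ∈ W, Nrm w V)
    (cVW : ∀ v ∈ V, v ∉ W → ∀ w ∈ W, v * w = w * v → w ∈ V)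
    (ex0 : ∀ x ∈ V, x ∈ W → ∃ y : G, Cen y V ∧ Cen y W ∧ y * y = 1 ∧ y * t * y⁻¹ = t * x) :
    ∀ b ∈ UW, Nrm b UV := by
  intro b hb
  have hbW := (DW.mem b).1 hb
  obtain ⟨⟨hbc, w, hw, hbt⟩, hbb, -⟩ := hbW
  have hbi : b⁻¹ = b := El.inv_eq DW.el hb
  -- `y_x ∈ U_V ∩ U_W`
  have exU : ∀ x ∈ V, x ∈ W → ∃ y ∈ UV, y ∈ UW ∧ Cen y V ∧ y * t * y⁻¹ = t * x := by
    intro x hxV hxW
    by_cases hx1 : x = 1
    · refine ⟨1, one_mem _, one_mem _, fun v _ => by group, ?_⟩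
      rw [hx1]; group
    · obtain ⟨y, h1, h2, h3, h4⟩ := ex0 x hxV hxW
      have hno : y * t ≠ t * y := by
        intro h5
        apply hx1
        have h6 : t * x = t := by rw [← h4, h5]; group
        exact mul_eq_left.1 h6
      exact ⟨y, (DV.mem y).2 ⟨⟨h1, x, hxV, h4⟩, h3, fun h => absurd h hno⟩,
        (DW.mem y).2 ⟨⟨h2, x, hxW, h4⟩, h3, fun h => absurd h hno⟩, h1, h4⟩
  -- `V^b ≤ U_V`
  have hVb : ∀ v ∈ V, b * v * b⁻¹ ∈ UV := by
    intro v hv
    by_cases hvW : v ∈ W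
    · have h1 : b * v = v * b := hbc v hvW
      have h2 : b * v * b⁻¹ = v := by rw [h1]; group
      rw [h2]; exact DV.toDat.V_le hv
    · have hvi : v⁻¹ = v := El.inv_eq DV.elV hv
      have hvt := DV.comm v hv
      -- `d = [v, b]`
      have hvb : v * b * v⁻¹ ∈ UW := (DW.nrm (nVW v hv) hvt b).2 hb
      set d : G := v * b * v⁻¹ * b⁻¹ with hd
      have hdU : d ∈ UW := mul_mem hvb (inv_mem hb)
      -- `β(d) = [v, w]`
      have hvw : v * w * v⁻¹ ∈ W := (nVW v hv w).2 hw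
      have hx_W : v * w * v⁻¹ * w⁻¹ ∈ W := mul_mem hvw (inv_mem hw)
      have hx_V : v * w * v⁻¹ * w⁻¹ ∈ V := by
        have h1 : w * v⁻¹ * w⁻¹ ∈ V := (nWV w hw _).2 (inv_mem hv)
        have h2 := mul_mem hv h1
        have e : v * (w * v⁻¹ * w⁻¹) = v * w * v⁻¹ * w⁻¹ := by group
        rwa [e] at h2
      set x : G := v * w * v⁻¹ * w⁻¹ with hx
      have hwt := DW.comm w hw
      have hwi : w⁻¹ = w := El.inv_eq DW.elV hw
      have hti : t⁻¹ = t := inv_eq_of_mul_eq_one_left DV.tt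
      have hvt' : v⁻¹ * t = t * v⁻¹ := by rw [hvi]; exact hvt
      -- b⁻¹ t b = t w
      have hbt' : b⁻¹ * t * b = t * w := by
        have h1 : b * t * b⁻¹ = b⁻¹ * t * b := by rw [hbi]
        rw [← h1]; exact hbt
      have hdt : d * t * d⁻¹ = t * x := by
        have hbw : b * w = w * b := hbc w hw
        calc d * t * d⁻¹ = v * b * v⁻¹ * (b⁻¹ * t * b) * v * b⁻¹ * v⁻¹ := by rw [hd]; group
          _ = v * b * v⁻¹ * (t * w) * v * b⁻¹ * v⁻¹ := by rw [hbt']
          _ = v * b * (v⁻¹ * t) * w * v * b⁻¹ * v⁻¹ := by group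
          _ = v * b * (t * v⁻¹) * w * v * b⁻¹ * v⁻¹ := by rw [hvt']
          _ = v * (b * t * b⁻¹) * (b * (v⁻¹ * w * v) * b⁻¹) * v⁻¹ := by group
          _ = v * (t * w) * (v⁻¹ * w * v) * v⁻¹ := by
            have h1 : v⁻¹ * w * v ∈ W := by
              have := (nVW v hv w).2 hw
              rwa [hvi] at this ⊢
            have h2 : b * (v⁻¹ * w * v) * b⁻¹ = v⁻¹ * w * v := by rw [hbc _ h1]; group
            rw [h2, hbt]
          _ = v * t * (w * v⁻¹ * w) := by group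
          _ = t * v * (w * v⁻¹ * w) := by rw [hvt]
          _ = t * x := by rw [hx, hwi]; group
      obtain ⟨y, hyV, hyW, hyc, hyt⟩ := exU x hx_V hx_W
      have hyi : y⁻¹ = y := El.inv_eq DV.el hyV
      -- `w' = y d ∈ W`
      have hw'U : y⁻¹ * d ∈ UW := mul_mem (inv_mem hyW) hdU
      have hw'W : y⁻¹ * d ∈ W := by
        apply ((DW.mem _).1 hw'U).2.2
        have h1 : d * t = t * x * d := by rw [← hdt]; group
        have h3 : y⁻¹ * (t * x) = t * y⁻¹ := by
          rw [← hyt]; group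
        calc y⁻¹ * d * t = y⁻¹ * (d * t) := by group
          _ = y⁻¹ * (t * x) * d := by rw [h1]; group
          _ = t * (y⁻¹ * d) := by rw [h3]; group
      -- `v` commutes with `d`
      have hdi : d⁻¹ = d := El.inv_eq DW.el hdU
      have hvd : v * d = d * v := by
        have h1 : v * d * v⁻¹ = d⁻¹ := by
          rw [hd]
          have e1 : (v * b * v⁻¹ * b⁻¹)⁻¹ = b * v * b⁻¹ * v⁻¹ := by group
          rw [e1, hvi]
          have hvv := DV.elV v hv
          calc v * (v * b * v * b⁻¹) * v = (v * v) * b * v * b⁻¹ * v := by group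
            _ = b * v * b⁻¹ * v := by rw [hvv]; group
        rw [hdi] at h1
        rwa [mul_inv_eq_iff_eq_mul] at h1
      have hvy : v * y⁻¹ = y⁻¹ * v := by
        rw [hyi]; exact (hyc v hv).symm
      have hvw' : v * (y⁻¹ * d) = y⁻¹ * d * v := by
        calc v * (y⁻¹ * d) = v * y⁻¹ * d := (mul_assoc _ _ _).symm
          _ = y⁻¹ * v * d := by rw [hvy]
          _ = y⁻¹ * (v * d) := mul_assoc _ _ _
          _ = y⁻¹ * (d * v) := by rw [hvd]
          _ = y⁻¹ * d * v := (mul_assoc _ _ _).symm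
      have hw'V : y⁻¹ * d ∈ V := cVW v hv hvW _ hw'W hvw'
      have e : b * v * b⁻¹ = y * (y⁻¹ * d) * v := by
        have hvv := DV.elV v hv
        have h1 : d = d⁻¹ := hdi.symm
        have e1 : y * (y⁻¹ * d) * v = d * v := by group
        rw [e1, h1, hd]
        have e2 : (v * b * v⁻¹ * b⁻¹)⁻¹ * v = b * v * b⁻¹ := by group
        rw [e2]
      rw [e]
      exact mul_mem (mul_mem hyV (DV.toDat.V_le hw'V)) (DV.toDat.V_le hv)
  -- the 2-group `R = (U_V⟨tw⟩)^{b⁻¹}`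
  have hwt := DW.comm w hw
  have htw2 : t * w * (t * w) = 1 := by
    rw [← hbt]
    calc b * t * b⁻¹ * (b * t * b⁻¹) = b * (t * t) * b⁻¹ := by group
      _ = 1 := by rw [DV.tt]; group
  have htN : Nrm (t * w) UV := by
    apply Nrm.mul
    · apply DV.nrm _ rfl
      intro x
      constructor
      · intro hx
        have h1 : t * x * t⁻¹ = x := by
          have h2 := DV.comm _ hx
          have h3 : t * (t * x * t⁻¹) * t⁻¹ = t * x * t⁻¹ := by rw [← h2]; group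
          exact mul_left_cancel (mul_right_cancel h3)
        rwa [h1] at hx
      · intro hx
        have h1 : t * x * t⁻¹ = x := by rw [← DV.comm x hx]; group
        rwa [h1]
    · exact DV.nrm (nWV w hw) hwt
  set A : Subgroup G := UV ⊔ Subgroup.zpowers (t * w) with hA
  have pU : IsPGroup 2 UV := IsPGroup.of_card (n := 8) DV.card
  have pz : IsPGroup 2 (Subgroup.zpowers (t * w)) := by
    rintro ⟨x, hx⟩
    obtain ⟨n, rfl⟩ := Subgroup.mem_zpowers_iff.1 hx
    refine ⟨1, Subtype.ext ?_⟩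
    show ((t * w) ^ n) ^ (2 ^ 1) = 1
    rw [pow_one, ← zpow_natCast, zpow_comm]
    have : (t * w) ^ ((2 : ℕ) : ℤ) = 1 := by
      rw [zpow_natCast, pow_two]; exact htw2
    rw [this, one_zpow]
  have pA : IsPGroup 2 A := by
    rw [hA, sup_comm]
    apply IsPGroup.to_sup_of_normal_right' pz pU
    rw [Subgroup.zpowers_le]
    exact Nrm.mem_normalizer htN
  have hAc : ∀ a ∈ A, ∀ v ∈ V, a * (b * v * b⁻¹) = b * v * b⁻¹ * a := by
    intro a ha v hv
    have h1 : A ≤ Subgroup.centralizer ({b * v * b⁻¹} : Set G) := by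
      rw [hA, sup_le_iff, Subgroup.zpowers_le]
      constructor
      · intro u hu
        rw [Subgroup.mem_centralizer_singleton_iff]
        exact El.comm DV.el hu (hVb v hv)
      · rw [Subgroup.mem_centralizer_singleton_iff, ← hbt]
        calc b * t * b⁻¹ * (b * v * b⁻¹) = b * (t * v) * b⁻¹ := by group
          _ = b * (v * t) * b⁻¹ := by rw [DV.comm v hv]
          _ = b * v * b⁻¹ * (b * t * b⁻¹) := by group
    exact Subgroup.mem_centralizer_singleton_iff.1 (h1 ha)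
  set R : Subgroup G := A.map (MulAut.conj b⁻¹).toMonoidHom with hR
  have hRB : ∀ r ∈ R, InB t V r := by
    apply DV.nine R (pA.map _)
    · refine ⟨t * w, Subgroup.mem_sup_right (Subgroup.mem_zpowers _), ?_⟩
      show b⁻¹ * (t * w) * b⁻¹⁻¹ = t
      rw [← hbt]; group
    · rintro _ ⟨a, ha, rfl⟩ v hv
      show b⁻¹ * a * b⁻¹⁻¹ * v = v * (b⁻¹ * a * b⁻¹⁻¹)
      have h1 := hAc a ha v hv
      calc b⁻¹ * a * b⁻¹⁻¹ * v = b⁻¹ * (a * (b * v * b⁻¹)) * b := by group
        _ = b⁻¹ * (b * v * b⁻¹ * a) * b := by rw [h1]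
        _ = v * (b⁻¹ * a * b⁻¹⁻¹) := by group
  have hF : UV.map (MulAut.conj b⁻¹).toMonoidHom = UV := by
    apply DV.nine'
    · rintro _ ⟨u, hu, rfl⟩
      show b⁻¹ * u * b⁻¹⁻¹ * (b⁻¹ * u * b⁻¹⁻¹) = 1
      calc b⁻¹ * u * b⁻¹⁻¹ * (b⁻¹ * u * b⁻¹⁻¹) = b⁻¹ * (u * u) * b := by group
        _ = 1 := by rw [DV.el u hu]; group
    · rw [Nat.card_congr (UV.equivMapOfInjective _ (MulAut.conj b⁻¹).injective).symm.toEquiv]
      exact DV.card
    · rintro _ ⟨u, hu, rfl⟩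
      exact hRB _ ⟨u, Subgroup.mem_sup_left hu, rfl⟩
  -- `b⁻¹` normalises `U_V`
  have h1 : Nrm b⁻¹ UV := by
    intro x
    constructor
    · intro hx
      rw [← hF] at hx
      obtain ⟨u, hu, hux⟩ := hx
      have h2 : b⁻¹ * u * b⁻¹⁻¹ = b⁻¹ * x * b⁻¹⁻¹ := hux
      have h3 : u = x := mul_left_cancel (mul_right_cancel h2)
      rwa [← h3]
    · intro hx
      rw [← hF]
      exact ⟨x, hx, rfl⟩
  have h2 := Nrm.inv h1
  rwa [inv_inv] at h2

/-- a group of order 4 and exponent 2 -/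
theorem four_cases {E : Subgroup G} (hE : Nat.card E = 4) (el : El E) {a b : G} (ha : a ∈ E) (hb : b ∈ E)
    (a1 : a ≠ 1) (b1 : b ≠ 1) (hab : a ≠ b) {x : G} (hx : x ∈ E) :
    x = 1 ∨ x = a ∨ x = b ∨ x = a * b := by
  classical
  by_contra hcon
  push Not at hcon
  obtain ⟨x1, xa, xb, xab⟩ := hcon
  have hf : Finite E := Nat.finite_of_card_ne_zero (by rw [hE]; norm_num)
  have : Fintype E := Fintype.ofFinite _
  have hab1 : a * b ≠ 1 := fun h => hab (by
    rw [← El.inv_eq el hb]; exact eq_inv_of_mul_eq_one_left h)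
  have haba : a * b ≠ a := fun h => b1 (mul_eq_left.1 h)
  have habb : a * b ≠ b := fun h => a1 (mul_eq_right.1 h)
  let S : Finset E := {⟨1, one_mem _⟩, ⟨a, ha⟩, ⟨b, hb⟩, ⟨a * b, mul_mem ha hb⟩, ⟨x, hx⟩}
  have hS : S.card = 5 := by
    rw [Finset.card_insert_of_notMem, Finset.card_insert_of_notMem, Finset.card_insert_of_notMem,
      Finset.card_insert_of_notMem, Finset.card_singleton]
    all_goals simp only [Finset.mem_insert, Finset.mem_singleton, Subtype.mk.injEq, not_or]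
    · exact fun h => xab h.symm
    · exact ⟨fun h => habb h.symm, fun h => xb h.symm⟩
    · exact ⟨hab, fun h => haba h.symm, fun h => xa h.symm⟩
    · exact ⟨fun h => a1 h.symm, fun h => b1 h.symm, fun h => hab1 h.symm, fun h => x1 h.symm⟩
  have h1 := Finset.card_le_univ S
  rw [hS, ← Nat.card_eq_fintype_card, hE] at h1
  omega

/-- the elements `y_x` for `x ∈ V ∩ W` from `y = y_z` and `d` -/
theorem ex0_of {t z y d : G} {V W UV : Subgroup G} (DV : Dat t V UV) (card : Nat.card ↥(V ⊓ W) = 4)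
    (zV : z ∈ V) (zW : z ∈ W) (z1 : z ≠ 1) (dV : Nrm d V) (dW : Nrm d W) (dt : d * t = t * d)
    (dz : d * z * d⁻¹ ≠ z) (yV : Cen y V) (yW : Cen y W) (yy : y * y = 1) (yt : y * t * y⁻¹ = t * z) :
    ∀ x ∈ V, x ∈ W → ∃ y : G, Cen y V ∧ Cen y W ∧ y * y = 1 ∧ y * t * y⁻¹ = t * x := by
  have el : El (V ⊓ W) := fun x hx => DV.elV x hx.1
  have hconj : ∀ {E : Subgroup G}, Nrm d E → Cen y E → Cen (d * y * d⁻¹) E := by
    intro E hE hc x hx
    have hx' : d⁻¹ * x * d ∈ E := by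
      rw [← hE]
      have e : d * (d⁻¹ * x * d) * d⁻¹ = x := by group
      rwa [e]
    calc d * y * d⁻¹ * x = d * (y * (d⁻¹ * x * d)) * d⁻¹ := by group
      _ = d * (d⁻¹ * x * d * y) * d⁻¹ := by rw [hc _ hx']
      _ = x * (d * y * d⁻¹) := by group
  have dt' : d⁻¹ * t = t * d⁻¹ := by
    rw [inv_mul_eq_iff_eq_mul, ← mul_assoc, dt]; group
  have yt' : d * y * d⁻¹ * t * (d * y * d⁻¹)⁻¹ = t * (d * z * d⁻¹) := by
    calc d * y * d⁻¹ * t * (d * y * d⁻¹)⁻¹ = d * y * (d⁻¹ * t) * d * y⁻¹ * d⁻¹ := by group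
      _ = d * y * (t * d⁻¹) * d * y⁻¹ * d⁻¹ := by rw [dt']
      _ = d * (y * t * y⁻¹) * d⁻¹ := by group
      _ = d * (t * z) * d⁻¹ := by rw [yt]
      _ = d * t * z * d⁻¹ := by group
      _ = t * d * z * d⁻¹ := by rw [dt]
      _ = t * (d * z * d⁻¹) := by group
  have yy' : d * y * d⁻¹ * (d * y * d⁻¹) = 1 := by
    calc d * y * d⁻¹ * (d * y * d⁻¹) = d * (y * y) * d⁻¹ := by group
      _ = 1 := by rw [yy]; group
  have z'V : d * z * d⁻¹ ∈ V := (dV z).2 zV
  have z'W : d * z * d⁻¹ ∈ W := (dW z).2 zW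
  have z'1 : d * z * d⁻¹ ≠ 1 := by
    intro h
    apply z1
    have h1 : d * z * d⁻¹ = d * 1 * d⁻¹ := by rw [h]; group
    exact mul_left_cancel (mul_right_cancel h1)
  have memU : ∀ {u x : G}, x ∈ V → x ≠ 1 → Cen u V → u * u = 1 → u * t * u⁻¹ = t * x → u ∈ UV := by
    intro u x hx hx1 h1 h2 h3
    refine (DV.mem u).2 ⟨⟨h1, x, hx, h3⟩, h2, fun h => absurd ?_ hx1⟩
    have h6 : t * x = t := by rw [← h3, h]; group
    exact mul_eq_left.1 h6
  intro x hxV hxW
  rcases four_cases card el ⟨zV, zW⟩ ⟨z'V, z'W⟩ z1 z'1 (fun h => dz h.symm)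
    (show x ∈ V ⊓ W from ⟨hxV, hxW⟩) with rfl | rfl | rfl | rfl
  · exact ⟨1, fun v _ => by group, fun v _ => by group, one_mul 1, by group⟩
  · exact ⟨y, yV, yW, yy, yt⟩
  · exact ⟨d * y * d⁻¹, hconj dV yV, hconj dW yW, yy', yt'⟩
  · refine ⟨y * (d * y * d⁻¹), ?_, ?_, ?_, ?_⟩
    · intro v hv
      rw [mul_assoc, hconj dV yV v hv, ← mul_assoc, yV v hv, mul_assoc]
    · intro v hv
      rw [mul_assoc, hconj dW yW v hv, ← mul_assoc, yW v hv, mul_assoc]
    · exact DV.el _ (mul_mem (memU zV z1 yV yy yt) (memU z'V z'1 (hconj dV yV) yy' yt'))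
    · have h1 : y * (d * z * d⁻¹) = d * z * d⁻¹ * y := yV _ z'V
      calc y * (d * y * d⁻¹) * t * (y * (d * y * d⁻¹))⁻¹
          = y * (d * y * d⁻¹ * t * (d * y * d⁻¹)⁻¹) * y⁻¹ := by group
        _ = y * (t * (d * z * d⁻¹)) * y⁻¹ := by rw [yt']
        _ = y * t * y⁻¹ * (y * (d * z * d⁻¹) * y⁻¹) := by group
        _ = t * z * (d * z * d⁻¹ * y * y⁻¹) := by rw [yt, h1]
        _ = t * (z * (d * z * d⁻¹)) := by group

end Cfsg.Agent.OddHalf.MM.Norm
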