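import Cfsg.Agent.OddHalf.MM.Central
import Cfsg.Agent.OddHalf.MM.Good
import Cfsg.Agent.OddHalf.MM.Norm
import Cfsg.Agent.OddHalf.MM.KillC

/-!
# ODD half, D8, `M22`, `M23`: assembly of nodes B, C, D, E (helper438)

From the sheet, the setting and the output of node A: the data `FData` of node F.
-/

set_option autoImplicit false

namespace Cfsg.Agent.OddHalf.MM

variable {K : Type*} [Group K] {G : Type*} [Group G] {SK V W : Subgroup K} {z c : K} {t : G}
  {φ : K →* G}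

theorem Nrm.map {E : Subgroup K} {k : K} (h : Nrm k E) (s : Setting t φ) :
    Nrm (φ k) (E.map φ) := by
  intro x
  constructor
  · rintro ⟨y, hy, e⟩
    refine ⟨k⁻¹ * y * k, ?_, ?_⟩
    · apply (h _).mp
      have : k * (k⁻¹ * y * k) * k⁻¹ = y := by group
      rw [this]; exact hy
    · rw [map_mul, map_mul, e, map_inv]; group
  · rintro ⟨y, hy, e⟩
    exact ⟨k * y * k⁻¹, (h y).mpr hy, by rw [map_mul, map_mul, map_inv, e]⟩

theorem El.map {E : Subgroup K} (h : El E) (φ : K →* G) : El (E.map φ) := by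
  rintro x ⟨y, hy, rfl⟩
  rw [← map_mul, h y hy, map_one]

theorem Setting.map_mem {E : Subgroup K} (s : Setting t φ) {k : K} :
    φ k ∈ E.map φ ↔ k ∈ E := by
  constructor
  · rintro ⟨y, hy, e⟩
    rw [← s.inj e]; exact hy
  · exact fun h => ⟨k, h, rfl⟩

theorem Setting.card_map (s : Setting t φ) (E : Subgroup K) :
    Nat.card (E.map φ) = Nat.card E :=
  (Nat.card_congr (E.equivMapOfInjective φ s.inj).toEquiv).symm

theorem Layer.uniq' {V U : Subgroup G} (h : Half t V) (L : Layer t V U) : Norm.Uniq t V U where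
  tt := h.tt
  elV := h.el
  comm := h.comm
  mem := L.mem
  el := L.el
  card := L.card
  nine := fun R hR ht hc => L.grow R hR hc ht
  nine' := fun F he hc hB => L.uniq F hB he hc

theorem exists_fdata [Finite G] (h : Sheet SK V W z c) (s : Setting t φ)
    (exV : ∀ v ∈ V, ∃ b : G, Cen b (V.map φ) ∧ b * t * b⁻¹ = t * φ v)
    (exW : ∀ w ∈ W, ∃ b : G, Cen b (W.map φ) ∧ b * t * b⁻¹ = t * φ w) :
    ∃ UV UW : Subgroup G, FData t (φ c) (V.map φ) (W.map φ) UV UW := by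
  obtain ⟨⟨y, yy, yV, yW, yt⟩, hV, hW⟩ := central h s exV exW
  obtain ⟨d, dV, dW, dz⟩ := h.del
  have hinf : V.map φ ⊓ W.map φ = (V ⊓ W).map φ := (Subgroup.map_inf V W φ s.inj).symm
  have c4 : Nat.card (V.map φ ⊓ W.map φ : Subgroup G) = 4 := by
    rw [hinf, s.card_map, h.cardVW]
  have zV : φ z ∈ V.map φ := ⟨z, h.zV, rfl⟩
  have zW : φ z ∈ W.map φ := ⟨z, h.zW, rfl⟩
  have z1 : φ z ≠ 1 := fun e => h.z1 (s.inj (by rw [e, map_one]))
  have nWV : ∀ w ∈ W.map φ, Nrm w (V.map φ) := by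
    rintro _ ⟨w, hw, rfl⟩
    exact (h.nV w (h.WS hw)).map s
  have nVW : ∀ v ∈ V.map φ, Nrm v (W.map φ) := by
    rintro _ ⟨v, hv, rfl⟩
    exact (h.nW v (h.VS hv)).map s
  have cVW : ∀ v ∈ V.map φ, v ∉ W.map φ → ∀ w ∈ W.map φ, v * w = w * v → w ∈ V.map φ := by
    rintro _ ⟨v, hv, rfl⟩ hn _ ⟨w, hw, rfl⟩ e
    refine ⟨w, h.cVW v hv (fun h1 => hn ⟨v, h1, rfl⟩) w hw (s.inj ?_), rfl⟩
    rw [map_mul, map_mul]; exact e
  have cWV : ∀ w ∈ W.map φ, w ∉ V.map φ → ∀ v ∈ V.map φ, w * v = v * w → v ∈ W.map φ := by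
    rintro _ ⟨w, hw, rfl⟩ hn _ ⟨v, hv, rfl⟩ e
    refine ⟨v, h.cWV w hw (fun h1 => hn ⟨w, h1, rfl⟩) v hv (s.inj ?_), rfl⟩
    rw [map_mul, map_mul]; exact e.symm
  have dz' : φ d * φ z * (φ d)⁻¹ ≠ φ z := by
    intro e
    apply dz
    apply s.inj
    rw [map_mul, map_mul, map_inv]; exact e
  obtain ⟨gV, gW⟩ := good hV hW c4 zV zW z1 nWV nVW cVW yy yV yW yt (dV.map s) (dW.map s)
    (s.comm d) dz'
  obtain ⟨UV, LV⟩ := exists_layer hV gV
  obtain ⟨UW, LW⟩ := exists_layer hW gW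
  have QV := Layer.uniq' hV LV
  have QW := Layer.uniq' hW LW
  have ex0 := Norm.ex0_of QV.toDat c4 zV zW z1 (dV.map s) (dW.map s) (s.comm d) dz' yV yW yy yt
  have nE := Norm.norm QV QW.toDat nVW nWV cVW ex0
  refine ⟨UV, UW, ?_⟩
  refine
    { tt := s.tt, cc := ?_, ct := s.comm c, nV := (h.nV c h.cS).map s, nW := (h.nW c h.cS).map s,
      elV := hV.el, elW := hW.el, cardV := hV.card, cardW := hW.card, cardVW := c4,
      commV := hV.comm, commW := hW.comm, LV := LV, LW := LW, nE := nE, WU := ?_, yx := ?_,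
      c0 := ?_, cV := ?_, cW := ?_ }
  · rw [← map_mul, h.cc, map_one]
  · intro w hw hwU
    exact LV.cT w hwU (hW.comm w hw)
  · intro x hx hx'
    by_cases h1 : x = 1
    · subst h1
      exact ⟨1, UV.one_mem, UW.one_mem, by group⟩
    · obtain ⟨y', c1, c2, e1, e2⟩ := ex0 x hx hx'
      have hne : y' * t ≠ t * y' := by
        intro e
        apply h1
        rw [e] at e2
        have : t * x = t := by rw [← e2]; group
        exact mul_eq_left.mp this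
      exact ⟨y', (LV.mem y').mpr ⟨⟨c1, x, hx, e2⟩, e1, fun e => absurd e hne⟩,
        (LW.mem y').mpr ⟨⟨c2, x, hx', e2⟩, e1, fun e => absurd e hne⟩, e2⟩
  · obtain ⟨x, hx, hx', hne⟩ := h.c0
    refine ⟨φ x, ⟨x, hx, rfl⟩, ⟨x, hx', rfl⟩, fun e => hne (s.inj ?_)⟩
    rw [map_mul, map_mul]; exact e
  · obtain ⟨v, hv, hn⟩ := h.cV
    refine ⟨φ v, ⟨v, hv, rfl⟩, fun e => hn ?_⟩
    rw [← map_inv, ← map_inv, ← map_mul, ← map_mul, ← map_mul, s.map_mem] at e
    exact e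
  · obtain ⟨v, hv, hn⟩ := h.cW
    refine ⟨φ v, ⟨v, hv, rfl⟩, fun e => hn ?_⟩
    rw [← map_inv, ← map_inv, ← map_mul, ← map_mul, ← map_mul, s.map_mem] at e
    exact e

end Cfsg.Agent.OddHalf.MM
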