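import Cfsg.Agent.OddHalf.MM.Kill

/-!
# ODD half, D8, `M22` and `M23`: the kill from the sheet and the conclusions of the nodes A-E (helper259)
-/

set_option autoImplicit false

namespace Cfsg.Agent.OddHalf.MM

variable {K : Type*} [Group K] {G : Type*} [Group G]

/-! ### `U` -/

theorem Nrm.invF {g : G} {V : Subgroup G} (h : Nrm g V) : Nrm g⁻¹ V := by
  intro x
  rw [← h (g⁻¹ * x * g⁻¹⁻¹)]
  have e : g * (g⁻¹ * x * g⁻¹⁻¹) * g⁻¹ = x := by group
  rw [e]

/-- elements that normalise `V` and centralise `t` normalise `B_V` -/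
theorem InB.conjF {t g b : G} {V : Subgroup G} (hg : Nrm g V) (hgt : g * t = t * g) (hb : InB t V b) :
    InB t V (g * b * g⁻¹) := by
  obtain ⟨hc, v, hv, e⟩ := hb
  refine ⟨?_, g * v * g⁻¹, (hg v).2 hv, ?_⟩
  · intro x hx
    have h1 : g⁻¹ * x * g ∈ V := by
      have := (hg.invF x).2 hx
      rwa [inv_inv] at this
    have h2 := hc _ h1
    calc g * b * g⁻¹ * x = g * (b * (g⁻¹ * x * g)) * g⁻¹ := by group
      _ = g * ((g⁻¹ * x * g) * b) * g⁻¹ := by rw [h2]
      _ = x * (g * b * g⁻¹) := by group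
  · have h3 : g⁻¹ * t * g = t := by
      calc g⁻¹ * t * g = g⁻¹ * (t * g) := by group
        _ = g⁻¹ * (g * t) := by rw [hgt]
        _ = t := by group
    calc g * b * g⁻¹ * t * (g * b * g⁻¹)⁻¹ = g * (b * (g⁻¹ * t * g) * b⁻¹) * g⁻¹ := by group
      _ = g * (t * v) * g⁻¹ := by rw [h3, e]
      _ = (g * t) * v * g⁻¹ := by group
      _ = (t * g) * v * g⁻¹ := by rw [hgt]
      _ = _ := by group

theorem InU.conjF {t g b : G} {V : Subgroup G} (hg : Nrm g V) (hgt : g * t = t * g) (hb : InU t V b) :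
    InU t V (g * b * g⁻¹) := by
  obtain ⟨h1, h2, h3⟩ := hb
  refine ⟨h1.conjF hg hgt, ?_, fun h4 => (hg b).2 (h3 ?_)⟩
  · calc g * b * g⁻¹ * (g * b * g⁻¹) = g * (b * b) * g⁻¹ := by group
      _ = 1 := by rw [h2]; group
  · have h5 : g⁻¹ * t * g = t := by
      calc g⁻¹ * t * g = g⁻¹ * (t * g) := by group
        _ = g⁻¹ * (g * t) := by rw [hgt]
        _ = t := by group
    calc b * t = b * (g⁻¹ * t * g) := by rw [h5]
      _ = g⁻¹ * (g * b * g⁻¹ * t) * g := by group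
      _ = g⁻¹ * (t * (g * b * g⁻¹)) * g := by rw [h4]
      _ = (g⁻¹ * t * g) * b := by group
      _ = t * b := by rw [h5]

theorem Half.V_InU {t v : G} {V : Subgroup G} (h : Half t V) (hv : v ∈ V) : InU t V v := by
  refine ⟨⟨fun x hx => h.el.mul_comm hv hx, 1, V.one_mem, ?_⟩, h.el v hv, fun _ => hv⟩
  rw [h.comm v hv]; group

/-- every `v ∈ V` is `β(b)` for some `b ∈ U` -/
theorem Half.exists_U {t v : G} {V : Subgroup G} (h : Half t V) (hv : v ∈ V) :
    ∃ b, InU t V b ∧ b * t * b⁻¹ = t * v := by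
  by_cases hv1 : v = 1
  · refine ⟨1, h.V_InU V.one_mem, ?_⟩
    rw [hv1]; group
  obtain ⟨b, hb, e⟩ := h.ex v hv
  have hti : t⁻¹ = t := inv_eq_of_mul_eq_one_left h.tt
  have hne : ∀ g : G, g * t * g⁻¹ = t * v → g * t ≠ t * g := by
    intro g hg hgt
    apply hv1
    have h1 : t * 1 = t * v := by
      rw [← hg, hgt]; group
    exact (mul_left_cancel h1).symm
  rcases h.sq v hv b hb e with h1 | h1
  · exact ⟨b, ⟨⟨hb, v, hv, e⟩, h1, fun h2 => absurd h2 (hne b e)⟩, e⟩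
  · have e2 : (t * b) * t * (t * b)⁻¹ = t * v := by
      calc (t * b) * t * (t * b)⁻¹ = t * (b * t * b⁻¹) * t⁻¹ := by group
        _ = t * (t * v) * t := by rw [e, hti]
        _ = (t * t) * (v * t) := by group
        _ = t * v := by rw [h.tt, h.comm v hv, one_mul]
    refine ⟨t * b, ⟨⟨?_, v, hv, e2⟩, ?_, fun h2 => absurd h2 (hne _ e2)⟩, e2⟩
    · intro x hx
      calc t * b * x = t * (b * x) := by group
        _ = t * (x * b) := by rw [hb x hx]
        _ = (t * x) * b := by group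
        _ = (x * t) * b := by rw [h.comm x hx]
        _ = x * (t * b) := by group
    · have e3 : b * t = t * v * b := by rw [← e]; group
      calc t * b * (t * b) = t * (b * t) * b := by group
        _ = t * (t * v * b) * b := by rw [e3]
        _ = (t * t) * v * (b * b) := by group
        _ = v * v := by rw [h.tt, h1, one_mul]
        _ = 1 := h.el v hv

/-! ### The hypotheses of the kill -/

section

variable {SK V W : Subgroup K} {z c : K} {t : G} {φ : K →* G}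

theorem map_nrm {k : K} {V : Subgroup K} (h : Nrm k V) :
    Nrm (φ k) (V.map φ) := by
  intro x
  constructor
  · rintro ⟨v, hv, e⟩
    have h1 : x = φ (k⁻¹ * v * k) := by
      rw [map_mul, map_mul, map_inv, e]; group
    rw [h1]
    refine ⟨_, ?_, rfl⟩
    have := (h.invF v).2 hv
    rw [inv_inv] at this
    exact this
  · rintro ⟨v, hv, rfl⟩
    refine ⟨k * v * k⁻¹, (h v).2 hv, ?_⟩
    rw [map_mul, map_mul, map_inv]

/-- elements of `V ∩ W` are values of `β` on `U_V ∩ U_W` -/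
theorem exists_ex0 (h : Sheet SK V W z c) (s : Setting t φ) {UV UW : Subgroup G}
    (mV : ∀ b, b ∈ UV ↔ InU t (V.map φ) b) (mW : ∀ b, b ∈ UW ↔ InU t (W.map φ) b)
    {y : G} (yy : y * y = 1) (yV : Cen y (V.map φ)) (yW : Cen y (W.map φ)) (yt : y * t * y⁻¹ = t * φ z)
    (x : K) (hxV : x ∈ V) (hxW : x ∈ W) :
    ∃ u ∈ UV, u ∈ UW ∧ u * t * u⁻¹ = t * φ x := by
  classical
  have hne : ∀ {g : G} {k : K}, g * t * g⁻¹ = t * φ k → k ≠ 1 → g * t ≠ t * g := by
    intro g k hg hk hgt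
    apply hk
    apply s.inj
    rw [map_one]
    have h1 : t * 1 = t * φ k := by
      rw [← hg, hgt]; group
    exact (mul_left_cancel h1).symm
  have hy : y ∈ UV ∧ y ∈ UW := by
    rw [mV, mW]
    exact ⟨⟨⟨yV, φ z, ⟨z, h.zV, rfl⟩, yt⟩, yy, fun h2 => absurd h2 (hne yt h.z1)⟩,
      ⟨⟨yW, φ z, ⟨z, h.zW, rfl⟩, yt⟩, yy, fun h2 => absurd h2 (hne yt h.z1)⟩⟩
  obtain ⟨d, dV, dW, dz⟩ := h.del
  have hcd := s.comm d
  -- the conjugate of `y`
  set y' := φ d * y * (φ d)⁻¹ with hy'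
  have hy'm : y' ∈ UV ∧ y' ∈ UW := by
    constructor
    · rw [mV]; exact ((mV y).1 hy.1).conjF (map_nrm dV) hcd
    · rw [mW]; exact ((mW y).1 hy.2).conjF (map_nrm dW) hcd
  have hy't : y' * t * y'⁻¹ = t * φ (d * z * d⁻¹) := by
    have h3 : (φ d)⁻¹ * t * φ d = t := by
      calc (φ d)⁻¹ * t * φ d = (φ d)⁻¹ * (t * φ d) := by group
        _ = (φ d)⁻¹ * (φ d * t) := by rw [hcd]
        _ = t := by group
    rw [hy']
    calc φ d * y * (φ d)⁻¹ * t * (φ d * y * (φ d)⁻¹)⁻¹ = φ d * (y * ((φ d)⁻¹ * t * φ d) * y⁻¹) * (φ d)⁻¹ := by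
          group
      _ = φ d * (t * φ z) * (φ d)⁻¹ := by rw [h3, yt]
      _ = (φ d * t) * φ z * (φ d)⁻¹ := by group
      _ = t * (φ d * φ z * (φ d)⁻¹) := by rw [hcd]; group
      _ = _ := by rw [map_mul, map_mul, map_inv]
  -- the elements of `V ∩ W`
  set z' := d * z * d⁻¹ with hz'
  have hz'V : z' ∈ V := (dV z).2 h.zV
  have hz'W : z' ∈ W := (dW z).2 h.zW
  have hzz : z * z = 1 := h.elV z h.zV
  have hz'1 : z' ≠ 1 := by
    intro e
    apply h.z1
    rw [hz'] at e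
    calc z = d⁻¹ * (d * z * d⁻¹) * d := by group
      _ = 1 := by rw [e]; group
  have hzz' : z * z' ≠ 1 := by
    intro e
    apply dz
    calc z' = (z * z) * z' := by rw [hzz, one_mul]
      _ = z * (z * z') := by group
      _ = z := by rw [e, mul_one]
  have hall : x = 1 ∨ x = z ∨ x = z' ∨ x = z * z' := by
    by_contra hno
    simp only [not_or] at hno
    obtain ⟨n1, n2, n3, n4⟩ := hno
    have hm : ∀ a : K, a ∈ V → a ∈ W → a ∈ V ⊓ W := fun a h1 h2 => ⟨h1, h2⟩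
    let f : Fin 5 → (V ⊓ W : Subgroup K) := ![⟨1, hm _ V.one_mem W.one_mem⟩, ⟨z, hm _ h.zV h.zW⟩,
      ⟨z', hm _ hz'V hz'W⟩, ⟨z * z', hm _ (V.mul_mem h.zV hz'V) (W.mul_mem h.zW hz'W)⟩, ⟨x, hm _ hxV hxW⟩]
    have hf : Function.Injective f := by
      have q1 := h.z1
      have q2 : z ≠ z' := Ne.symm dz
      have q3 : z ≠ z * z' := fun e => hz'1 (mul_eq_left.1 e.symm)
      have q4 : z' ≠ z * z' := fun e => h.z1 (mul_eq_right.1 e.symm)
      intro i j hij
      have hij' : ((f i : (V ⊓ W : Subgroup K)) : K) = f j := congrArg Subtype.val hij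
      fin_cases i <;> fin_cases j <;>
        first
        | rfl
        | (exfalso
           first
           | exact q1 hij'
           | exact q1 hij'.symm
           | exact hz'1 hij'
           | exact hz'1 hij'.symm
           | exact hzz' hij'
           | exact hzz' hij'.symm
           | exact n1 hij'
           | exact n1 hij'.symm
           | exact q2 hij'
           | exact q2 hij'.symm
           | exact q3 hij'
           | exact q3 hij'.symm
           | exact n2 hij'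
           | exact n2 hij'.symm
           | exact q4 hij'
           | exact q4 hij'.symm
           | exact n3 hij'
           | exact n3 hij'.symm
           | exact n4 hij'
           | exact n4 hij'.symm)
    have hfin : Finite (V ⊓ W : Subgroup K) := Nat.finite_of_card_ne_zero (by rw [h.cardVW]; norm_num)
    have h5 := Nat.card_le_card_of_injective f hf
    rw [h.cardVW, Nat.card_eq_fintype_card, Fintype.card_fin] at h5
    omega
  rcases hall with rfl | rfl | rfl | rfl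
  · exact ⟨1, UV.one_mem, UW.one_mem, by rw [map_one]; group⟩
  · exact ⟨y, hy.1, hy.2, yt⟩
  · exact ⟨y', hy'm.1, hy'm.2, hy't⟩
  · refine ⟨y * y', UV.mul_mem hy.1 hy'm.1, UW.mul_mem hy.2 hy'm.2, ?_⟩
    rw [map_mul]
    exact beta_mulF yt hy't (yV _ ⟨z', hz'V, rfl⟩)

/-- the hypotheses of the kill -/
theorem killHyp [Finite G] (h : Sheet SK V W z c) (s : Setting t φ) (HV : Half t (V.map φ))
    (HW : Half t (W.map φ)) {UV UW : Subgroup G} (mV : ∀ b, b ∈ UV ↔ InU t (V.map φ) b)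
    (mW : ∀ b, b ∈ UW ↔ InU t (W.map φ) b) (eV : El UV) (eW : El UW)
    {y : G} (yy : y * y = 1) (yV : Cen y (V.map φ)) (yW : Cen y (W.map φ)) (yt : y * t * y⁻¹ = t * φ z)
    (nor : ∀ a ∈ UW, ∀ b ∈ UV, a * b * a⁻¹ ∈ UV) :
    KillHyp t (φ c) (V.map φ) (W.map φ) UV UW := by
  have hfinK : Finite K := Finite.of_injective φ s.inj
  have hci : c⁻¹ = c := inv_eq_of_mul_eq_one_left h.cc
  have hcc : φ c * φ c = 1 := by rw [← map_mul, h.cc, map_one]
  have hfci : (φ c)⁻¹ = φ c := inv_eq_of_mul_eq_one_left hcc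
  have mapW : ∀ {x : K}, φ x ∈ W.map φ ↔ x ∈ W := fun {x} => Subgroup.mem_map_iff_mem s.inj
  have mapV : ∀ {x : K}, φ x ∈ V.map φ ↔ x ∈ V := fun {x} => Subgroup.mem_map_iff_mem s.inj
  have cV : ∀ x ∈ V, c * x * c ∈ V := by
    intro x hx
    have := (h.nV c h.cS x).2 hx
    rwa [hci] at this
  have cW : ∀ x ∈ W, c * x * c ∈ W := by
    intro x hx
    have := (h.nW c h.cS x).2 hx
    rwa [hci] at this
  -- the layer lemma for `V ∩ W`, `V`, `W`
  have L0 : ∀ x ∈ V, x ∈ W → c * x * c * x = 1 → ∃ y ∈ V, y ∈ W ∧ c * y * c * y * x = 1 := by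
    intro x hxV hxW hx
    obtain ⟨v, hvV, hvW, hv⟩ := h.c0
    obtain ⟨y, hy, e⟩ := layer_lemma (c := c) (X := V ⊓ W) (X₀ := ⊥) h.cc (fun x hx => h.elV x hx.1) bot_le
      (fun x hx => ⟨cV x hx.1, cW x hx.2⟩)
      (fun x hx => by
        rw [Subgroup.mem_bot] at hx ⊢
        rw [hx, mul_one, h.cc])
      (by rw [h.cardVW, Subgroup.card_bot]) (v := v) ⟨hvV, hvW⟩
      (fun e => hv (by
        rw [Subgroup.mem_bot] at e
        have h1 : v⁻¹ = v := inv_eq_of_mul_eq_one_left (h.elV v hvV)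
        calc c * v = (c * v * c * v) * (v⁻¹ * c⁻¹) := by group
          _ = v * c := by rw [e, h1, hci, one_mul]))
      (x := x) ⟨hxV, hxW⟩ (by rw [Subgroup.mem_bot]; exact hx)
    rw [Subgroup.mem_bot] at e
    exact ⟨y, hy.1, hy.2, e⟩
  have LV : ∀ x ∈ V, c * x * c * x ∈ W → ∃ y ∈ V, c * y * c * y * x ∈ W := by
    intro x hxV hx
    obtain ⟨v, hv, hv'⟩ := h.cV
    obtain ⟨y, hy, e⟩ := layer_lemma (c := c) (X := V) (X₀ := V ⊓ W) h.cc h.elV inf_le_left cV
      (fun x hx => ⟨cV x hx.1, cW x hx.2⟩) (by rw [h.cardV, h.cardVW]) (v := v) hv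
      (fun e => hv' (by
        rw [hci, inv_eq_of_mul_eq_one_left (h.elV v hv)]
        exact e.2))
      (x := x) hxV ⟨V.mul_mem (cV x hxV) hxV, hx⟩
    exact ⟨y, hy, e.2⟩
  have LW : ∀ x ∈ W, c * x * c * x ∈ V → ∃ y ∈ W, c * y * c * y * x ∈ V := by
    intro x hxW hx
    obtain ⟨v, hv, hv'⟩ := h.cW
    obtain ⟨y, hy, e⟩ := layer_lemma (c := c) (X := W) (X₀ := V ⊓ W) h.cc h.elW inf_le_right cW
      (fun x hx => ⟨cV x hx.1, cW x hx.2⟩) (by rw [h.cardW, h.cardVW]) (v := v) hv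
      (fun e => hv' (by
        rw [hci, inv_eq_of_mul_eq_one_left (h.elW v hv)]
        exact e.1))
      (x := x) hxW ⟨hx, W.mul_mem (cW x hxW) hxW⟩
    exact ⟨y, hy, e.1⟩
  have hmap : ∀ {y x : K}, φ c * φ y * φ c * φ y * φ x = φ (c * y * c * y * x) := by
    intro y x
    simp only [map_mul]
  have hmap' : ∀ {x : K}, φ c * φ x * φ c * φ x = φ (c * x * c * x) := by
    intro x
    simp only [map_mul]
  exact {
    tt := s.tt
    cc := hcc
    ct := s.comm c
    elV := eV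
    elW := eW
    VU := fun v hv => (mV v).2 (HV.V_InU hv)
    WU := fun v hv => (mW v).2 (HW.V_InU hv)
    tV := HV.comm
    tW := HW.comm
    cenV := fun b hb hbt => ((mV b).1 hb).2.2 hbt
    cenW := fun b hb hbt => ((mW b).1 hb).2.2 hbt
    betaV := fun b hb => ((mV b).1 hb).1.2
    betaW := fun b hb => ((mW b).1 hb).1.2
    exV := fun v hv => by
      obtain ⟨b, hb, e⟩ := HV.exists_U hv
      exact ⟨b, (mV b).2 hb, e⟩
    exW := fun v hv => by
      obtain ⟨b, hb, e⟩ := HW.exists_U hv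
      exact ⟨b, (mW b).2 hb, e⟩
    cV := by
      rintro _ ⟨v, hv, rfl⟩
      rw [← map_mul, ← map_mul]
      exact ⟨_, cV v hv, rfl⟩
    cW := by
      rintro _ ⟨v, hv, rfl⟩
      rw [← map_mul, ← map_mul]
      exact ⟨_, cW v hv, rfl⟩
    cUV := fun b hb => by
      rw [mV]
      have := ((mV b).1 hb).conjF (map_nrm (φ := φ) (h.nV c h.cS)) (s.comm c)
      rwa [hfci] at this
    cUW := fun b hb => by
      rw [mW]
      have := ((mW b).1 hb).conjF (map_nrm (φ := φ) (h.nW c h.cS)) (s.comm c)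
      rwa [hfci] at this
    nor := nor
    ex0 := by
      rintro _ ⟨x, hx, rfl⟩ hxW
      exact exists_ex0 h s mV mW yy yV yW yt x hx (mapW.1 hxW)
    l0 := by
      rintro _ ⟨x, hx, rfl⟩ hxW e
      rw [hmap', ← map_one φ] at e
      obtain ⟨y, hy, hyW, e'⟩ := L0 x hx (mapW.1 hxW) (s.inj e)
      refine ⟨φ y, ⟨y, hy, rfl⟩, ⟨y, hyW, rfl⟩, ?_⟩
      rw [hmap, e', map_one]
    lV := by
      rintro _ ⟨x, hx, rfl⟩ e
      rw [hmap', mapW] at e
      obtain ⟨y, hy, e'⟩ := LV x hx e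
      refine ⟨φ y, ⟨y, hy, rfl⟩, ?_⟩
      rw [hmap]
      exact ⟨_, e', rfl⟩
    lW := by
      rintro _ ⟨x, hx, rfl⟩ e
      rw [hmap', mapV] at e
      obtain ⟨y, hy, e'⟩ := LW x hx e
      refine ⟨φ y, ⟨y, hy, rfl⟩, ?_⟩
      rw [hmap]
      exact ⟨_, e', rfl⟩
    tVW := by
      rintro _ ⟨v, -, rfl⟩ _ ⟨w, -, rfl⟩ e
      rw [← map_mul] at e
      exact s.tK _ e.symm
    cVW := by
      rintro _ ⟨v, hv, rfl⟩ _ ⟨w, hw, rfl⟩ e
      rw [← map_mul] at e
      exact h.cN v hv w hw (s.inj e) }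

/-- `C_G(t)` has a Sylow 2-subgroup inside every subgroup containing `t` and `φ(S_K)` -/
theorem odd_relIndex [Finite G] (hmax : ∀ P : Subgroup K, IsPGroup 2 P → SK ≤ P → P = SK)
    (htwo : IsPGroup 2 SK) (s : Setting t φ) {S : Subgroup G} (htS : t ∈ S) (hS : SK.map φ ≤ S) :
    Odd (S.relIndex (Subgroup.centralizer {t})) := by
  classical
  set C := Subgroup.centralizer ({t} : Set G) with hC
  have hp : Fact (Nat.Prime 2) := ⟨Nat.prime_two⟩
  have mC : ∀ {g : G}, g ∈ C ↔ g * t = t * g := fun {g} => Subgroup.mem_centralizer_singleton_iff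
  -- the 2-group `T = ⟨t⟩ φ(S_K)`
  have hnor : ∀ x ∈ SK.map φ, t * x * t ∈ SK.map φ := by
    rintro _ ⟨k, hk, rfl⟩
    have : t * φ k * t = φ k := by
      calc t * φ k * t = t * (φ k * t) := by group
        _ = t * (t * φ k) := by rw [s.comm]
        _ = (t * t) * φ k := by group
        _ = φ k := by rw [s.tt, one_mul]
    rw [this]
    exact ⟨k, hk, rfl⟩
  set T := ext (SK.map φ) t s.tt hnor with hT
  have hTC : T ≤ C := by
    intro x hx
    rw [mC]
    rcases hx with ⟨k, -, e⟩ | ⟨k, -, e⟩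
    · rw [← e, s.comm]
    · have e1 : x = φ k * t := by rw [e]; rw [mul_assoc, s.tt, mul_one]
      rw [e1]
      calc φ k * t * t = φ k * t * t := rfl
        _ = (t * φ k) * t := by rw [s.comm]
        _ = t * (φ k * t) := by group
  have hT2 : IsPGroup 2 T := by
    have h1 : ∀ x ∈ SK.map φ, ∃ n, x ^ 2 ^ n = 1 := by
      rintro _ ⟨k, hk, rfl⟩
      obtain ⟨n, hn⟩ := htwo ⟨k, hk⟩
      refine ⟨n, ?_⟩
      have h2 : k ^ 2 ^ n = 1 := congrArg Subtype.val hn
      rw [← map_pow, h2, map_one]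
    rintro ⟨x, hx⟩
    have hxC := mC.1 (hTC hx)
    rcases hx with h2 | h2
    · obtain ⟨n, hn⟩ := h1 x h2
      exact ⟨n, Subtype.ext hn⟩
    · obtain ⟨n, hn⟩ := h1 _ h2
      refine ⟨n + 1, Subtype.ext ?_⟩
      show x ^ 2 ^ (n + 1) = 1
      have h3 : (x * t) ^ 2 = x ^ 2 := by
        calc (x * t) ^ 2 = x * (t * x) * t := by rw [pow_two]; group
          _ = x * (x * t) * t := by rw [hxC]
          _ = x ^ 2 * (t * t) := by rw [pow_two]; group
          _ = x ^ 2 := by rw [s.tt, mul_one]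
      rw [pow_succ' 2 n, pow_mul, ← h3, ← pow_mul, mul_comm 2, pow_mul, hn, one_pow]
  have hT2' : IsPGroup 2 (T.subgroupOf C) := by
    rintro ⟨⟨x, hx⟩, hxT⟩
    obtain ⟨n, hn⟩ := hT2 ⟨x, hxT⟩
    have h1 : x ^ 2 ^ n = 1 := congrArg Subtype.val hn
    exact ⟨n, Subtype.ext (Subtype.ext h1)⟩
  obtain ⟨Q, hQ⟩ := hT2'.exists_le_sylow
  -- `Q ≤ S`
  have hQS : (Q : Subgroup C) ≤ S.subgroupOf C := by
    set Q' := (Q : Subgroup C).map C.subtype with hQ'
    have hTQ : T ≤ Q' := by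
      intro x hx
      exact ⟨⟨x, hTC hx⟩, hQ hx, rfl⟩
    have hQ2 : ∀ x ∈ Q', ∃ n, x ^ 2 ^ n = 1 := by
      rintro _ ⟨q, hq, rfl⟩
      obtain ⟨n, hn⟩ := Q.isPGroup' ⟨q, hq⟩
      refine ⟨n, ?_⟩
      have h2 : q ^ 2 ^ n = 1 := congrArg Subtype.val hn
      rw [← map_pow, h2, map_one]
    have hR2 : IsPGroup 2 (Q'.comap φ) := by
      rintro ⟨k, hk⟩
      obtain ⟨n, hn⟩ := hQ2 (φ k) hk
      refine ⟨n, Subtype.ext ?_⟩
      show k ^ 2 ^ n = 1
      apply s.inj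
      rw [map_pow, hn, map_one]
    have hR : Q'.comap φ = SK := by
      apply hmax _ hR2
      intro k hk
      exact hTQ (Or.inl ⟨k, hk, rfl⟩)
    have htQ : t ∈ Q' := hTQ (a_mem_ext _ _ _ _)
    rintro ⟨x, hx⟩ hxQ
    show x ∈ S
    have hxQ' : x ∈ Q' := ⟨⟨x, hx⟩, hxQ, rfl⟩
    obtain ⟨k, rfl | e⟩ := s.cent x (mC.1 hx)
    · apply hS
      refine ⟨k, ?_, rfl⟩
      rw [← hR]
      exact hxQ'
    · have hk : φ k ∈ Q' := by
        have : φ k = t * x := by rw [e, ← mul_assoc, s.tt, one_mul]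
        rw [this]
        exact Q'.mul_mem htQ hxQ'
      rw [e]
      apply S.mul_mem htS
      apply hS
      refine ⟨k, ?_, rfl⟩
      rw [← hR]
      exact hk
  have h1 : ¬ 2 ∣ (Q : Subgroup C).index := Q.not_dvd_index
  have h2 := Subgroup.index_dvd_of_le hQS
  rw [← Nat.not_even_iff_odd]
  intro he
  exact h1 ((even_iff_two_dvd.1 he).trans h2)

/-- **The kill**, from the conclusions of the nodes A-E. -/
theorem kill_of [Finite G] (hG : ∀ H : Subgroup G, H.index ≠ 2) (h : Sheet SK V W z c) (s : Setting t φ)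
    (hA : ∀ g : G, g * t * g⁻¹ ≠ φ z) (HV : Half t (V.map φ)) (HW : Half t (W.map φ))
    {UV UW : Subgroup G} (mV : ∀ b, b ∈ UV ↔ InU t (V.map φ) b)
    (mW : ∀ b, b ∈ UW ↔ InU t (W.map φ) b) (eV : El UV) (eW : El UW)
    {y : G} (yy : y * y = 1) (yV : Cen y (V.map φ)) (yW : Cen y (W.map φ)) (yt : y * t * y⁻¹ = t * φ z)
    (nor : ∀ a ∈ UW, ∀ b ∈ UV, a * b * a⁻¹ ∈ UV) : False := by
  have k := killHyp h s HV HW mV mW eV eW yy yV yW yt nor
  apply k.false_of_odd hG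
  · intro g hg
    have hc1 : c ≠ 1 := by
      intro e
      exact h.cN 1 V.one_mem 1 W.one_mem (by rw [e, one_mul])
    obtain ⟨a, ha⟩ := h.inv c h.cc hc1
    apply hA ((φ a)⁻¹ * g)
    calc (φ a)⁻¹ * g * t * ((φ a)⁻¹ * g)⁻¹ = (φ a)⁻¹ * (g * t * g⁻¹) * φ a := by group
      _ = (φ a)⁻¹ * φ (a * z * a⁻¹) * φ a := by rw [hg, ← ha]
      _ = φ z := by rw [map_mul, map_mul, map_inv]; group
  · apply odd_relIndex h.max h.two s k.t_mem
    rintro _ ⟨x, hx, rfl⟩
    have hV : ∀ v ∈ V, φ v ∈ k.S := fun v hv => k.S0_le (k.UV_le (k.VU ⟨v, hv, rfl⟩))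
    have hW : ∀ w ∈ W, φ w ∈ k.S := fun w hw => k.S0_le (k.UW_le (k.WU ⟨w, hw, rfl⟩))
    obtain ⟨v, hv, w, hw, rfl | rfl⟩ := h.gen x hx
    · rw [map_mul]
      exact k.S.mul_mem (hV v hv) (hW w hw)
    · rw [map_mul, map_mul]
      exact k.S.mul_mem (k.S.mul_mem (hV v hv) (hW w hw)) k.c_mem

end

end Cfsg.Agent.OddHalf.MM
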