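import Cfsg.Agent.OddHalf.MM.Frame
import Cfsg.Agent.OddHalf.MM.Data
import Cfsg.Agent.OddHalf.MM.KillOf

/-!
# ODD half, D8: `K = M22`, `M23`, the clean case `C_G(t) = ⟨t⟩ × K` (assembly, helper259)
-/

set_option autoImplicit false

namespace Cfsg.Agent.OddHalf.MM

variable {K : Type*} [Group K] {G : Type*} [Group G] {SK V W : Subgroup K} {z c : K} {t : G}
  {φ : K →* G}

/-- **The uniform kill.** -/
theorem kill [Finite G] (hG : ∀ H : Subgroup G, H.index ≠ 2) (h : Sheet SK V W z c) (s : Setting t φ) :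
    False := by
  obtain ⟨hA, exV, exW⟩ := Frame.A hG h s
  obtain ⟨⟨y, yy, yV, yW, yt⟩, hV, hW⟩ := central h s exV exW
  obtain ⟨UV, UW, D⟩ := exists_fdata h s exV exW
  exact kill_of hG h s hA hV hW D.LV.mem D.LW.mem D.LV.el D.LW.el yy yV yW yt
    (fun a ha b hb => (D.nE a ha b).2 hb)

end Cfsg.Agent.OddHalf.MM
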