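import Cfsg.Agent.OddHalf.MM.Glue
import Cfsg.Agent.OddHalf.MM.Main
import Cfsg.Agent.KFacts.MM.Main
import Cfsg.Agent.KFacts.MM.GlueK
import Cfsg.Agent.KFacts.M23.OutOne

/-!
# ODD half, D8: the rows `M22` (clean case) and `M23` (helper253)

`base22`, `base23`: the K-facts of the front end. `m23`: the row `M23`. `clean22`: the case `C(t) = ⟨t⟩ K` of the row
`M22`.
-/

set_option autoImplicit false

namespace Cfsg.Agent.OddHalf.MM.Rows

open Subgroup Cfsg Cfsg.Agent.OddHalf.Front.FE Cfsg.Agent.OddHalf.MM.Glue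

universe u

/-- **the sheet of `M22`** with explicit data -/
theorem sheet22 : Sheet (KFacts.MM.Sub.S.subgroupOf Spor.M22) (KFacts.MM.Sub.V.subgroupOf Spor.M22)
    (KFacts.MM.Sub.W.subgroupOf Spor.M22) (⟨KFacts.MM.Sub.z, KFacts.MM.GlueK.z22⟩ : Spor.M22)
    ⟨KFacts.MM.Sub.c, KFacts.MM.Cent.c_mem22⟩ :=
  KFacts.MM.Main.sheet_of (K := Spor.M22) le_rfl SporadicA.MathieuRecog.M22_le (m := 3465) (by decide)
    (by rw [SporadicA.MathieuRecog.card_M22]; norm_num) KFacts.MM.InvM22.inv22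

theorem sheet23 : Sheet (KFacts.MM.Sub.S.subgroupOf Spor.M23) (KFacts.MM.Sub.V.subgroupOf Spor.M23)
    (KFacts.MM.Sub.W.subgroupOf Spor.M23) (⟨KFacts.MM.Sub.z, KFacts.MM.GlueK.z23⟩ : Spor.M23)
    ⟨KFacts.MM.Sub.c, SporadicA.MathieuRecog.M22_le KFacts.MM.Cent.c_mem22⟩ :=
  KFacts.MM.Main.sheet_of (K := Spor.M23) SporadicA.MathieuRecog.M22_le le_rfl (m := 79695) (by decide)
    (by rw [SporadicA.MathieuRecog.card_M23]; norm_num) KFacts.MM.InvM22.inv23

/-- `z` is not central, from a sheet -/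
theorem nz_of {K : Type*} [Group K] {SK V W : Subgroup K} {z c : K} (h : Sheet SK V W z c) :
    ∃ d : K, d * z ≠ z * d := by
  obtain ⟨d, -, -, hd⟩ := h.del
  refine ⟨d, fun h1 => hd ?_⟩
  rw [h1, mul_inv_cancel_right]

theorem base22 : Base (KFacts.MM.Sub.S.subgroupOf Spor.M22)
    (⟨KFacts.MM.Sub.z, KFacts.MM.GlueK.z22⟩ : Spor.M22) where
  two := sheet22.two
  max := sheet22.max
  z1 := sheet22.z1
  zS := sheet22.VS sheet22.zV
  zc := fun s hs => Subtype.ext (KFacts.MM.Int.z_central s hs)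
  cen := sheet22.cen
  zD := KFacts.MM.GlueK.z_second22
  nz := nz_of sheet22
  out := by
    intro α β hα hβ
    exact KFacts.MM.GlueK.out α β (fun k h => hα ⟨k, h⟩) (fun k h => hβ ⟨k, h⟩)
  syl := by
    intro α _ hfix
    by_contra hα
    obtain ⟨s, hs, hne⟩ := KFacts.MM.GlueK.syl α (fun k h => hα ⟨k, h⟩)
    exact hne (hfix s hs)

theorem base23 : Base (KFacts.MM.Sub.S.subgroupOf Spor.M23)
    (⟨KFacts.MM.Sub.z, KFacts.MM.GlueK.z23⟩ : Spor.M23) :=
  Base.of_inn (fun α => KFacts.M23.OutOne.exists_conj α) sheet23.two sheet23.max sheet23.z1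
    (sheet23.VS sheet23.zV) (fun s hs => Subtype.ext (KFacts.MM.Int.z_central s hs)) sheet23.cen KFacts.MM.GlueK.z_second23 (nz_of sheet23)

/-- the clean case of the rows -/
theorem clean {M : Type*} [Group M] {SK V W : Subgroup M} {z c : M} (h : Sheet SK V W z c)
    {G : Type u} [Group G] (hG : Iface.Ctx G) {K : Subgroup G} {t : G} {T : Subgroup G} (e : M ≃* K)
    (P : Position K t (SK.map e.toMonoidHom) (e z) T) (hin : ∀ g : G, g * t = t * g → g ∈ zpowers t ⊔ K) :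
    False := by
  have := hG.fin
  exact kill (index_ne_two hG) h (setting P hin e)

/-- **the row `M23`** -/
theorem m23 : D8.Rows.Row.{u} (fun K _ => Spor.IsoM23 K) := by
  intro G _ hG K hK hC hiso
  obtain ⟨e⟩ := hiso
  obtain ⟨t, T, P⟩ := position hG hK hC (base23.of_equiv e.symm)
  apply clean sheet23 hG e.symm P
  intro g hg
  apply mem_of_inn' P.facts.toStart hg
  rw [← inn_tr e.symm]
  exact KFacts.M23.OutOne.exists_conj _

end Cfsg.Agent.OddHalf.MM.Rows
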