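import Cfsg.Agent.OddHalf.MM.Sheet

/-!
# ODD half, D8, `M22`, `M23`: node D (helper438)

From `Half t V` and the commutation of the elements of `InU t V`: the elementary abelian group `U`
of order `2^8`, with `t` acting freely, the description of `B = U ∪ tU`, and the uniqueness
statements (9), (9'), (9'') of the text.
-/

set_option autoImplicit false

namespace Cfsg.Agent.OddHalf.MM

variable {G : Type*} [Group G]

/-! ### generalities -/

theorem El.comm {V : Subgroup G} (h : El V) {x y : G} (hx : x ∈ V) (hy : y ∈ V) :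
    x * y = y * x := by
  have h1 := h _ (V.mul_mem hx hy)
  have h2 := h x hx
  have h3 := h y hy
  have e1 : x⁻¹ = x := inv_eq_of_mul_eq_one_right h2
  have e2 : y⁻¹ = y := inv_eq_of_mul_eq_one_right h3
  have e3 : (x * y)⁻¹ = x * y := inv_eq_of_mul_eq_one_right h1
  rw [mul_inv_rev, e1, e2] at e3
  exact e3.symm

theorem El.inv {V : Subgroup G} (h : El V) {x : G} (hx : x ∈ V) : x⁻¹ = x :=
  inv_eq_of_mul_eq_one_right (h x hx)

theorem Cen.conj {V : Subgroup G} {g x : G} (h : Cen g V) (hx : x ∈ V) : g * x * g⁻¹ = x := by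
  rw [h x hx]; group

theorem Cen.mul {V : Subgroup G} {g g' : G} (h : Cen g V) (h' : Cen g' V) : Cen (g * g') V := by
  intro x hx
  rw [mul_assoc, h' x hx, ← mul_assoc, h x hx, mul_assoc]

theorem Cen.inv {V : Subgroup G} {g : G} (h : Cen g V) : Cen g⁻¹ V := by
  intro x hx
  have := h x hx
  calc g⁻¹ * x = g⁻¹ * (x * g) * g⁻¹ := by group
    _ = g⁻¹ * (g * x) * g⁻¹ := by rw [this]
    _ = x * g⁻¹ := by group

theorem Cen.one (V : Subgroup G) : Cen 1 V := by intro x _; simp

theorem El.cen {V : Subgroup G} (h : El V) {v : G} (hv : v ∈ V) : Cen v V :=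
  fun _ hx => h.comm hv hx

theorem Nrm.inv {V : Subgroup G} {g : G} (h : Nrm g V) : Nrm g⁻¹ V := by
  intro x
  have := h (g⁻¹ * x * g⁻¹⁻¹)
  rw [← this]
  have e : g * (g⁻¹ * x * g⁻¹⁻¹) * g⁻¹ = x := by group
  rw [e]

theorem Nrm.mul {V : Subgroup G} {g g' : G} (h : Nrm g V) (h' : Nrm g' V) : Nrm (g * g') V := by
  intro x
  rw [← h' x, ← h (g' * x * g'⁻¹)]
  have e : g * g' * x * (g * g')⁻¹ = g * (g' * x * g'⁻¹) * g⁻¹ := by group
  rw [e]

theorem Nrm.one (V : Subgroup G) : Nrm 1 V := by intro x; simp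

/-! ### the group `B` -/

namespace Half

variable {t : G} {V : Subgroup G}

theorem tinv (h : Half t V) : t⁻¹ = t := inv_eq_of_mul_eq_one_right h.tt

theorem cenT (h : Half t V) : Cen t V := fun v hv => (h.comm v hv).symm

end Half

variable {t : G} {V : Subgroup G}

theorem InB.mul {b b' : G} (hb : InB t V b) (hb' : InB t V b') : InB t V (b * b') := by
  obtain ⟨c, v, hv, e⟩ := hb
  obtain ⟨c', v', hv', e'⟩ := hb'
  refine ⟨c.mul c', v * v', V.mul_mem hv hv', ?_⟩
  calc b * b' * t * (b * b')⁻¹ = b * (b' * t * b'⁻¹) * b⁻¹ := by group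
    _ = (b * t * b⁻¹) * (b * v' * b⁻¹) := by rw [e']; group
    _ = t * (v * v') := by rw [e, c.conj hv', mul_assoc]

/-- explicit product rule for `β` -/
theorem beta_mul {b b' v v' : G} (c : Cen b V) (hv' : v' ∈ V)
    (e : b * t * b⁻¹ = t * v) (e' : b' * t * b'⁻¹ = t * v') :
    (b * b') * t * (b * b')⁻¹ = t * (v * v') := by
  calc b * b' * t * (b * b')⁻¹ = b * (b' * t * b'⁻¹) * b⁻¹ := by group
    _ = (b * t * b⁻¹) * (b * v' * b⁻¹) := by rw [e']; group
    _ = t * (v * v') := by rw [e, c.conj hv', mul_assoc]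

theorem beta_inv {b v : G} (hV : El V) (c : Cen b V) (hv : v ∈ V)
    (e : b * t * b⁻¹ = t * v) : b⁻¹ * t * b⁻¹⁻¹ = t * v := by
  have c' := c.inv
  have h1 : b⁻¹ * (b * t * b⁻¹) * b⁻¹⁻¹ = (b⁻¹ * t * b⁻¹⁻¹) * (b⁻¹ * v * b⁻¹⁻¹) := by
    rw [e]; group
  have h2 : b⁻¹ * (b * t * b⁻¹) * b⁻¹⁻¹ = t := by group
  rw [h2, c'.conj hv] at h1
  have h3 : b⁻¹ * t * b⁻¹⁻¹ = t * v⁻¹ := by
    rw [eq_mul_inv_iff_mul_eq]; exact h1.symm
  rw [h3, hV.inv hv]

theorem InB.inv {b : G} (hV : El V) (hb : InB t V b) : InB t V b⁻¹ := by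
  obtain ⟨c, v, hv, e⟩ := hb
  exact ⟨c.inv, v, hv, beta_inv hV c hv e⟩

theorem InB.of_cent {g : G} (hc : Cen g V) (ht : g * t = t * g) : InB t V g := by
  refine ⟨hc, 1, V.one_mem, ?_⟩
  rw [ht]; group

theorem InB.of_mem (h : Half t V) {v : G} (hv : v ∈ V) : InB t V v :=
  InB.of_cent (h.el.cen hv) (h.comm v hv)

theorem InB.of_t (h : Half t V) : InB t V t := InB.of_cent h.cenT rfl

theorem InB.one (t : G) (V : Subgroup G) : InB t V 1 :=
  InB.of_cent (Cen.one V) (by group)

theorem InU.of_mem (h : Half t V) {v : G} (hv : v ∈ V) : InU t V v :=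
  ⟨InB.of_mem h hv, h.el v hv, fun _ => hv⟩

/-- the group `B` -/
def Bgp (h : Half t V) : Subgroup G where
  carrier := {b | InB t V b}
  mul_mem' := fun ha hb => InB.mul ha hb
  one_mem' := InB.one t V
  inv_mem' := fun ha => InB.inv h.el ha

theorem mem_Bgp (h : Half t V) {b : G} : b ∈ Bgp h ↔ InB t V b := Iff.rfl

/-- every coset of `B` over `v` contains an element of `InU` -/
theorem exists_inU (h : Half t V) {v : G} (hv : v ∈ V) :
    ∃ u, InU t V u ∧ u * t * u⁻¹ = t * v := by
  by_cases h1 : v = 1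
  · subst h1
    exact ⟨1, InU.of_mem h V.one_mem, by group⟩
  · obtain ⟨b, hc, e⟩ := h.ex v hv
    have hne : ∀ x : G, x * t * x⁻¹ = t * v → x * t = t * x → x ∈ V := by
      intro x hx hx'
      exfalso
      apply h1
      rw [hx'] at hx
      have : t * v = t := by rw [← hx]; group
      exact mul_eq_left.mp this
    rcases h.sq v hv b hc e with hs | hs
    · exact ⟨b, ⟨⟨hc, v, hv, e⟩, hs, hne b e⟩, e⟩
    · have e2 : (t * b) * t * (t * b)⁻¹ = t * v := by
        calc (t * b) * t * (t * b)⁻¹ = t * (b * t * b⁻¹) * t⁻¹ := by group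
          _ = t * (t * v) * t := by rw [e, h.tinv]
          _ = (t * t) * v * t := by group
          _ = v * t := by rw [h.tt, one_mul]
          _ = t * v := h.comm v hv
      refine ⟨t * b, ⟨⟨h.cenT.mul hc, v, hv, e2⟩, ?_, hne _ e2⟩, e2⟩
      calc t * b * (t * b) = t * (b * t * b⁻¹) * (b * b) := by group
        _ = (t * t) * (v * v) := by rw [e, hs]; group
        _ = 1 := by rw [h.tt, h.el v hv, one_mul]

/-- what node D gives -/
structure Layer (t : G) (V U : Subgroup G) : Prop where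
  mem : ∀ b, b ∈ U ↔ InU t V b
  el : El U
  card : Nat.card U = 256
  VU : V ≤ U
  /-- `C_U(t) = V` -/
  cT : ∀ u ∈ U, u * t = t * u → u ∈ V
  cV : ∀ u ∈ U, Cen u V
  onto : ∀ v ∈ V, ∃ u ∈ U, u * t * u⁻¹ = t * v
  beta : ∀ u ∈ U, ∃ v ∈ V, u * t * u⁻¹ = t * v
  /-- `t` normalises `U` -/
  tU : Nrm t U
  /-- `B = U ∪ tU` -/
  split : ∀ b, InB t V b → b ∈ U ∨ t * b ∈ U
  /-- the elements of square one of `tU` are in `tV` -/
  invT : ∀ u ∈ U, t * u * (t * u) = 1 → u ∈ V
  /-- (9) -/
  grow : ∀ R : Subgroup G, IsPGroup 2 R → (∀ r ∈ R, Cen r V) → t ∈ R → ∀ r ∈ R, InB t V r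
  /-- (9') -/
  uniq : ∀ F : Subgroup G, (∀ f ∈ F, InB t V f) → El F → Nat.card F = 256 → F = U
  /-- (9'') -/
  nrm : ∀ g : G, Nrm g V → g * t = t * g → Nrm g U

theorem InU.mul (h : Half t V)
    (hg : ∀ b b', InU t V b → InU t V b' → b * b' = b' * b) {b b' : G}
    (hb : InU t V b) (hb' : InU t V b') : InU t V (b * b') := by
  have hcomm := hg b b' hb hb'
  refine ⟨hb.1.mul hb'.1, ?_, ?_⟩
  · calc b * b' * (b * b') = b * (b' * b) * b' := by group
      _ = (b * b) * (b' * b') := by rw [← hcomm]; group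
      _ = 1 := by rw [hb.2.1, hb'.2.1, one_mul]
  · intro ht
    rcases h.cent _ ht (hb.1.1.mul hb'.1.1) with ⟨v, hv, e | e⟩
    · rw [e]; exact hv
    · -- `b b' = t v` commutes with `b'`
      have h1 : b' * (b * b') = b * b' * b' := by rw [← mul_assoc, ← hcomm]
      rw [e] at h1
      -- b' * (t v) = t v * b'
      have h2 : b' * t = t * b' := by
        have h3 : b' * (t * v) * v = t * v * b' * v := by rw [h1]
        have h4 : b' * (t * v) * v = b' * t * (v * v) := by group
        have h5 : t * v * b' * v = t * (v * (b' * v)) := by group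
        rw [h4, h5, h.el v hv, hb'.1.1 v hv, ← mul_assoc v v b', h.el v hv] at h3
        simpa using h3
      have h3 : b' ∈ V := hb'.2.2 h2
      have h4 : b * t = t * b := by
        have h5 : b = t * v * b'⁻¹ := by rw [← e]; group
        have h6 : v * b'⁻¹ ∈ V := V.mul_mem hv (V.inv_mem h3)
        have h7 := h.comm _ h6
        have h8 : b = t * (v * b'⁻¹) := by rw [h5]; group
        rw [h8]
        calc t * (v * b'⁻¹) * t = t * ((v * b'⁻¹) * t) := by group
          _ = t * (t * (v * b'⁻¹)) := by rw [h7]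
      exact V.mul_mem (hb.2.2 h4) h3

/-- the subgroup `U` -/
def Ugp (h : Half t V) (hg : ∀ b b', InU t V b → InU t V b' → b * b' = b' * b) :
    Subgroup G where
  carrier := {b | InU t V b}
  mul_mem' := fun ha hb => InU.mul h hg ha hb
  one_mem' := InU.of_mem h V.one_mem
  inv_mem' := by
    intro x hx
    have : x⁻¹ = x := inv_eq_of_mul_eq_one_right hx.2.1
    show InU t V x⁻¹
    rw [this]; exact hx

theorem mem_Ugp (h : Half t V) (hg : ∀ b b', InU t V b → InU t V b' → b * b' = b' * b) {b : G} :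
    b ∈ Ugp h hg ↔ InU t V b := Iff.rfl

/-- a subset of `V ∪ tV` has at most 32 elements -/
theorem card_le_of_sub (h : Half t V) (F : Subgroup G)
    (hF : ∀ f ∈ F, f ∈ V ∨ ∃ v ∈ V, f = t * v) : Nat.card F ≤ 32 := by
  have hfin : (V : Set G).Finite := by
    have : Finite V := Nat.finite_of_card_ne_zero (by rw [h.card]; norm_num)
    exact Set.toFinite _
  have hV : (V : Set G).ncard = 16 := by
    have : (V : Set G).ncard = Nat.card V := rfl
    rw [this, h.card]
  have hsub : (F : Set G) ⊆ (V : Set G) ∪ (fun v => t * v) '' (V : Set G) := by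
    intro f hf
    rcases hF f hf with h1 | ⟨v, hv, e⟩
    · exact Or.inl h1
    · exact Or.inr ⟨v, hv, e.symm⟩
  have hfin2 : ((V : Set G) ∪ (fun v => t * v) '' (V : Set G)).Finite :=
    hfin.union (hfin.image _)
  have h1 := Set.ncard_le_ncard hsub hfin2
  have h2 := Set.ncard_union_le (V : Set G) ((fun v => t * v) '' (V : Set G))
  have h3 := Set.ncard_image_le (f := fun v => t * v) hfin
  have h4 : Nat.card F = (F : Set G).ncard := rfl
  rw [h4]
  omega

theorem invT_of (h : Half t V) {u : G} (hu : InU t V u) (e : t * u * (t * u) = 1) : u ∈ V := by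
  apply hu.2.2
  have h1 : u⁻¹ = u := inv_eq_of_mul_eq_one_right hu.2.1
  have h2 : t * u = (t * u)⁻¹ := eq_inv_of_mul_eq_one_left e
  rw [mul_inv_rev, h1, h.tinv] at h2
  exact h2.symm

theorem split_of (h : Half t V)
    {b : G} (hg : ∀ b b', InU t V b → InU t V b' → b * b' = b' * b) (hb : InB t V b) :
    InU t V b ∨ InU t V (t * b) := by
  obtain ⟨c, v, hv, e⟩ := hb
  obtain ⟨u, hu, eu⟩ := exists_inU h hv
  have hb : InB t V b := ⟨c, v, hv, e⟩
  -- `u⁻¹ b` centralises `t`
  have e1 := beta_mul (t := t) (V := V) (hu.1.1.inv) hv (beta_inv h.el hu.1.1 hv eu) e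
  rw [h.el v hv, mul_one] at e1
  have e2 : (u⁻¹ * b) * t = t * (u⁻¹ * b) := by
    have := congrArg (· * (u⁻¹ * b)) e1
    simpa [mul_assoc] using this
  rcases h.cent _ e2 (hu.1.1.inv.mul c) with ⟨w, hw, e3 | e3⟩
  · left
    have : b = u * w := by rw [← e3]; group
    rw [this]
    exact InU.mul h hg hu (InU.of_mem h hw)
  · right
    have e4 : b = u * t * w := by
      have : b = u * (u⁻¹ * b) := by group
      rw [this, e3]; group
    have e5 : t * u * t = v * u := by
      have : u * t = t * v * u := by rw [← eu]; group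
      rw [mul_assoc, this]
      calc t * (t * v * u) = (t * t) * v * u := by group
        _ = v * u := by rw [h.tt, one_mul]
    have e6 : t * b = v * u * w := by
      rw [e4]
      calc t * (u * t * w) = (t * u * t) * w := by group
        _ = v * u * w := by rw [e5]
    rw [e6]
    exact InU.mul h hg (InU.mul h hg (InU.of_mem h hv) hu) (InU.of_mem h hw)

theorem InU.conj {g x : G} (hn : Nrm g V) (ht : g * t = t * g)
    (hx : InU t V x) : InU t V (g * x * g⁻¹) := by
  obtain ⟨⟨c, v, hv, e⟩, h2, h3⟩ := hx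
  have htg : g * t * g⁻¹ = t := by rw [ht]; group
  refine ⟨⟨?_, g * v * g⁻¹, (hn v).mpr hv, ?_⟩, ?_, ?_⟩
  · intro y hy
    have hy' : g⁻¹ * y * g ∈ V := by
      have := hn.inv y
      rw [inv_inv] at this
      exact this.mpr hy
    have := c _ hy'
    calc g * x * g⁻¹ * y = g * (x * (g⁻¹ * y * g)) * g⁻¹ := by group
      _ = g * ((g⁻¹ * y * g) * x) * g⁻¹ := by rw [this]
      _ = y * (g * x * g⁻¹) := by group
  · have : g * x * g⁻¹ * t * (g * x * g⁻¹)⁻¹ =
        g * (x * (g⁻¹ * t * g) * x⁻¹) * g⁻¹ := by group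
    have hgt : g⁻¹ * t * g = t := by
      rw [mul_assoc, ← ht]; group
    rw [this, hgt, e]
    calc g * (t * v) * g⁻¹ = (g * t * g⁻¹) * (g * v * g⁻¹) := by group
      _ = t * (g * v * g⁻¹) := by rw [htg]
  · calc g * x * g⁻¹ * (g * x * g⁻¹) = g * (x * x) * g⁻¹ := by group
      _ = 1 := by rw [h2]; group
  · intro hc
    apply (hn x).mpr
    apply h3
    have hgt : g⁻¹ * t * g = t := by
      rw [mul_assoc, ← ht]; group
    calc x * t = x * (g⁻¹ * t * g) := by rw [hgt]
      _ = g⁻¹ * (g * x * g⁻¹ * t) * g := by group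
      _ = g⁻¹ * (t * (g * x * g⁻¹)) * g := by rw [hc]
      _ = (g⁻¹ * t * g) * x := by group
      _ = t * x := by rw [hgt]

/-- the homomorphism `β` on a subgroup of `B` -/
def betaHom (h : Half t V) (U : Subgroup G) (hU : ∀ b ∈ U, InB t V b) : U →* V where
  toFun b := ⟨t * b * t * (b : G)⁻¹, by
    obtain ⟨_, v, hv, e⟩ := hU b b.2
    have : t * b * t * (b : G)⁻¹ = t * (b * t * (b : G)⁻¹) := by group
    rw [this, e, ← mul_assoc, h.tt, one_mul]
    exact hv⟩
  map_one' := by
    apply Subtype.ext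
    simp [h.tt]
  map_mul' := by
    intro a b
    apply Subtype.ext
    obtain ⟨c, v, hv, e⟩ := hU a a.2
    obtain ⟨c', v', hv', e'⟩ := hU b b.2
    have h1 := beta_mul (t := t) (V := V) c hv' e e'
    show t * (a * b : G) * t * (a * b : G)⁻¹ = (t * a * t * (a : G)⁻¹) * (t * b * t * (b : G)⁻¹)
    have e1 : t * (a * b : G) * t * (a * b : G)⁻¹ = t * ((a * b : G) * t * (a * b : G)⁻¹) := by
      group
    have e2 : (t * a * t * (a : G)⁻¹) = t * (a * t * (a : G)⁻¹) := by group
    have e3 : (t * b * t * (b : G)⁻¹) = t * (b * t * (b : G)⁻¹) := by group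
    rw [e1, e2, e3, h1, e, e']
    calc t * (t * (v * v')) = (t * t) * (v * v') := by group
      _ = ((t * t) * v) * ((t * t) * v') := by rw [h.tt]; group
      _ = t * (t * v) * (t * (t * v')) := by group

theorem card_of (h : Half t V) (U : Subgroup G) (hU : ∀ b ∈ U, InB t V b) (VU : V ≤ U)
    (hc : ∀ u ∈ U, u * t = t * u → u ∈ V)
    (ho : ∀ v ∈ V, ∃ u ∈ U, u * t * u⁻¹ = t * v) : Nat.card U = 256 := by
  have hsurj : Function.Surjective (betaHom h U hU) := by
    rintro ⟨v, hv⟩
    obtain ⟨u, hu, e⟩ := ho v hv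
    refine ⟨⟨u, hu⟩, Subtype.ext ?_⟩
    show t * u * t * u⁻¹ = v
    have : t * u * t * u⁻¹ = t * (u * t * u⁻¹) := by group
    rw [this, e, ← mul_assoc, h.tt, one_mul]
  have hker : (betaHom h U hU).ker = V.subgroupOf U := by
    ext ⟨u, hu⟩
    rw [MonoidHom.mem_ker, Subgroup.mem_subgroupOf]
    constructor
    · intro h1
      have h2 : t * u * t * u⁻¹ = 1 := congrArg Subtype.val h1
      apply hc u hu
      have h3 : t * u * t = u := by rw [mul_inv_eq_one] at h2; exact h2
      calc u * t = (t * u * t) * t := by rw [h3]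
        _ = t * u * (t * t) := by group
        _ = t * u := by rw [h.tt, mul_one]
    · intro h1
      apply Subtype.ext
      show t * u * t * u⁻¹ = 1
      have := h.comm u h1
      rw [mul_assoc t u t, this, ← mul_assoc, h.tt, one_mul, mul_inv_cancel]
  have h1 := Subgroup.card_mul_index (betaHom h U hU).ker
  rw [Subgroup.index_ker, MonoidHom.range_eq_top.mpr hsurj] at h1
  have h2 : Nat.card (⊤ : Subgroup V) = 16 := by
    rw [Nat.card_congr (Subgroup.topEquiv.toEquiv), h.card]
  have h3 : Nat.card (betaHom h U hU).ker = 16 := by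
    rw [hker, Nat.card_congr (Subgroup.subgroupOfEquivOfLe VU).toEquiv, h.card]
  rw [h2, h3] at h1
  omega

/-- (9) -/
theorem grow_of [Finite G] (h : Half t V)
    (hg : ∀ b b', InU t V b → InU t V b' → b * b' = b' * b)
    (R : Subgroup G) (hR : IsPGroup 2 R) (hc : ∀ r ∈ R, Cen r V) (ht : t ∈ R) :
    ∀ r ∈ R, InB t V r := by
  by_contra hcon
  push Not at hcon
  obtain ⟨r, hr, hrB⟩ := hcon
  have : Fact (Nat.Prime 2) := ⟨Nat.prime_two⟩
  have : Group.IsNilpotent R := hR.isNilpotent
  have hN := Group.normalizerCondition_of_isNilpotent (G := R)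
  let H : Subgroup R := (Bgp h).subgroupOf R
  have hlt : H < ⊤ := by
    rw [lt_top_iff_ne_top]
    intro htop
    have : (⟨r, hr⟩ : R) ∈ H := by rw [htop]; trivial
    exact hrB (Subgroup.mem_subgroupOf.mp this)
  obtain ⟨_, hnot⟩ := (SetLike.lt_iff_le_and_exists.mp (hN H hlt))
  obtain ⟨n, hn, hnH⟩ := hnot
  have htH : (⟨t, ht⟩ : R) ∈ H := Subgroup.mem_subgroupOf.mpr (InB.of_t h)
  have h1 := (Subgroup.mem_normalizer_iff.mp hn ⟨t, ht⟩).mp htH
  have h2 : InB t V ((n : G) * t * (n : G)⁻¹) := Subgroup.mem_subgroupOf.mp h1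
  have hnc : Cen (n : G) V := hc n n.2
  have hnB : ¬ InB t V (n : G) := fun h3 => hnH (Subgroup.mem_subgroupOf.mpr h3)
  set s : G := (n : G) * t * (n : G)⁻¹ with hs
  have hss : s * s = 1 := by
    rw [hs]
    calc (n : G) * t * (n : G)⁻¹ * ((n : G) * t * (n : G)⁻¹) = (n : G) * (t * t) * (n : G)⁻¹ := by
          group
      _ = 1 := by rw [h.tt]; group
  rcases split_of h hg h2 with h3 | h3
  · -- `s ∈ U`
    obtain ⟨vs, hvs, es⟩ := h2.2
    -- an element of `V` outside `{1, vs}`
    obtain ⟨v, hv, hv1, hv2⟩ : ∃ v ∈ V, v ≠ 1 ∧ v ≠ vs := by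
      by_contra hno
      push Not at hno
      have hsub : (V : Set G) ⊆ {1, vs} := by
        intro v hv
        by_cases h1 : v = 1
        · exact Or.inl h1
        · exact Or.inr (hno v hv h1)
      have hle := Set.ncard_le_ncard hsub (Set.toFinite _)
      have h4 : (V : Set G).ncard = 16 := by
        have : (V : Set G).ncard = Nat.card V := rfl
        rw [this, h.card]
      have h5 := Set.ncard_insert_le (1 : G) {vs}
      rw [Set.ncard_singleton] at h5
      omega
    obtain ⟨u, hu, eu⟩ := exists_inU h hv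
    have hus : u * s = s * u := hg u s hu h3
    have h4 : ((n : G)⁻¹ * u * n) * t = t * ((n : G)⁻¹ * u * n) := by
      calc ((n : G)⁻¹ * u * n) * t = (n : G)⁻¹ * (u * ((n : G) * t * (n : G)⁻¹)) * n := by group
        _ = (n : G)⁻¹ * (s * u) * n := by rw [← hs, hus]
        _ = t * ((n : G)⁻¹ * u * n) := by rw [hs]; group
    rcases h.cent _ h4 ((hnc.inv.mul hu.1.1).mul hnc) with ⟨w, hw, e | e⟩
    · have e1 : u = (n : G) * w * (n : G)⁻¹ := by rw [← e]; group
      rw [hnc.conj hw] at e1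
      rw [e1, h.comm w hw] at eu
      have : t = t * v := by rw [← eu]; group
      exact hv1 (mul_eq_left.mp this.symm)
    · have e1 : u = s * w := by
        have : u = (n : G) * (t * w) * (n : G)⁻¹ := by rw [← e]; group
        rw [this]
        calc (n : G) * (t * w) * (n : G)⁻¹ = s * ((n : G) * w * (n : G)⁻¹) := by rw [hs]; group
          _ = s * w := by rw [hnc.conj hw]
      have e2 := beta_mul (t := t) (V := V) h2.1 V.one_mem es
        (show w * t * w⁻¹ = t * 1 by rw [h.comm w hw]; group)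
      rw [← e1, eu, mul_one] at e2
      exact hv2 (mul_left_cancel e2)
  · -- `t * s ∈ U`
    have h4 : t * s ∈ V := by
      apply invT_of h h3
      calc t * (t * s) * (t * (t * s)) = (t * t) * s * ((t * t) * s) := by group
        _ = 1 := by rw [h.tt, one_mul, hss]
    apply hnB
    refine ⟨hnc, t * s, h4, ?_⟩
    calc (n : G) * t * (n : G)⁻¹ = (t * t) * s := by rw [h.tt, one_mul]
      _ = t * (t * s) := by group

/-- NODE D -/
theorem exists_layer [Finite G] (h : Half t V)
    (hg : ∀ b b', InU t V b → InU t V b' → b * b' = b' * b) : ∃ U : Subgroup G, Layer t V U := by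
  have hmem : ∀ b, b ∈ Ugp h hg ↔ InU t V b := fun b => Iff.rfl
  have hel : El (Ugp h hg) := fun x hx => hx.2.1
  have hVU : V ≤ Ugp h hg := fun v hv => InU.of_mem h hv
  have hcT : ∀ u ∈ Ugp h hg, u * t = t * u → u ∈ V := fun u hu => hu.2.2
  have honto : ∀ v ∈ V, ∃ u ∈ Ugp h hg, u * t * u⁻¹ = t * v := fun v hv => exists_inU h hv
  have hcard : Nat.card (Ugp h hg) = 256 := card_of h _ (fun b hb => hb.1) hVU hcT honto
  have hinvT : ∀ u ∈ Ugp h hg, t * u * (t * u) = 1 → u ∈ V := fun u hu e => invT_of h hu e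
  have hnrm : ∀ g : G, Nrm g V → g * t = t * g → Nrm g (Ugp h hg) := by
    intro g hn ht x
    constructor
    · intro hx
      have ht' : g⁻¹ * t = t * g⁻¹ := by
        calc g⁻¹ * t = g⁻¹ * (t * g) * g⁻¹ := by group
          _ = g⁻¹ * (g * t) * g⁻¹ := by rw [ht]
          _ = t * g⁻¹ := by group
      have := InU.conj hn.inv ht' hx
      have e : g⁻¹ * (g * x * g⁻¹) * g⁻¹⁻¹ = x := by group
      rw [e] at this
      exact this
    · intro hx
      exact InU.conj hn ht hx
  refine ⟨Ugp h hg, hmem, hel, hcard, hVU, hcT, fun u hu => hu.1.1, honto, fun u hu => hu.1.2,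
    ?_, fun b hb => split_of h hg hb, hinvT, grow_of h hg, ?_, hnrm⟩
  · apply hnrm t _ rfl
    intro x
    constructor
    · intro hx
      have h1 := h.comm _ hx
      have h2 : x = t⁻¹ * ((t * x * t⁻¹) * t) := by group
      rw [h1] at h2
      have h3 : x = t * x * t⁻¹ := by
        calc x = t⁻¹ * (t * (t * x * t⁻¹)) := h2
          _ = t * x * t⁻¹ := by group
      rw [h3]; exact hx
    · intro hx
      rw [← h.comm x hx]
      have : x * t * t⁻¹ = x := by group
      rw [this]; exact hx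
  · intro F hFB hFel hFc
    by_cases hle : F ≤ Ugp h hg
    · exact Subgroup.eq_of_le_of_card_ge hle (by rw [hFc, hcard])
    · exfalso
      obtain ⟨f, hf, hfU⟩ := SetLike.not_le_iff_exists.mp hle
      -- `t f ∈ V`
      have key : ∀ x ∈ F, x ∉ Ugp h hg → t * x ∈ V := by
        intro x hx hxU
        have h1 : InU t V (t * x) := (split_of h hg (hFB x hx)).resolve_left hxU
        apply invT_of h h1
        calc t * (t * x) * (t * (t * x)) = (t * t) * x * ((t * t) * x) := by group
          _ = 1 := by rw [h.tt, one_mul, hFel x hx]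
      have hff := key f hf hfU
      have hcard32 : Nat.card F ≤ 32 := by
        apply card_le_of_sub h
        intro x hx
        by_cases hxU : x ∈ Ugp h hg
        · left
          apply hcT x hxU
          have h1 : x * f = f * x := hFel.comm hx hf
          have h2 : x * (t * f) = (t * f) * x := hxU.1.1 _ hff
          -- t = (t f) f⁻¹, f⁻¹ = f
          have h3 : f⁻¹ = f := hFel.inv hf
          have h4 : t = (t * f) * f := by rw [mul_assoc, hFel f hf, mul_one]
          calc x * t = x * ((t * f) * f) := by rw [← h4]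
            _ = (x * (t * f)) * f := by group
            _ = (t * f) * (x * f) := by rw [h2]; group
            _ = (t * f) * f * x := by rw [h1]; group
            _ = t * x := by rw [← h4]
        · right
          refine ⟨t * x, key x hx hxU, ?_⟩
          rw [← mul_assoc, h.tt, one_mul]
      omega

end Cfsg.Agent.OddHalf.MM
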