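import Cfsg.Agent.OddHalf.MM.Elem

/-!
# ODD half, D8, `M22`, `M23`: node B (helper316)

The element `y` of order 2 centralising `V` and `W` with `t ^ y = t z`, and `Half t V`, `Half t W`.
-/

set_option autoImplicit false

namespace Cfsg.Agent.OddHalf.MM

variable {G : Type*} [Group G]

/-- `Half` without existence and squares -/
structure Pre (t : G) (V : Subgroup G) : Prop where
  tt : t * t = 1
  t1 : t ≠ 1
  card : Nat.card V = 16
  el : El V
  comm : ∀ v ∈ V, v * t = t * v
  tV : t ∉ V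
  cent : ∀ g : G, g * t = t * g → Cen g V → ∃ v ∈ V, g = v ∨ g = t * v

namespace Pre

variable {t : G} {V : Subgroup G}

theorem cenT (h : Pre t V) : Cen t V := fun v hv => (h.comm v hv).symm

/-- (4) -/
theorem sq_mem (h : Pre t V) {b v : G} (c : Cen b V) (hv : v ∈ V) (e : b * t * b⁻¹ = t * v) :
    b * b ∈ V := by
  have e1 := beta_mul (t := t) c hv e e
  rw [h.el v hv, mul_one] at e1
  have e2 : b * b * t = t * (b * b) := by
    rw [mul_inv_eq_iff_eq_mul] at e1; exact e1
  rcases h.cent _ e2 (c.mul c) with ⟨w, hw, e3 | e3⟩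
  · rw [e3]; exact hw
  · exfalso
    -- `b` commutes with `t`
    have h1 : b * (t * w) = t * w * b := by rw [← e3]; group
    have h2 : b * t = t * b := by
      have h3 : b * t * w = t * b * w := by
        calc b * t * w = b * (t * w) := by group
          _ = t * (w * b) := by rw [h1]; group
          _ = t * b * w := by rw [← c w hw]; group
      exact mul_right_cancel h3
    rcases h.cent _ h2 c with ⟨w', hw', e4 | e4⟩
    · rw [e4, h.el w' hw'] at e3
      apply h.tV
      have : t = w⁻¹ := by rw [eq_inv_iff_mul_eq_one]; exact e3.symm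
      rw [this]; exact V.inv_mem hw
    · have h5 : t * w' * (t * w') = 1 := by
        calc t * w' * (t * w') = t * (w' * t) * w' := by group
          _ = (t * t) * (w' * w') := by rw [h.comm w' hw']; group
          _ = 1 := by rw [h.tt, h.el w' hw', one_mul]
      rw [e4, h5] at e3
      apply h.tV
      have : t = w⁻¹ := by rw [eq_inv_iff_mul_eq_one]; exact e3.symm
      rw [this]; exact V.inv_mem hw

/-- two elements of `B` with the same `β` -/
theorem coset (h : Pre t V) {b b' v : G} (c : Cen b V) (c' : Cen b' V) (hv : v ∈ V)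
    (e : b * t * b⁻¹ = t * v) (e' : b' * t * b'⁻¹ = t * v) :
    ∃ u ∈ V, b' = b * u ∨ b' = b * (t * u) := by
  have e1 := beta_mul (t := t) c.inv hv (beta_inv h.el c hv e) e'
  rw [h.el v hv, mul_one] at e1
  have e2 : b⁻¹ * b' * t = t * (b⁻¹ * b') := by
    rw [mul_inv_eq_iff_eq_mul] at e1; exact e1
  rcases h.cent _ e2 (c.inv.mul c') with ⟨u, hu, e3 | e3⟩
  · exact ⟨u, hu, Or.inl (by rw [← e3]; group)⟩
  · exact ⟨u, hu, Or.inr (by rw [← e3]; group)⟩

/-- squares in a coset -/
theorem sq_coset (h : Pre t V) {b b' v : G} (c : Cen b V) (c' : Cen b' V) (hv : v ∈ V)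
    (e : b * t * b⁻¹ = t * v) (e' : b' * t * b'⁻¹ = t * v) :
    b' * b' = b * b ∨ b' * b' = b * b * v := by
  obtain ⟨u, hu, h1 | h1⟩ := h.coset c c' hv e e'
  · left
    rw [h1]
    calc b * u * (b * u) = b * (u * b) * u := by group
      _ = b * b * (u * u) := by rw [← c u hu]; group
      _ = b * b := by rw [h.el u hu, mul_one]
  · right
    have h2 : b * t = t * v * b := by rw [← e]; group
    have h3 : t * b * t = v * b := by
      calc t * b * t = t * (b * t) := by group
        _ = (t * t) * v * b := by rw [h2]; group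
        _ = v * b := by rw [h.tt, one_mul]
    rw [h1]
    calc b * (t * u) * (b * (t * u)) = b * t * (u * b) * t * u := by group
      _ = b * t * (b * u) * t * u := by rw [c u hu]
      _ = b * t * b * (u * t) * u := by group
      _ = b * (t * b * t) * (u * u) := by rw [h.comm u hu]; group
      _ = b * (b * v) := by rw [h3, h.el u hu, mul_one, c v hv]
      _ = b * b * v := by group

end Pre

section Map

variable {K : Type*} [Group K] {t : G} {φ : K →* G}

theorem Setting.cenMap (_s : Setting t φ) {E : Subgroup K} {k : K} (h : Cen k E) :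
    Cen (φ k) (E.map φ) := by
  rintro _ ⟨x, hx, rfl⟩
  rw [← map_mul, ← map_mul, h x hx]

theorem Setting.pre (s : Setting t φ) {E : Subgroup K} (hc : Nat.card E = 16) (he : El E)
    (hC : ∀ k : K, Cen k E → k ∈ E) : Pre t (E.map φ) := by
  refine ⟨s.tt, s.t1, ?_, ?_, ?_, ?_, ?_⟩
  · rw [← hc]
    exact (Nat.card_congr (E.equivMapOfInjective φ s.inj).toEquiv).symm
  · rintro _ ⟨x, hx, rfl⟩
    rw [← map_mul, he x hx, map_one]
  · rintro _ ⟨x, hx, rfl⟩
    exact s.comm x
  · rintro ⟨x, hx, e⟩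
    exact s.tK x e
  · intro g hg hgc
    obtain ⟨k, e | e⟩ := s.cent g hg
    · refine ⟨φ k, ⟨k, hC k fun x hx => s.inj ?_, rfl⟩, Or.inl e⟩
      have := hgc (φ x) ⟨x, hx, rfl⟩
      rw [e] at this
      rw [map_mul, map_mul, this]
    · refine ⟨φ k, ⟨k, hC k fun x hx => s.inj ?_, rfl⟩, Or.inr e⟩
      have := hgc (φ x) ⟨x, hx, rfl⟩
      rw [e, mul_assoc] at this
      have h2 : t * (φ k * φ x) = t * (φ x * φ k) := by
        rw [this]
        calc φ x * (t * φ k) = (φ x * t) * φ k := by group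
          _ = t * (φ x * φ k) := by rw [s.comm x]; group
      rw [map_mul, map_mul]
      exact mul_left_cancel h2

/-- the elements of `K` normalising `E` -/
theorem Setting.conjCen (s : Setting t φ) {E : Subgroup K} {k : K} (hk : Nrm k E) {b : G}
    (c : Cen b (E.map φ)) : Cen (φ k * b * (φ k)⁻¹) (E.map φ) := by
  rintro _ ⟨x, hx, rfl⟩
  have h1 : k⁻¹ * x * k ∈ E := by
    have := hk.inv x
    rw [inv_inv] at this
    exact this.2 hx
  have h2 := c (φ (k⁻¹ * x * k)) ⟨_, h1, rfl⟩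
  simp only [map_mul, map_inv] at h2
  calc φ k * b * (φ k)⁻¹ * φ x = φ k * (b * ((φ k)⁻¹ * φ x * φ k)) * (φ k)⁻¹ := by group
    _ = φ k * ((φ k)⁻¹ * φ x * φ k * b) * (φ k)⁻¹ := by rw [h2]
    _ = φ x * (φ k * b * (φ k)⁻¹) := by group

theorem Setting.conjBeta (s : Setting t φ) {k v : K} {b : G} (e : b * t * b⁻¹ = t * φ v) :
    (φ k * b * (φ k)⁻¹) * t * (φ k * b * (φ k)⁻¹)⁻¹ = t * φ (k * v * k⁻¹) := by
  have h1 := s.comm k
  have h2 : (φ k)⁻¹ * t * φ k = t := by rw [mul_assoc, ← h1]; group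
  calc (φ k * b * (φ k)⁻¹) * t * (φ k * b * (φ k)⁻¹)⁻¹
      = φ k * (b * ((φ k)⁻¹ * t * φ k) * b⁻¹) * (φ k)⁻¹ := by group
    _ = (φ k * t) * φ v * (φ k)⁻¹ := by rw [h2, e]; group
    _ = t * φ (k * v * k⁻¹) := by rw [h1, map_mul, map_mul, map_inv]; group

/-- squares of the elements of `B` over all of `E` from those over `z` -/
theorem Setting.half (s : Setting t φ) {E : Subgroup K} (hc : Nat.card E = 16) (he : El E)
    (hC : ∀ k : K, Cen k E → k ∈ E) {z : K} (hz : z ∈ E)
    (tr : ∀ v ∈ E, v ≠ 1 → ∃ k : K, Nrm k E ∧ k * z * k⁻¹ = v)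
    (ex : ∀ v ∈ E, ∃ b : G, Cen b (E.map φ) ∧ b * t * b⁻¹ = t * φ v)
    {y : G} (hy : y * y = 1) (cy : Cen y (E.map φ)) (ey : y * t * y⁻¹ = t * φ z) :
    Half t (E.map φ) := by
  have P := s.pre hc he hC
  refine ⟨P.tt, P.t1, P.card, P.el, P.comm, P.tV, P.cent, ?_, ?_⟩
  · rintro _ ⟨v, hv, rfl⟩
    exact ex v hv
  · rintro _ ⟨v, hv, rfl⟩ b cb eb
    by_cases h1 : v = 1
    · left
      rw [h1, map_one, mul_one] at eb
      have h2 : b * t = t * b := by rw [mul_inv_eq_iff_eq_mul] at eb; exact eb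
      obtain ⟨w, hw, e | e⟩ := P.cent b h2 cb
      · rw [e]; exact P.el w hw
      · rw [e]
        calc t * w * (t * w) = t * (w * t) * w := by group
          _ = (t * t) * (w * w) := by rw [P.comm w hw]; group
          _ = 1 := by rw [P.tt, P.el w hw, one_mul]
    · obtain ⟨k, hk, rfl⟩ := tr v hv h1
      have c0 := s.conjCen hk.inv cb
      have e0 := s.conjBeta (k := k⁻¹) eb
      have e1 : k⁻¹ * (k * z * k⁻¹) * k⁻¹⁻¹ = z := by group
      rw [e1] at e0
      have h2 := P.sq_coset cy c0 ⟨z, hz, rfl⟩ ey e0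
      have h3 : b * b = φ k * ((φ k⁻¹ * b * (φ k⁻¹)⁻¹) * (φ k⁻¹ * b * (φ k⁻¹)⁻¹)) * (φ k)⁻¹ := by
        rw [map_inv]; group
      rw [h3]
      rcases h2 with h2 | h2
      · left; rw [h2, hy]; group
      · right; rw [h2, hy, one_mul, map_mul, map_mul, map_inv]

end Map

section Main

variable {K : Type*} [Group K] {SK V W : Subgroup K} {z c : K} {t : G} {φ : K →* G}

/-- `z` is in the centre of `SK` -/
theorem Sheet.z_comm (h : Sheet SK V W z c) : ∀ s ∈ SK, s * z = z * s := by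
  have : Fact (Nat.Prime 2) := ⟨Nat.prime_two⟩
  have hfin : Finite SK := by
    have hV : Finite V := Nat.finite_of_card_ne_zero (by rw [h.cardV]; norm_num)
    have hW : Finite W := Nat.finite_of_card_ne_zero (by rw [h.cardW]; norm_num)
    have : ∀ s : SK, ∃ p : V × W × Bool, (s : K) = (p.1 : K) * p.2.1 * (if p.2.2 then c else 1) := by
      rintro ⟨s, hs⟩
      obtain ⟨v, hv, w, hw, e | e⟩ := h.gen s hs
      · exact ⟨(⟨v, hv⟩, ⟨w, hw⟩, false), by simp [e]⟩
      · exact ⟨(⟨v, hv⟩, ⟨w, hw⟩, true), by simp [e]⟩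
    choose f hf using this
    exact Finite.of_injective f fun a b hab => Subtype.ext (by rw [hf a, hf b, hab])
  have hnt : Nontrivial SK := ⟨⟨z, h.VS h.zV⟩, 1, fun e => h.z1 (congrArg Subtype.val e)⟩
  have : Nontrivial (Subgroup.center SK) := h.two.center_nontrivial
  obtain ⟨y, hy⟩ := exists_ne (1 : Subgroup.center SK)
  have hyc := Subgroup.mem_center_iff.1 y.2
  have h1 : ∀ s ∈ SK, s * ((y : SK) : K) = ((y : SK) : K) * s := fun s hs =>
    congrArg Subtype.val (hyc ⟨s, hs⟩)
  rcases h.cen _ (y : SK).2 h1 with h2 | h2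
  · exact absurd (Subtype.ext (Subtype.ext h2)) hy
  · rwa [h2] at h1

/-- the conjugates of the elements of `SK` by an element of `B` over `z` -/
theorem Sheet.conjT (h : Sheet SK V W z c) (s : Setting t φ) {E : Subgroup K} (hE : E ≤ SK)
    (hn : ∀ s ∈ SK, Nrm s E) (P : Pre t (E.map φ)) (hz : z ∈ E) {b : G} (cb : Cen b (E.map φ))
    (eb : b * t * b⁻¹ = t * φ z) (x : K) (hx : x ∈ SK) :
    (∃ y ∈ SK, b * φ x * b⁻¹ = φ y ∨ b * φ x * b⁻¹ = t * φ y) ∧
      ∃ y ∈ SK, b⁻¹ * φ x * b = φ y ∨ b⁻¹ * φ x * b = t * φ y := by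
  have key : ∀ x ∈ SK, ∃ u ∈ E, φ x * b * (φ x)⁻¹ = b * φ u ∨ φ x * b * (φ x)⁻¹ = b * (t * φ u) := by
    intro x hx
    have h1 := s.conjCen (hn x hx) cb
    have h2 := s.conjBeta (k := x) eb
    rw [h.z_comm x hx, mul_inv_cancel_right] at h2
    obtain ⟨_, ⟨u, hu, rfl⟩, h3⟩ := P.coset cb h1 ⟨z, hz, rfl⟩ eb h2
    exact ⟨u, hu, h3⟩
  constructor
  · -- with `x⁻¹`
    obtain ⟨u, hu, e | e⟩ := key x⁻¹ (SK.inv_mem hx)
    · refine ⟨x * u, SK.mul_mem hx (hE hu), Or.inl ?_⟩
      have h1 : b * φ x = φ x * (b * φ u) := by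
        rw [← e, map_inv]; group
      rw [h1, cb (φ u) ⟨u, hu, rfl⟩, map_mul]; group
    · refine ⟨x * (z * u), SK.mul_mem hx (SK.mul_mem (hE hz) (hE hu)), Or.inr ?_⟩
      have h1 : b * φ x = φ x * (b * (t * φ u)) := by
        rw [← e, map_inv]; group
      have h2 : b * t = t * φ z * b := by rw [← eb]; group
      calc b * φ x * b⁻¹ = φ x * (b * t) * φ u * b⁻¹ := by rw [h1]; group
        _ = φ x * t * φ z * (b * φ u) * b⁻¹ := by rw [h2]; group
        _ = φ x * t * φ z * φ u := by rw [cb (φ u) ⟨u, hu, rfl⟩]; group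
        _ = t * φ (x * (z * u)) := by rw [s.comm x, map_mul, map_mul]; group
  · obtain ⟨u, hu, e | e⟩ := key x hx
    · refine ⟨u * x, SK.mul_mem (hE hu) hx, Or.inl ?_⟩
      have h1 : φ x * b = b * φ u * φ x := by rw [← e]; group
      rw [mul_assoc, h1, map_mul]; group
    · refine ⟨u * x, SK.mul_mem (hE hu) hx, Or.inr ?_⟩
      have h1 : φ x * b = b * (t * φ u) * φ x := by rw [← e]; group
      rw [mul_assoc, h1, map_mul]; group

/-- **NODE B** -/
theorem central (h : Sheet SK V W z c) (s : Setting t φ)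
    (exV : ∀ v ∈ V, ∃ b : G, Cen b (V.map φ) ∧ b * t * b⁻¹ = t * φ v)
    (exW : ∀ w ∈ W, ∃ b : G, Cen b (W.map φ) ∧ b * t * b⁻¹ = t * φ w) :
    (∃ y, y * y = 1 ∧ Cen y (V.map φ) ∧ Cen y (W.map φ) ∧ y * t * y⁻¹ = t * φ z) ∧
      Half t (V.map φ) ∧ Half t (W.map φ) := by
  have PV := s.pre h.cardV h.elV h.CV
  have PW := s.pre h.cardW h.elW h.CW
  have hy : ∃ y, y * y = 1 ∧ Cen y (V.map φ) ∧ Cen y (W.map φ) ∧ y * t * y⁻¹ = t * φ z := by
    obtain ⟨b, cb, eb⟩ := exV z h.zV
    obtain ⟨b', cb', eb'⟩ := exW z h.zW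
    have zV' : φ z ∈ V.map φ := ⟨z, h.zV, rfl⟩
    have zW' : φ z ∈ W.map φ := ⟨z, h.zW, rfl⟩
    -- `k = b⁻¹ b'` commutes with `t`
    have eb2 := beta_inv PV.el cb zV' eb
    have hkt : (b⁻¹ * b') * t = t * (b⁻¹ * b') := by
      have h1 : b' * t = t * φ z * b' := by rw [← eb']; group
      have h2 : b⁻¹ * t = t * φ z * b⁻¹ := by rw [← eb2]; group
      calc (b⁻¹ * b') * t = b⁻¹ * (b' * t) := by group
        _ = (b⁻¹ * t) * φ z * b' := by rw [h1]; group
        _ = t * φ z * (b⁻¹ * φ z) * b' := by rw [h2]; group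
        _ = t * (φ z * φ z) * b⁻¹ * b' := by rw [cb.inv _ zV']; group
        _ = t * (b⁻¹ * b') := by rw [PV.el _ zV']; group
    obtain ⟨k, hk⟩ := s.cent _ hkt
    -- conjugation by `k`
    have hT := h.conjT s h.VS h.nV PV h.zV cb eb
    have hT' := h.conjT s h.WS h.nW PW h.zW cb' eb'
    have h1 : ∀ x ∈ SK, k * x * k⁻¹ ∈ SK := by
      intro x hx
      have h2 : φ (k * x * k⁻¹) = (b⁻¹ * b') * φ x * (b⁻¹ * b')⁻¹ := by
        rcases hk with hk | hk
        · rw [hk, map_mul, map_mul, map_inv]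
        · rw [hk, map_mul, map_mul, map_inv]
          have h3 := s.comm (k * x * k⁻¹)
          rw [map_mul, map_mul, map_inv] at h3
          calc φ k * φ x * (φ k)⁻¹ = φ k * φ x * (φ k)⁻¹ * t * t⁻¹ := by group
            _ = t * φ k * φ x * (t * φ k)⁻¹ := by rw [h3]; group
      obtain ⟨y, hy, e | e⟩ := (hT' x hx).1
      · obtain ⟨y', hy', e' | e'⟩ := (hT y hy).2
        · have h4 : φ (k * x * k⁻¹) = φ y' := by
            rw [h2, ← e', ← e]; group
          rw [s.inj h4]; exact hy'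
        · exfalso
          apply s.tK (k * x * k⁻¹ * y'⁻¹)
          have h4 : φ (k * x * k⁻¹) = t * φ y' := by
            rw [h2, ← e', ← e]; group
          rw [map_mul, h4, map_inv]; group
      · have h5 : b⁻¹ * t * b = t * φ z := by rw [inv_inv] at eb2; exact eb2
        obtain ⟨y', hy', e' | e'⟩ := (hT y hy).2
        · exfalso
          apply s.tK (k * x * k⁻¹ * (z * y')⁻¹)
          have h4 : φ (k * x * k⁻¹) = t * φ z * φ y' := by
            rw [h2]
            calc b⁻¹ * b' * φ x * (b⁻¹ * b')⁻¹ = b⁻¹ * (b' * φ x * b'⁻¹) * b := by group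
              _ = (b⁻¹ * t * b) * (b⁻¹ * φ y * b) := by rw [e]; group
              _ = t * φ z * φ y' := by rw [h5, e']
          rw [map_mul, h4, map_inv, map_mul]; group
        · have h4 : φ (k * x * k⁻¹) = φ (z * y') := by
            rw [h2]
            calc b⁻¹ * b' * φ x * (b⁻¹ * b')⁻¹ = b⁻¹ * (b' * φ x * b'⁻¹) * b := by group
              _ = (b⁻¹ * t * b) * (b⁻¹ * φ y * b) := by rw [e]; group
              _ = t * (φ z * t) * φ y' := by rw [h5, e']; group
              _ = (t * t) * (φ z * φ y') := by rw [s.comm z]; group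
              _ = φ (z * y') := by rw [s.tt, one_mul, map_mul]
          rw [s.inj h4]
          exact SK.mul_mem (h.VS h.zV) hy'
    have h1' : ∀ x ∈ SK, k⁻¹ * x * k ∈ SK := by
      intro x hx
      have h2 : φ (k⁻¹ * x * k) = (b⁻¹ * b')⁻¹ * φ x * (b⁻¹ * b') := by
        rcases hk with hk | hk
        · rw [hk, map_mul, map_mul, map_inv]
        · rw [hk, map_mul, map_mul, map_inv]
          have h3 := s.comm x
          have h4 : t⁻¹ * φ x * t = φ x := by rw [mul_assoc, h3]; group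
          calc (φ k)⁻¹ * φ x * φ k = (φ k)⁻¹ * (t⁻¹ * φ x * t) * φ k := by rw [h4]
            _ = (t * φ k)⁻¹ * φ x * (t * φ k) := by group
      have eb2' := beta_inv PW.el cb' zW' eb'
      have h5 : b'⁻¹ * t * b' = t * φ z := by rw [inv_inv] at eb2'; exact eb2'
      obtain ⟨y, hy, e | e⟩ := (hT x hx).1
      · obtain ⟨y', hy', e' | e'⟩ := (hT' y hy).2
        · have h4 : φ (k⁻¹ * x * k) = φ y' := by
            rw [h2, ← e', ← e]; group
          rw [s.inj h4]; exact hy'
        · exfalso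
          apply s.tK (k⁻¹ * x * k * y'⁻¹)
          have h4 : φ (k⁻¹ * x * k) = t * φ y' := by
            rw [h2, ← e', ← e]; group
          rw [map_mul, h4, map_inv]; group
      · obtain ⟨y', hy', e' | e'⟩ := (hT' y hy).2
        · exfalso
          apply s.tK (k⁻¹ * x * k * (z * y')⁻¹)
          have h4 : φ (k⁻¹ * x * k) = t * φ z * φ y' := by
            rw [h2]
            calc (b⁻¹ * b')⁻¹ * φ x * (b⁻¹ * b') = b'⁻¹ * (b * φ x * b⁻¹) * b' := by group
              _ = (b'⁻¹ * t * b') * (b'⁻¹ * φ y * b') := by rw [e]; group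
              _ = t * φ z * φ y' := by rw [h5, e']
          rw [map_mul, h4, map_inv, map_mul]; group
        · have h4 : φ (k⁻¹ * x * k) = φ (z * y') := by
            rw [h2]
            calc (b⁻¹ * b')⁻¹ * φ x * (b⁻¹ * b') = b'⁻¹ * (b * φ x * b⁻¹) * b' := by group
              _ = (b'⁻¹ * t * b') * (b'⁻¹ * φ y * b') := by rw [e]; group
              _ = t * (φ z * t) * φ y' := by rw [h5, e']; group
              _ = (t * t) * (φ z * φ y') := by rw [s.comm z]; group
              _ = φ (z * y') := by rw [s.tt, one_mul, map_mul]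
          rw [s.inj h4]
          exact SK.mul_mem (h.VS h.zV) hy'
    have hkN : Nrm k SK := by
      intro x
      refine ⟨fun hx => ?_, h1 x⟩
      have := h1' _ hx
      have e : k⁻¹ * (k * x * k⁻¹) * k = x := by group
      rwa [e] at this
    -- `k` centralises `V ⊓ W`
    have hkc : ∀ x ∈ V, x ∈ W → k * x = x * k := by
      intro x hx hx'
      apply s.inj
      have h2 := cb.inv (φ x) ⟨x, hx, rfl⟩
      have h3 := cb' (φ x) ⟨x, hx', rfl⟩
      have h4 : (b⁻¹ * b') * φ x = φ x * (b⁻¹ * b') := by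
        rw [mul_assoc, h3, ← mul_assoc, h2, mul_assoc]
      rcases hk with hk | hk
      · rw [hk] at h4
        rw [map_mul, map_mul, h4]
      · rw [hk, ← mul_assoc, s.comm x] at h4
        rw [map_mul, map_mul]
        have h5 : t * (φ k * φ x) = t * (φ x * φ k) := by
          rw [← mul_assoc, h4, mul_assoc]
        exact mul_left_cancel h5
    obtain ⟨v, hv, w, hw, hkvw⟩ := h.nS k hkN hkc
    -- the element `b₁`
    obtain ⟨b₁, c1V, c1W, e1⟩ : ∃ b₁ : G, Cen b₁ (V.map φ) ∧ Cen b₁ (W.map φ) ∧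
        b₁ * t * b₁⁻¹ = t * φ z := by
      refine ⟨b' * (φ w)⁻¹, ?_, ?_, ?_⟩
      · have hcv : Cen (φ v) (V.map φ) := PV.el.cen ⟨v, hv, rfl⟩
        rcases hk with hk | hk
        · have : b' * (φ w)⁻¹ = b * φ v := by
            have : b' = b * (φ v * φ w) := by rw [← map_mul, ← hkvw, ← hk]; group
            rw [this]; group
          rw [this]
          exact cb.mul hcv
        · have : b' * (φ w)⁻¹ = b * (t * φ v) := by
            have : b' = b * (t * (φ v * φ w)) := by rw [← map_mul, ← hkvw, ← hk]; group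
            rw [this]; group
          rw [this]
          exact cb.mul (PV.cenT.mul hcv)
      · have hcw : Cen (φ w) (W.map φ) := PW.el.cen ⟨w, hw, rfl⟩
        exact cb'.mul hcw.inv
      · have h2 := s.comm w
        have h3 : (φ w)⁻¹ * t * φ w = t := by rw [mul_assoc, ← h2]; group
        calc b' * (φ w)⁻¹ * t * (b' * (φ w)⁻¹)⁻¹ = b' * ((φ w)⁻¹ * t * φ w) * b'⁻¹ := by group
          _ = t * φ z := by rw [h3, eb']
    -- its square
    obtain ⟨r, hr, hr1⟩ := PV.sq_mem c1V zV' e1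
    have hr2 : r = 1 ∨ r = z := by
      refine h.sq r hr fun k' hk' hk'z => ?_
      have h2 := s.conjCen hk' c1V
      have h3 := s.conjBeta (k := k') e1
      rw [hk'z, mul_inv_cancel_right] at h3
      have h4 := PV.sq_coset c1V h2 zV' e1 h3
      have h5 : φ (k' * r * k'⁻¹) = (φ k' * b₁ * (φ k')⁻¹) * (φ k' * b₁ * (φ k')⁻¹) := by
        rw [map_mul, map_mul, map_inv, hr1]; group
      rcases h4 with h4 | h4
      · left
        apply s.inj
        rw [h5, h4, hr1]
      · right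
        apply s.inj
        rw [h5, h4, map_mul, hr1]
    rcases hr2 with hr2 | hr2
    · refine ⟨b₁, ?_, c1V, c1W, e1⟩
      rw [← hr1, hr2, map_one]
    · have h6 : b₁ * t = t * φ z * b₁ := by rw [← e1]; group
      refine ⟨b₁ * t, ?_, c1V.mul PV.cenT, c1W.mul PW.cenT, ?_⟩
      · calc b₁ * t * (b₁ * t) = (b₁ * t) * (t * φ z * b₁) := by rw [h6]
          _ = b₁ * (t * t) * φ z * b₁ := by group
          _ = (b₁ * φ z) * b₁ := by rw [s.tt]; group
          _ = φ z * (b₁ * b₁) := by rw [c1V _ zV']; group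
          _ = 1 := by rw [← hr1, hr2, PV.el _ zV']
      · calc b₁ * t * t * (b₁ * t)⁻¹ = b₁ * t * b₁⁻¹ := by group
          _ = t * φ z := e1
  obtain ⟨y, hyy, cV, cW, ey⟩ := hy
  exact ⟨⟨y, hyy, cV, cW, ey⟩, s.half h.cardV h.elV h.CV h.zV h.trV exV hyy cV ey,
    s.half h.cardW h.elW h.CW h.zW h.trW exW hyy cW ey⟩

end Main

end Cfsg.Agent.OddHalf.MM
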