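import Cfsg.Agent.OddHalf.MM.Sheet
import Cfsg.Agent.OddHalf.TR
import Cfsg.Agent.Transfer.ElemAbAut

/-!
# ODD half, D8, `M22` and `M23`: node A of helper438's blueprint (helper812)

`theorem A`: `t` is not conjugate to `φ z`, and every `v ∈ V` (`W`) is `[b, t]` for some `b ∈ C(V)` (`C(W)`).
-/

set_option autoImplicit false

namespace Cfsg.Agent.OddHalf.MM.Frame

open Subgroup

/-! ### The group `⟨t⟩ V` -/

section EE

variable {G : Type*} [Group G] {t : G} {V : Subgroup G}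

/-- `⟨t⟩ V` -/
def EE (t : G) (V : Subgroup G) : Subgroup G := zpowers t ⊔ V

theorem mem_EE (tt : t * t = 1) (comm : ∀ v ∈ V, v * t = t * v) {x : G} :
    x ∈ EE t V ↔ ∃ v ∈ V, x = v ∨ x = t * v := by
  constructor
  · intro hx
    let D : Subgroup G :=
      { carrier := {x | ∃ v ∈ V, x = v ∨ x = t * v}
        one_mem' := ⟨1, V.one_mem, Or.inl rfl⟩
        mul_mem' := by
          rintro x y ⟨v, hv, hx⟩ ⟨w, hw, hy⟩
          rcases hx with hx | hx <;> rcases hy with hy | hy <;> rw [hx, hy]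
          · exact ⟨v * w, V.mul_mem hv hw, Or.inl rfl⟩
          · exact ⟨v * w, V.mul_mem hv hw, Or.inr (by rw [← mul_assoc, comm v hv, mul_assoc])⟩
          · exact ⟨v * w, V.mul_mem hv hw, Or.inr (by rw [mul_assoc])⟩
          · refine ⟨v * w, V.mul_mem hv hw, Or.inl ?_⟩
            calc t * v * (t * w) = t * (v * t) * w := by group
              _ = t * t * (v * w) := by rw [comm v hv]; group
              _ = v * w := by rw [tt, one_mul]
        inv_mem' := by
          rintro x ⟨v, hv, hx⟩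
          rcases hx with hx | hx <;> rw [hx]
          · exact ⟨v⁻¹, V.inv_mem hv, Or.inl rfl⟩
          · refine ⟨v⁻¹, V.inv_mem hv, Or.inr ?_⟩
            have ht : t⁻¹ = t := inv_eq_of_mul_eq_one_left tt
            rw [mul_inv_rev, ht, comm _ (V.inv_mem hv)] }
    have h1 : EE t V ≤ D := by
      apply sup_le
      · rw [zpowers_le]
        exact ⟨1, V.one_mem, Or.inr (mul_one t).symm⟩
      · exact fun v hv => ⟨v, hv, Or.inl rfl⟩
    exact h1 hx
  · rintro ⟨v, hv, rfl | rfl⟩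
    · exact (le_sup_right : V ≤ EE t V) hv
    · exact (EE t V).mul_mem ((le_sup_left : zpowers t ≤ EE t V) (mem_zpowers t))
        ((le_sup_right : V ≤ EE t V) hv)

theorem t_mem : t ∈ EE t V := (le_sup_left : zpowers t ≤ EE t V) (mem_zpowers t)

theorem le_EE : V ≤ EE t V := le_sup_right

theorem el_comm (el : El V) {x y : G} (hx : x ∈ V) (hy : y ∈ V) : x * y = y * x := by
  have h1 : (x * y)⁻¹ = x * y := inv_eq_of_mul_eq_one_left (el _ (V.mul_mem hx hy))
  have h2 : x⁻¹ = x := inv_eq_of_mul_eq_one_left (el _ hx)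
  have h3 : y⁻¹ = y := inv_eq_of_mul_eq_one_left (el _ hy)
  rw [mul_inv_rev, h2, h3] at h1
  exact h1.symm

theorem card_EE [Finite G] (tt : t * t = 1) (comm : ∀ v ∈ V, v * t = t * v) (tV : t ∉ V) :
    Nat.card (EE t V) = 2 * Nat.card V := by
  have hm : ∀ x : Bool × V, (if x.1 then t * (x.2 : G) else (x.2 : G)) ∈ EE t V := by
    rintro ⟨b, v, hv⟩
    rw [mem_EE tt comm]
    cases b
    · exact ⟨v, hv, Or.inl (by simp)⟩
    · exact ⟨v, hv, Or.inr (by simp)⟩
  let f : Bool × V → EE t V := fun x => ⟨if x.1 then t * (x.2 : G) else (x.2 : G), hm x⟩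
  have hf : Function.Bijective f := by
    constructor
    · rintro ⟨b, v, hv⟩ ⟨b', w, hw⟩ h
      have h1 := congrArg Subtype.val h
      cases b <;> cases b'
      · have h2 : v = w := by simpa [f] using h1
        subst h2; rfl
      · exfalso
        have h2 : v = t * w := by simpa [f] using h1
        apply tV
        have : t = v * w⁻¹ := by rw [h2]; group
        rw [this]
        exact V.mul_mem hv (V.inv_mem hw)
      · exfalso
        have h2 : t * v = w := by simpa [f] using h1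
        apply tV
        have : t = w * v⁻¹ := by rw [← h2]; group
        rw [this]
        exact V.mul_mem hw (V.inv_mem hv)
      · have h2 : v = w := by simpa [f] using h1
        subst h2; rfl
    · rintro ⟨x, hx⟩
      obtain ⟨v, hv, h | h⟩ := (mem_EE tt comm).1 hx
      · exact ⟨⟨false, v, hv⟩, Subtype.ext (by simp [f, h])⟩
      · exact ⟨⟨true, v, hv⟩, Subtype.ext (by simp [f, h])⟩
  rw [← Nat.card_congr (Equiv.ofBijective f hf), Nat.card_prod]
  congr 1
  simp

/-- **the counting argument** -/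
theorem exists_beta [Finite G] {T : Subgroup G} (tt : t * t = 1) (comm : ∀ v ∈ V, v * t = t * v)
    (tV : t ∉ V) (el : El V) (card : Nat.card V = 16)
    (cent : ∀ g : G, g * t = t * g → Cen g V → ∃ v ∈ V, g = v ∨ g = t * v)
    (nc : ∀ g : G, g * t * g⁻¹ ∉ V)
    (tr : ∀ v ∈ V, v ≠ 1 → ∀ w ∈ V, w ≠ 1 → ∃ k : G, Nrm k V ∧ k * t = t * k ∧ k * v * k⁻¹ = w)
    (TN : ∀ x ∈ T, Nrm x V) (Tt : ∀ x ∈ T, x * t = t * x) (hT : 256 ∣ Nat.card T)
    {g0 : G} (hg0 : Nrm g0 (EE t V)) (hg0t : g0 * t * g0⁻¹ ≠ t) :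
    ∀ v ∈ V, ∃ b : G, Cen b V ∧ b * t * b⁻¹ = t * v := by
  classical
  -- transport of a nontrivial value
  by_cases hex : ∃ b : G, Cen b V ∧ ∃ v ∈ V, v ≠ 1 ∧ b * t * b⁻¹ = t * v
  · obtain ⟨b, hb, v, hv, hv1, hbt⟩ := hex
    intro w hw
    by_cases hw1 : w = 1
    · refine ⟨1, fun x _ => by group, ?_⟩
      rw [hw1]; group
    obtain ⟨k, hkV, hkt, hkv⟩ := tr v hv hv1 w hw hw1
    refine ⟨k * b * k⁻¹, ?_, ?_⟩
    · intro x hx
      have h1 : k⁻¹ * x * k ∈ V := by
        rw [← hkV]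
        have : k * (k⁻¹ * x * k) * k⁻¹ = x := by group
        rw [this]; exact hx
      have h2 := hb _ h1
      calc k * b * k⁻¹ * x = k * (b * (k⁻¹ * x * k)) * k⁻¹ := by group
        _ = k * (k⁻¹ * x * k * b) * k⁻¹ := by rw [h2]
        _ = x * (k * b * k⁻¹) := by group
    · have h3 : k⁻¹ * t * k = t := by
        rw [mul_assoc, ← hkt]; group
      calc k * b * k⁻¹ * t * (k * b * k⁻¹)⁻¹ = k * (b * (k⁻¹ * t * k) * b⁻¹) * k⁻¹ := by group
        _ = k * (t * v) * k⁻¹ := by rw [h3, hbt]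
        _ = (k * t) * (v * k⁻¹) := by group
        _ = t * (k * v * k⁻¹) := by rw [hkt]; group
        _ = t * w := by rw [hkv]
  exfalso
  set N1 : Subgroup G := normalizer (EE t V : Set G) with hN1
  have hN1m : ∀ g, g ∈ N1 ↔ Nrm g (EE t V) := by
    intro g
    rw [hN1, mem_normalizer_iff]
    exact ⟨fun h x => (h x).symm, fun h x => (h x).symm⟩
  have hconj : ∀ g ∈ N1, ∀ x ∈ EE t V, g * x * g⁻¹ ∈ EE t V := fun g hg x hx =>
    ((hN1m g).1 hg x).2 hx
  -- conjugates of `t` in `⟨t⟩V`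
  have hct : ∀ g : G, g * t * g⁻¹ ∈ EE t V → ∃ v ∈ V, g * t * g⁻¹ = t * v := by
    intro g hg
    obtain ⟨v, hv, h | h⟩ := (mem_EE tt comm).1 hg
    · exact absurd (h ▸ hv) (nc g)
    · exact ⟨v, hv, h⟩
  obtain ⟨v0, hv0, hv0e⟩ := hct g0 ((hg0 t).2 t_mem)
  have hv01 : v0 ≠ 1 := by
    rintro rfl
    rw [mul_one] at hv0e
    exact hg0t hv0e
  -- transitivity
  have hkE : ∀ k : G, Nrm k V → k * t = t * k → k ∈ N1 := by
    intro k hkV hkt
    rw [hN1m]
    have hktt : k * t * k⁻¹ = t := by rw [hkt]; group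
    intro x
    rw [mem_EE tt comm, mem_EE tt comm]
    constructor
    · rintro ⟨v, hv, h | h⟩
      · refine ⟨x, (hkV x).1 (h ▸ hv), Or.inl rfl⟩
      · have h1 : k * (t * x) * k⁻¹ = v := by
          calc k * (t * x) * k⁻¹ = (k * t * k⁻¹) * (k * x * k⁻¹) := by group
            _ = t * (t * v) := by rw [hktt, h]
            _ = v := by rw [← mul_assoc, tt, one_mul]
        refine ⟨t * x, (hkV _).1 (h1 ▸ hv), Or.inr ?_⟩
        rw [← mul_assoc, tt, one_mul]
    · rintro ⟨v, hv, rfl | rfl⟩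
      · exact ⟨_, (hkV _).2 hv, Or.inl rfl⟩
      · refine ⟨_, (hkV v).2 hv, Or.inr ?_⟩
        calc k * (t * v) * k⁻¹ = (k * t * k⁻¹) * (k * v * k⁻¹) := by group
          _ = t * (k * v * k⁻¹) := by rw [hktt]
  have htrans : ∀ v ∈ V, ∃ h ∈ N1, h * t * h⁻¹ = t * v := by
    intro v hv
    by_cases hv1 : v = 1
    · exact ⟨1, N1.one_mem, by rw [hv1]; group⟩
    obtain ⟨k, hkV, hkt, hkv⟩ := tr v0 hv0 hv01 v hv hv1
    refine ⟨k * g0, N1.mul_mem (hkE k hkV hkt) ((hN1m g0).2 hg0), ?_⟩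
    calc k * g0 * t * (k * g0)⁻¹ = k * (g0 * t * g0⁻¹) * k⁻¹ := by group
      _ = k * t * (v0 * k⁻¹) := by rw [hv0e]; group
      _ = t * (k * v0 * k⁻¹) := by rw [hkt]; group
      _ = t * v := by rw [hkv]
  -- `N1` normalises `V`
  have hNV' : ∀ g ∈ N1, ∀ x ∈ V, g * x * g⁻¹ ∈ V := by
    intro g hg x hx
    obtain ⟨h, hh, hhx⟩ := htrans x hx
    obtain ⟨v1, hv1, e1⟩ := hct g (hconj g hg t t_mem)
    have h2 : g * h * t * (g * h)⁻¹ ∈ EE t V := hconj _ (N1.mul_mem hg hh) t t_mem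
    obtain ⟨v2, hv2, e2⟩ := hct _ h2
    have e3 : g * (t * x) * g⁻¹ = t * v2 := by
      rw [← hhx, ← e2]; group
    have e4 : g * x * g⁻¹ = v1⁻¹ * v2 := by
      calc g * x * g⁻¹ = (g * t * g⁻¹)⁻¹ * (g * (t * x) * g⁻¹) := by group
        _ = (t * v1)⁻¹ * (t * v2) := by rw [e1, e3]
        _ = v1⁻¹ * v2 := by group
    rw [e4]
    exact V.mul_mem (V.inv_mem hv1) hv2
  have hNV : N1 ≤ normalizer (V : Set G) := by
    intro g hg
    rw [mem_normalizer_iff]
    intro x
    refine ⟨hNV' g hg x, fun hx => ?_⟩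
    have h1 := hNV' g⁻¹ (N1.inv_mem hg) _ hx
    have h2 : g⁻¹ * (g * x * g⁻¹) * g⁻¹⁻¹ = x := by group
    rwa [h2] at h1
  -- the action on `V`
  set f : N1 →* MulAut V := V.normalizerMonoidHom.comp (inclusion hNV) with hf
  have hker : f.ker.map N1.subtype ≤ EE t V := by
    rintro _ ⟨⟨g, hg⟩, hgk, rfl⟩
    have h1 : Cen g V := by
      intro x hx
      have h2 : f ⟨g, hg⟩ ⟨x, hx⟩ = ⟨x, hx⟩ := by
        rw [MonoidHom.mem_ker.1 hgk]; rfl
      have h3 : g * x * g⁻¹ = x := congrArg Subtype.val h2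
      calc g * x = g * x * g⁻¹ * g := by group
        _ = x * g := by rw [h3]
    obtain ⟨v, hv, hgv⟩ := hct g (hconj g hg t t_mem)
    have hv1 : v = 1 := by
      by_contra hv1
      exact hex ⟨g, h1, v, hv, hv1, hgv⟩
    have hgt : g * t = t * g := by
      rw [hv1, mul_one, mul_inv_eq_iff_eq_mul] at hgv
      exact hgv
    exact (mem_EE tt comm).2 (cent g hgt h1)
  have hkc : Nat.card f.ker ∣ 32 := by
    have h1 := Subgroup.card_dvd_of_le hker
    rw [card_EE tt comm tV, card] at h1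
    have h2 : Nat.card (f.ker.map N1.subtype) = Nat.card f.ker :=
      (Nat.card_congr (f.ker.equivMapOfInjective _ N1.subtype_injective).toEquiv).symm
    rwa [h2] at h1
  have hrc : Nat.card f.range ∣ 20160 := by
    have h1 : Nat.card f.range ∣ Nat.card (MulAut V) := Subgroup.card_subgroup_dvd_card _
    have h2 := Cfsg.Agent.Transfer.ElemAbAut.card_mulAut (T := V) 2 4
      (fun x y => Subtype.ext (el_comm el x.2 y.2))
      (fun x => Subtype.ext (by
        show (x : G) ^ 2 = 1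
        rw [pow_two]; exact el _ x.2))
      (by rw [card]; norm_num)
    rw [h2] at h1
    have h3 : (∏ i : Fin 4, (2 ^ 4 - 2 ^ (i : ℕ))) = 20160 := by decide
    rwa [h3] at h1
  -- orbit and stabilizer
  have hcard : Nat.card N1 = Nat.card f.ker * Nat.card f.range := by
    rw [← index_ker]
    exact (card_mul_index _).symm
  have h4096 : 4096 ∣ Nat.card N1 := by
    let act : MulAction N1 G := MulAction.compHom G ((MulAut.conj : G →* MulAut G).comp N1.subtype)
    have hsm : ∀ (g : N1) (x : G), g • x = (g : G) * x * (g : G)⁻¹ := fun g x => rfl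
    have horb : MulAction.orbit N1 t = (fun v : G => t * v) '' (V : Set G) := by
      ext x
      constructor
      · rintro ⟨g, rfl⟩
        show (g : G) * t * (g : G)⁻¹ ∈ _
        obtain ⟨v, hv, e⟩ := hct (g : G) (hconj g g.2 t t_mem)
        exact ⟨v, hv, e.symm⟩
      · rintro ⟨v, hv, rfl⟩
        obtain ⟨h, hh, e⟩ := htrans v hv
        exact ⟨⟨h, hh⟩, e⟩
    have h16 : (MulAction.orbit N1 t).ncard = 16 := by
      rw [horb, Set.ncard_image_of_injective _ (mul_right_injective t)]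
      rw [← card]
      rfl
    have h5 := MulAction.index_stabilizer (G := N1) t
    rw [h16] at h5
    have hTN1 : T ≤ N1 := fun x hx => hkE x (TN x hx) (Tt x hx)
    have h6 : T.subgroupOf N1 ≤ MulAction.stabilizer N1 t := by
      intro x hx
      rw [MulAction.mem_stabilizer_iff, hsm, Tt _ (mem_subgroupOf.1 hx)]
      group
    have h7 : 256 ∣ Nat.card (MulAction.stabilizer N1 t) := by
      have h8 := Subgroup.card_dvd_of_le h6
      rw [Nat.card_congr (subgroupOfEquivOfLe hTN1).toEquiv] at h8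
      exact hT.trans h8
    rw [← (MulAction.stabilizer N1 t).card_mul_index, h5]
    obtain ⟨m, hm⟩ := h7
    exact ⟨m, by rw [hm]; ring⟩
  rw [hcard] at h4096
  have h9 : 4096 ∣ 32 * 20160 := h4096.trans (mul_dvd_mul hkc hrc)
  norm_num at h9

end EE

/-! ### The sheet and the setting -/

variable {K : Type*} [Group K] {G : Type*} [Group G] {SK V W : Subgroup K} {z c : K} {t : G}
  {φ : K →* G}

theorem finite_K [Finite G] (s : Setting t φ) : Finite K := Finite.of_injective φ s.inj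

theorem not_range (s : Setting t φ) {k : K} {x : G} (hx : x = t * φ k) : x ∉ φ.range := by
  rintro ⟨l, hl⟩
  apply s.tK (l * k⁻¹)
  rw [map_mul, map_inv, hl, hx]
  group

/-- `z` is central in `SK` -/
theorem z_cen [Finite K] (h : Sheet SK V W z c) : ∀ s ∈ SK, s * z = z * s := by
  have hnt : Nontrivial SK :=
    ⟨⟨⟨z, h.VS h.zV⟩, 1, fun e => h.z1 (congrArg Subtype.val e)⟩⟩
  have : Fact (Nat.Prime 2) := ⟨Nat.prime_two⟩
  have hcn : Nontrivial (center SK) := h.two.center_nontrivial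
  obtain ⟨y, hy⟩ := exists_ne (1 : center SK)
  have hyc : ∀ s ∈ SK, s * ((y : SK) : K) = ((y : SK) : K) * s := by
    intro s hs
    exact congrArg Subtype.val (mem_center_iff.1 y.2 ⟨s, hs⟩)
  rcases h.cen _ (y : SK).2 hyc with e | e
  · exact absurd (Subtype.ext (Subtype.ext e)) hy
  · rw [← e]; exact hyc

/-- `VW` -/
theorem mem_VW (h : Sheet SK V W z c) {x : K} : x ∈ V ⊔ W ↔ ∃ v ∈ V, ∃ w ∈ W, x = v * w := by
  constructor
  · intro hx
    let D : Subgroup K :=
      { carrier := {x | ∃ v ∈ V, ∃ w ∈ W, x = v * w}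
        one_mem' := ⟨1, V.one_mem, 1, W.one_mem, (mul_one _).symm⟩
        mul_mem' := by
          rintro x y ⟨v, hv, w, hw, rfl⟩ ⟨v', hv', w', hw', rfl⟩
          refine ⟨v * (w * v' * w⁻¹), V.mul_mem hv ((h.nV w (h.WS hw) v').2 hv'), w * w',
            W.mul_mem hw hw', by group⟩
        inv_mem' := by
          rintro x ⟨v, hv, w, hw, rfl⟩
          refine ⟨w⁻¹ * v⁻¹ * w⁻¹⁻¹, (h.nV _ (SK.inv_mem (h.WS hw)) _).2 (V.inv_mem hv), w⁻¹,
            W.inv_mem hw, by group⟩ }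
    have h1 : V ⊔ W ≤ D := sup_le (fun v hv => ⟨v, hv, 1, W.one_mem, (mul_one v).symm⟩)
      (fun w hw => ⟨1, V.one_mem, w, hw, (one_mul w).symm⟩)
    exact h1 hx
  · rintro ⟨v, hv, w, hw, rfl⟩
    exact mul_mem ((le_sup_left : V ≤ V ⊔ W) hv) ((le_sup_right : W ≤ V ⊔ W) hw)

theorem card_mul_relIndex {A B : Subgroup K} (h : A ≤ B) :
    Nat.card A * A.relIndex B = Nat.card B := by
  rw [← relIndex_bot_left, ← relIndex_bot_left]
  exact relIndex_mul_relIndex _ _ _ bot_le h

theorem card_SK [Finite K] (h : Sheet SK V W z c) : 128 ∣ Nat.card SK := by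
  have : Fact (Nat.Prime 2) := ⟨Nat.prime_two⟩
  have hle : V ⊔ W ≤ SK := sup_le h.VS h.WS
  -- `|VW| ≥ 64`
  have h1 : 4 ≤ V.relIndex (V ⊔ W) := by
    have h2 : V.relIndex W * 4 = 16 := by
      have h3 := card_mul_relIndex (A := V ⊓ W) (B := W) inf_le_right
      rw [h.cardVW, h.cardW, inf_relIndex_right] at h3
      omega
    have hne : V.relIndex (V ⊔ W) ≠ 0 := index_ne_zero_of_finite
    have h4 : V.relIndex W ≤ V.relIndex (V ⊔ W) :=
      relIndex_le_of_le_right le_sup_right hne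
    omega
  have h5 : 64 ≤ Nat.card (V ⊔ W : Subgroup K) := by
    have h6 := card_mul_relIndex (A := V) (B := V ⊔ W) le_sup_left
    rw [h.cardV] at h6
    omega
  have h7 : 2 ≤ (V ⊔ W).relIndex SK := by
    have h8 : (V ⊔ W).relIndex SK ≠ 1 := by
      intro h9
      rw [relIndex_eq_one] at h9
      obtain ⟨v, hv, w, hw, e⟩ := (mem_VW h).1 (h9 h.cS)
      exact h.cN v hv w hw e
    have h10 : (V ⊔ W).relIndex SK ≠ 0 := index_ne_zero_of_finite
    omega
  have h11 : 128 ≤ Nat.card SK := by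
    have h12 := card_mul_relIndex hle
    nlinarith
  obtain ⟨n, hn⟩ := IsPGroup.iff_card.1 h.two
  rw [hn] at h11 ⊢
  have h13 : 7 ≤ n := by
    by_contra h14
    have : 2 ^ n ≤ 2 ^ 6 := Nat.pow_le_pow_right (by norm_num) (by omega)
    omega
  exact (show (128 : ℕ) = 2 ^ 7 by norm_num) ▸ pow_dvd_pow 2 h13

/-- `T = ⟨t⟩ φ(SK)` -/
def TT (t : G) (φ : K →* G) (SK : Subgroup K) : Subgroup G := EE t (SK.map φ)

theorem comm_map (s : Setting t φ) (X : Subgroup K) : ∀ v ∈ X.map φ, v * t = t * v := by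
  rintro _ ⟨k, -, rfl⟩
  exact s.comm k

theorem t_notMem_map (s : Setting t φ) (X : Subgroup K) : t ∉ X.map φ := by
  rintro ⟨k, -, hk⟩
  exact s.tK k hk

theorem mem_map' (s : Setting t φ) {X : Subgroup K} {k : K} : φ k ∈ X.map φ ↔ k ∈ X := by
  constructor
  · rintro ⟨l, hl, e⟩
    rwa [← s.inj e]
  · exact fun hk => ⟨k, hk, rfl⟩

theorem mem_EEφ (s : Setting t φ) {X : Subgroup K} {k : K} : φ k ∈ EE t (X.map φ) ↔ k ∈ X := by
  rw [mem_EE s.tt (comm_map s X)]
  constructor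
  · rintro ⟨_, ⟨l, hl, rfl⟩, e | e⟩
    · rwa [s.inj e]
    · exact absurd ⟨k, rfl⟩ (not_range s e)
  · exact fun hk => ⟨φ k, ⟨k, hk, rfl⟩, Or.inl rfl⟩

theorem mem_TT (s : Setting t φ) {X : Subgroup K} {x : G} :
    x ∈ EE t (X.map φ) ↔ ∃ k ∈ X, x = φ k ∨ x = t * φ k := by
  rw [mem_EE s.tt (comm_map s X)]
  constructor
  · rintro ⟨_, ⟨l, hl, rfl⟩, e⟩
    exact ⟨l, hl, e⟩
  · rintro ⟨l, hl, e⟩
    exact ⟨φ l, ⟨l, hl, rfl⟩, e⟩

theorem t_inv (s : Setting t φ) : t⁻¹ = t := inv_eq_of_mul_eq_one_left s.tt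

theorem Nrm_map (s : Setting t φ) {X : Subgroup K} {k : K} (hk : Nrm k X) : Nrm (φ k) (X.map φ) := by
  intro x
  constructor
  · rintro ⟨l, hl, e⟩
    have e2 : x = φ (k⁻¹ * l * k) := by
      rw [map_mul, map_mul, map_inv, e]; group
    rw [e2, mem_map' s, ← hk]
    have : k * (k⁻¹ * l * k) * k⁻¹ = l := by group
    rw [this]; exact hl
  · rintro ⟨l, hl, rfl⟩
    rw [← map_mul, ← map_inv, ← map_mul, mem_map' s, hk]
    exact hl

theorem Nrm_t (s : Setting t φ) (X : Subgroup K) : Nrm t (X.map φ) := by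
  intro x
  have h1 : ∀ y ∈ X.map φ, t * y * t⁻¹ = y := by
    intro y hy
    rw [← comm_map s X y hy]; group
  constructor
  · intro hx
    have h2 := h1 _ hx
    rw [t_inv s] at h2 hx
    have h3 : t * (t * x * t) * t = x := by
      calc t * (t * x * t) * t = (t * t) * x * (t * t) := by group
        _ = x := by rw [s.tt]; group
    rw [h3] at h2
    rw [h2]
    exact hx
  · intro hx
    rw [h1 x hx]; exact hx

theorem Nrm_mul {X : Subgroup G} {a b : G} (ha : Nrm a X) (hb : Nrm b X) : Nrm (a * b) X := by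
  intro x
  have : a * b * x * (a * b)⁻¹ = a * (b * x * b⁻¹) * a⁻¹ := by group
  rw [this, ha, hb]

/-- an element which normalises `V` and centralises `t` normalises `⟨t⟩V` -/
theorem Nrm_EE {V : Subgroup G} (tt : t * t = 1) (comm : ∀ v ∈ V, v * t = t * v) {k : G}
    (hkV : Nrm k V) (hkt : k * t = t * k) : Nrm k (EE t V) := by
  have hktt : k * t * k⁻¹ = t := by rw [hkt]; group
  intro x
  rw [mem_EE tt comm, mem_EE tt comm]
  constructor
  · rintro ⟨v, hv, h | h⟩
    · refine ⟨x, (hkV x).1 (h ▸ hv), Or.inl rfl⟩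
    · have h1 : k * (t * x) * k⁻¹ = v := by
        calc k * (t * x) * k⁻¹ = (k * t * k⁻¹) * (k * x * k⁻¹) := by group
          _ = t * (t * v) := by rw [hktt, h]
          _ = v := by rw [← mul_assoc, tt, one_mul]
      refine ⟨t * x, (hkV _).1 (h1 ▸ hv), Or.inr ?_⟩
      rw [← mul_assoc, tt, one_mul]
  · rintro ⟨v, hv, rfl | rfl⟩
    · exact ⟨_, (hkV _).2 hv, Or.inl rfl⟩
    · refine ⟨_, (hkV v).2 hv, Or.inr ?_⟩
      calc k * (t * v) * k⁻¹ = (k * t * k⁻¹) * (k * v * k⁻¹) := by group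
        _ = t * (k * v * k⁻¹) := by rw [hktt]

/-- the frame -/
theorem frame [Finite G] (h : Sheet SK V W z c) (s : Setting t φ) :
    TR.Frame t (φ z) (TT t φ SK) := by
  have hK := finite_K s
  have : Fact (Nat.Prime 2) := ⟨Nat.prime_two⟩
  have hzc := z_cen h
  have htT : t ∈ TT t φ SK := t_mem
  have hle : SK.map φ ≤ TT t φ SK := le_EE
  have hcom : ∀ x ∈ TT t φ SK, x * t = t * x := by
    intro x hx
    obtain ⟨k, hk, e | e⟩ := (mem_TT s).1 hx
    · rw [e]; exact s.comm k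
    · rw [e, mul_assoc, s.comm k]
  refine
    { tt := s.tt
      zz := by rw [← map_mul, h.elV z h.zV, map_one]
      t1 := s.t1
      z1 := fun e => h.z1 (s.inj (e.trans (map_one φ).symm))
      ne := s.tK z
      pT := ?_
      tT := htT
      tc := hcom
      zT := hle ⟨z, h.VS h.zV, rfl⟩
      zc := ?_
      max := ?_
      om := ?_
      iso := ?_ }
  · -- a 2-group
    have h1 : IsPGroup 2 (SK.map φ) := h.two.map φ
    have h2 : IsPGroup 2 (zpowers t) := TR.Frame.isPGroup_zpowers s.tt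
    apply IsPGroup.to_sup_of_normal_left' h2 h1
    intro x hx
    rw [mem_normalizer_iff]
    have hxt := comm_map s SK x hx
    have key : ∀ y : G, y * t = t * y → ∀ a ∈ zpowers t, y * a * y⁻¹ = a := by
      intro y hy a ha
      obtain ⟨i, rfl⟩ := mem_zpowers_iff.1 ha
      have h3 : Commute y t := hy
      have h4 : Commute y (t ^ i) := h3.zpow_right i
      rw [h4.eq]; group
    intro a
    constructor
    · intro ha
      rw [key x hxt a ha]; exact ha
    · intro ha
      have hxt' : x⁻¹ * t = t * x⁻¹ := by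
        have h3 : Commute x t := hxt
        exact h3.inv_left.eq
      have h4 := key x⁻¹ hxt' _ ha
      have h5 : x⁻¹ * (x * a * x⁻¹) * x⁻¹⁻¹ = a := by group
      rw [h5] at h4
      rw [h4]; exact ha
  · intro x hx
    obtain ⟨k, hk, e | e⟩ := (mem_TT s).1 hx
    · rw [e, ← map_mul, hzc k hk, map_mul]
    · rw [e, mul_assoc, ← map_mul, hzc k hk, map_mul, ← mul_assoc, ← s.comm z, mul_assoc]
  · intro P hP hTP hPt
    have h1 : P.comap φ = SK := by
      apply h.max
      · exact hP.comap_of_injective φ s.inj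
      · intro k hk
        exact hTP (hle ⟨k, hk, rfl⟩)
    intro x hx
    obtain ⟨k, e | e⟩ := s.cent x (hPt x hx)
    · refine (mem_TT s).2 ⟨k, ?_, Or.inl e⟩
      rw [← h1]
      show φ k ∈ P
      rw [← e]; exact hx
    · refine (mem_TT s).2 ⟨k, ?_, Or.inr e⟩
      rw [← h1]
      have h2 : φ k = t * x := by rw [e, ← mul_assoc, s.tt, one_mul]
      show φ k ∈ P
      rw [h2]
      exact P.mul_mem (hTP htT) hx
  · intro y hy hyc hyy
    obtain ⟨k, hk, e⟩ := (mem_TT s).1 hy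
    have hkc : ∀ l ∈ SK, l * k = k * l := by
      intro l hl
      have h1 := hyc (φ l) (hle ⟨l, hl, rfl⟩)
      apply s.inj
      rw [map_mul, map_mul]
      rcases e with e | e
      · rwa [e] at h1
      · rw [e] at h1
        have h2 : t * (φ l * φ k) = t * (φ k * φ l) := by
          calc t * (φ l * φ k) = (t * φ l) * φ k := by group
            _ = φ l * (t * φ k) := by rw [← s.comm l]; group
            _ = t * φ k * φ l := h1
            _ = t * (φ k * φ l) := by group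
        exact mul_left_cancel h2
    rcases h.cen k hk hkc with rfl | rfl
    · rcases e with e | e
      · left; rw [e, map_one]
      · right; left; rw [e, map_one, mul_one]
    · rcases e with e | e
      · right; right; left; exact e
      · right; right; right; exact e
  · -- `z` is isolated in `⟨t, z⟩`
    intro g ha hb
    set C : Subgroup K := centralizer ({z} : Set K) with hC
    have hz1 : φ z ≠ 1 := fun e => h.z1 (s.inj (e.trans (map_one φ).symm))
    have hzz : φ z * φ z = 1 := by rw [← map_mul, h.elV z h.zV, map_one]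
    have hne : g * t * g⁻¹ ≠ g * φ z * g⁻¹ := fun e => s.tK z (TR.Frame.conj_inj e).symm
    -- conjugates of `φ k`, `k ∈ C`, centralise `t`
    have key : ∀ k ∈ C, ∃ l, g * φ k * g⁻¹ = φ l ∨ g * φ k * g⁻¹ = t * φ l := by
      intro k hk
      have hkz : k * z = z * k := mem_centralizer_singleton_iff.1 hk
      apply s.cent
      have h1 : Commute (g * φ k * g⁻¹) (g * t * g⁻¹) := by
        have : Commute (φ k) t := s.comm k
        exact (this.map (MulAut.conj g).toMonoidHom :)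
      have h2 : Commute (g * φ k * g⁻¹) (g * φ z * g⁻¹) := by
        have : Commute (φ k) (φ z) := by
          show φ k * φ z = φ z * φ k
          rw [← map_mul, hkz, map_mul]
        exact (this.map (MulAut.conj g).toMonoidHom :)
      rcases ha with ha | ha | ha
      · rw [ha] at h1; exact h1
      · rcases hb with hb | hb | hb
        · rw [hb] at h2; exact h2
        · exact absurd (ha.trans hb.symm) hne
        · have h3 := h2.mul_right h1
          rw [ha, hb] at h3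
          have e : t * φ z * φ z = t := by rw [mul_assoc, hzz, mul_one]
          rw [e] at h3
          exact h3
      · rcases hb with hb | hb | hb
        · rw [hb] at h2; exact h2
        · have h3 := h1.mul_right h2
          rw [ha, hb] at h3
          have e : t * φ z * φ z = t := by rw [mul_assoc, hzz, mul_one]
          rw [e] at h3
          exact h3
        · exact absurd (ha.trans hb.symm) hne
    have h4 : ⁅C, C⁆ ≤ φ.range.comap ((MulAut.conj g).toMonoidHom.comp φ) := by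
      rw [commutator_le]
      intro a haC b hbC
      rw [commutatorElement_def]
      show g * φ (a * b * a⁻¹ * b⁻¹) * g⁻¹ ∈ φ.range
      obtain ⟨k, hk⟩ := key a haC
      obtain ⟨l, hl⟩ := key b hbC
      have e1 : g * φ (a * b * a⁻¹ * b⁻¹) * g⁻¹ =
          (g * φ a * g⁻¹) * (g * φ b * g⁻¹) * (g * φ a * g⁻¹)⁻¹ * (g * φ b * g⁻¹)⁻¹ := by
        rw [map_mul, map_mul, map_mul, map_inv, map_inv]
        group
      have e2 : (g * φ a * g⁻¹) * (g * φ b * g⁻¹) * (g * φ a * g⁻¹)⁻¹ * (g * φ b * g⁻¹)⁻¹ =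
          φ k * φ l * (φ k)⁻¹ * (φ l)⁻¹ := by
        have ck : ∀ k, φ k * t = t * φ k := s.comm
        have ct : t⁻¹ = t := t_inv s
        rcases hk with hk | hk <;> rcases hl with hl | hl <;> rw [hk, hl]
        · calc φ k * (t * φ l) * (φ k)⁻¹ * (t * φ l)⁻¹
              = (φ k * t) * φ l * (φ k)⁻¹ * (φ l)⁻¹ * t⁻¹ := by group
            _ = t * (φ k * φ l * (φ k)⁻¹ * (φ l)⁻¹) * t⁻¹ := by rw [ck k]; group
            _ = t * φ (k * l * k⁻¹ * l⁻¹) * t⁻¹ := by simp only [map_mul, map_inv]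
            _ = φ (k * l * k⁻¹ * l⁻¹) := by rw [← ck]; group
            _ = φ k * φ l * (φ k)⁻¹ * (φ l)⁻¹ := by simp only [map_mul, map_inv]
        · calc t * φ k * φ l * (t * φ k)⁻¹ * (φ l)⁻¹
              = t * φ k * φ l * (φ k)⁻¹ * (t⁻¹ * (φ l)⁻¹) := by group
            _ = t * φ k * φ l * (φ k)⁻¹ * ((φ l)⁻¹ * t⁻¹) := by
                rw [ct, ← map_inv φ l, ck]
            _ = t * φ (k * l * k⁻¹ * l⁻¹) * t⁻¹ := by simp only [map_mul, map_inv]; group
            _ = φ (k * l * k⁻¹ * l⁻¹) := by rw [← ck]; group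
            _ = φ k * φ l * (φ k)⁻¹ * (φ l)⁻¹ := by simp only [map_mul, map_inv]
        · calc t * φ k * (t * φ l) * (t * φ k)⁻¹ * (t * φ l)⁻¹
              = t * (φ k * t) * φ l * (φ k)⁻¹ * (t⁻¹ * (φ l)⁻¹) * t⁻¹ := by group
            _ = t * (t * φ k) * φ l * (φ k)⁻¹ * ((φ l)⁻¹ * t⁻¹) * t⁻¹ := by
                rw [ck k, ct, ← map_inv φ l, ck]
            _ = t * t * (φ k * φ l * (φ k)⁻¹ * (φ l)⁻¹) * (t⁻¹ * t⁻¹) := by group
            _ = φ k * φ l * (φ k)⁻¹ * (φ l)⁻¹ := by rw [ct, s.tt]; group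
      rw [e1, e2]
      exact ⟨k * l * k⁻¹ * l⁻¹, by rw [map_mul, map_mul, map_mul, map_inv, map_inv]⟩
    obtain ⟨l, hl⟩ := h4 h.zD
    have hl' : φ l = g * φ z * g⁻¹ := hl
    rcases hb with hb | hb | hb
    · exact absurd (hl'.trans hb) (s.tK l)
    · exact hb
    · exact absurd ⟨l, hl'⟩ (not_range s hb)

/-- the sign on `T` -/
theorem exists_mu (s : Setting t φ) (SK : Subgroup K) :
    ∃ mu : TT t φ SK →* ℤˣ, mu ⟨t, t_mem⟩ = -1 := by
  classical
  have hd : ∀ x : TT t φ SK, (x : G) ∈ φ.range ∨ ∃ k, (x : G) = t * φ k := by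
    intro x
    obtain ⟨k, hk, e | e⟩ := (mem_TT s).1 x.2
    · exact Or.inl ⟨k, e.symm⟩
    · exact Or.inr ⟨k, e⟩
  refine ⟨MonoidHom.mk' (fun x => if (x : G) ∈ φ.range then 1 else -1) ?_, ?_⟩
  · intro a b
    rcases hd a with ha | ⟨k, ha⟩ <;> rcases hd b with hb | ⟨l, hb⟩
    · rw [if_pos ha, if_pos hb, if_pos (by rw [Subgroup.coe_mul]; exact mul_mem ha hb)]
      rfl
    · obtain ⟨k, hk⟩ := ha
      have h1 : ((a * b : TT t φ SK) : G) = t * φ (k * l) := by
        rw [Subgroup.coe_mul, ← hk, hb, ← mul_assoc, s.comm k, map_mul, mul_assoc]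
      have h2 : (a : G) ∈ φ.range := ⟨k, hk⟩
      rw [if_neg (not_range s h1), if_pos h2, if_neg (not_range s hb)]
      rfl
    · obtain ⟨l, hl⟩ := hb
      have h1 : ((a * b : TT t φ SK) : G) = t * φ (k * l) := by
        rw [Subgroup.coe_mul, ← hl, ha, map_mul, mul_assoc]
      have h2 : (b : G) ∈ φ.range := ⟨l, hl⟩
      rw [if_neg (not_range s h1), if_neg (not_range s ha), if_pos h2]
      rfl
    · have h1 : ((a * b : TT t φ SK) : G) = φ (k * l) := by
        rw [Subgroup.coe_mul, ha, hb]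
        calc t * φ k * (t * φ l) = t * (φ k * t) * φ l := by group
          _ = (t * t) * (φ k * φ l) := by rw [s.comm k]; group
          _ = φ (k * l) := by rw [s.tt, one_mul, map_mul]
      have h2 : ((a * b : TT t φ SK) : G) ∈ φ.range := ⟨k * l, h1.symm⟩
      rw [if_pos h2, if_neg (not_range s ha), if_neg (not_range s hb)]
      rfl
  · show (if t ∈ φ.range then (1 : ℤˣ) else -1) = -1
    rw [if_neg]
    exact not_range s (k := 1) (by rw [map_one, mul_one])

/-- an element of `N(T)` moving `t` to `t z` permutes `⟨t⟩V`, `⟨t⟩W` -/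
theorem perm [Finite G] (h : Sheet SK V W z c) (s : Setting t φ) {x : G}
    (hx : x ∈ normalizer (TT t φ SK : Set G)) (hxt : x * t * x⁻¹ = t * φ z)
    (hxz : x * φ z * x⁻¹ = φ z) {X : Subgroup K} (hXS : X ≤ SK) (elX : El X)
    (cX : Nat.card X = 16) (zX : z ∈ X) :
    (EE t (X.map φ)).map (MulAut.conj x).toMonoidHom = EE t (V.map φ) ∨
      (EE t (X.map φ)).map (MulAut.conj x).toMonoidHom = EE t (W.map φ) := by
  have hK := finite_K s
  set E' := (EE t (X.map φ)).map (MulAut.conj x).toMonoidHom with hE'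
  have hcmap : ∀ Y : Subgroup K, Nat.card (Y.map φ) = Nat.card Y := fun Y =>
    (Nat.card_congr (Y.equivMapOfInjective φ s.inj).toEquiv).symm
  have hcE : ∀ Y : Subgroup K, Nat.card (EE t (Y.map φ)) = 2 * Nat.card Y := fun Y => by
    rw [card_EE s.tt (comm_map s Y) (t_notMem_map s Y), hcmap]
  have hcE' : Nat.card E' = 32 := by
    have h1 : Nat.card E' = Nat.card (EE t (X.map φ)) :=
      (Nat.card_congr ((EE t (X.map φ)).equivMapOfInjective _
        (MulAut.conj x).injective).toEquiv).symm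
    rw [h1, hcE, cX]
  have hEel : ∀ y ∈ EE t (X.map φ), y * y = 1 := by
    intro y hy
    obtain ⟨k, hk, e | e⟩ := (mem_TT s).1 hy
    · rw [e, ← map_mul, elX k hk, map_one]
    · rw [e]
      calc t * φ k * (t * φ k) = t * (φ k * t) * φ k := by group
        _ = (t * t) * (φ k * φ k) := by rw [s.comm k]; group
        _ = 1 := by rw [s.tt, one_mul, ← map_mul, elX k hk, map_one]
  have hE'el : ∀ y ∈ E', y * y = 1 := by
    rintro _ ⟨y, hy, rfl⟩
    show x * y * x⁻¹ * (x * y * x⁻¹) = 1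
    calc x * y * x⁻¹ * (x * y * x⁻¹) = x * (y * y) * x⁻¹ := by group
      _ = 1 := by rw [hEel y hy]; group
  have hE'T : E' ≤ TT t φ SK := by
    rintro _ ⟨y, hy, rfl⟩
    apply (mem_normalizer_iff.1 hx y).1
    obtain ⟨k, hk, e⟩ := (mem_TT s).1 hy
    exact (mem_TT s).2 ⟨k, hXS hk, e⟩
  have htE' : t ∈ E' := by
    refine ⟨t * φ z, ?_, ?_⟩
    · exact mul_mem t_mem (le_EE ⟨z, zX, rfl⟩)
    · show x * (t * φ z) * x⁻¹ = t
      calc x * (t * φ z) * x⁻¹ = (x * t * x⁻¹) * (x * φ z * x⁻¹) := by group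
        _ = t * (φ z * φ z) := by rw [hxt, hxz]; group
        _ = t := by rw [← map_mul, elX z zX, map_one, mul_one]
  have hEP : E' = EE t ((E'.comap φ).map φ) := by
    ext y
    rw [mem_TT s]
    constructor
    · intro hy
      obtain ⟨k, hk, e | e⟩ := (mem_TT s).1 (hE'T hy)
      · exact ⟨k, by show φ k ∈ E'; rw [← e]; exact hy, Or.inl e⟩
      · refine ⟨k, ?_, Or.inr e⟩
        show φ k ∈ E'
        have : φ k = t * y := by rw [e, ← mul_assoc, s.tt, one_mul]
        rw [this]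
        exact mul_mem htE' hy
    · rintro ⟨k, hk, e | e⟩
      · rw [e]; exact hk
      · rw [e]; exact mul_mem htE' hk
  have hcP : Nat.card (E'.comap φ) = 16 := by
    have h1 := hcE (E'.comap φ)
    rw [← hEP, hcE'] at h1
    omega
  have hPS : E'.comap φ ≤ SK := by
    intro k hk
    exact (mem_EEφ s).1 (hE'T hk)
  have hPel : El (E'.comap φ) := by
    intro k hk
    apply s.inj
    rw [map_mul, map_one]
    exact hE'el _ hk
  rcases h.el16 _ hPS hPel (by rw [hcP]) with e | e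
  · left; rw [hEP, e]
  · right; rw [hEP, e]

/-- `N(⟨t⟩X)` moves `t` -/
theorem moves (s : Setting t φ) {x : G} (hxt : x * t * x⁻¹ = t * φ z)
    (hz1 : z ≠ 1) {X Y : Subgroup K}
    (hX : (EE t (X.map φ)).map (MulAut.conj x).toMonoidHom = EE t (X.map φ) ∨
      (EE t (X.map φ)).map (MulAut.conj x).toMonoidHom = EE t (Y.map φ))
    (trY : ∃ k : K, Nrm k Y ∧ k * z * k⁻¹ ≠ z) :
    ∃ g : G, Nrm g (EE t (X.map φ)) ∧ g * t * g⁻¹ ≠ t := by
  have hmem : ∀ {A : Subgroup G} {y : G}, x * y * x⁻¹ ∈ A.map (MulAut.conj x).toMonoidHom ↔ y ∈ A := by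
    intro A y
    constructor
    · rintro ⟨a, ha, e⟩
      have e' : x * a * x⁻¹ = x * y * x⁻¹ := e
      rwa [← TR.Frame.conj_inj e']
    · exact fun hy => ⟨y, hy, rfl⟩
  rcases hX with e | e
  · refine ⟨x, fun y => ?_, ?_⟩
    · have := hmem (A := EE t (X.map φ)) (y := y)
      rwa [e] at this
    · rw [hxt]
      intro h1
      apply hz1
      apply s.inj
      rw [map_one]
      exact mul_eq_left.1 h1
  · obtain ⟨k, hkY, hkz⟩ := trY
    refine ⟨x⁻¹ * φ k * x, fun y => ?_, ?_⟩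
    · have h1 := hmem (A := EE t (X.map φ)) (y := x⁻¹ * φ k * x * y * (x⁻¹ * φ k * x)⁻¹)
      have h2 := hmem (A := EE t (X.map φ)) (y := y)
      rw [e] at h1 h2
      rw [← h1, ← h2]
      have h3 : x * (x⁻¹ * φ k * x * y * (x⁻¹ * φ k * x)⁻¹) * x⁻¹ =
          φ k * (x * y * x⁻¹) * (φ k)⁻¹ := by group
      rw [h3]
      exact Nrm_EE s.tt (comm_map s Y) (Nrm_map s hkY) (s.comm k) _
    · intro h1
      apply hkz
      apply s.inj
      have h2 : φ k * (x * t * x⁻¹) * (φ k)⁻¹ = x * t * x⁻¹ := by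
        calc φ k * (x * t * x⁻¹) * (φ k)⁻¹ =
            x * (x⁻¹ * φ k * x * t * (x⁻¹ * φ k * x)⁻¹) * x⁻¹ := by group
          _ = x * t * x⁻¹ := by rw [h1]
      rw [hxt] at h2
      have h3 : t * (φ k * φ z * (φ k)⁻¹) = t * φ z := by
        rw [← h2]
        calc t * (φ k * φ z * (φ k)⁻¹) = (t * φ k) * (φ z * (φ k)⁻¹) := by group
          _ = φ k * (t * φ z) * (φ k)⁻¹ := by rw [← s.comm k]; group
      rw [map_mul, map_mul, map_inv]
      exact mul_left_cancel h3

/-- the conclusion for one of the two subgroups -/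
theorem half [Finite G] (h : Sheet SK V W z c) (s : Setting t φ)
    (hnz : ∀ g, g * t * g⁻¹ ≠ φ z) {X : Subgroup K} (elX : El X)
    (cX : Nat.card X = 16) (nX : ∀ s ∈ SK, Nrm s X)
    (trX : ∀ v ∈ X, v ≠ 1 → ∃ k : K, Nrm k X ∧ k * z * k⁻¹ = v) (CX : ∀ k : K, Cen k X → k ∈ X)
    (hmv : ∃ g : G, Nrm g (EE t (X.map φ)) ∧ g * t * g⁻¹ ≠ t) :
    ∀ v ∈ X, ∃ b : G, Cen b (X.map φ) ∧ b * t * b⁻¹ = t * φ v := by
  have hK := finite_K s
  obtain ⟨g0, hg0, hg0t⟩ := hmv
  have key := exists_beta (t := t) (V := X.map φ) (T := TT t φ SK) s.tt (comm_map s X)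
    (t_notMem_map s X) ?_ ?_ ?_ ?_ ?_ ?_ ?_ ?_ hg0 hg0t
  · intro v hv
    exact key _ ⟨v, hv, rfl⟩
  · rintro _ ⟨k, hk, rfl⟩
    rw [← map_mul, elX k hk, map_one]
  · rw [← Nat.card_congr (X.equivMapOfInjective φ s.inj).toEquiv, cX]
  · intro g hgt hgX
    obtain ⟨k, hk⟩ := s.cent g hgt
    have h1 : k ∈ X := by
      apply CX
      intro x hx
      apply s.inj
      rw [map_mul, map_mul]
      have h2 := hgX (φ x) ⟨x, hx, rfl⟩
      rcases hk with e | e
      · rwa [e] at h2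
      · rw [e] at h2
        have h3 : t * (φ k * φ x) = t * (φ x * φ k) := by
          calc t * (φ k * φ x) = t * φ k * φ x := by group
            _ = φ x * (t * φ k) := h2
            _ = (φ x * t) * φ k := by group
            _ = t * (φ x * φ k) := by rw [s.comm x]; group
        exact mul_left_cancel h3
    exact ⟨φ k, ⟨k, h1, rfl⟩, hk⟩
  · rintro g ⟨k, hk, e⟩
    by_cases hk1 : k = 1
    · rw [hk1, map_one] at e
      exact TR.Frame.conj_ne_one s.t1 e.symm
    obtain ⟨l, hl, hlz⟩ := trX k hk hk1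
    apply hnz ((φ l)⁻¹ * g)
    calc (φ l)⁻¹ * g * t * ((φ l)⁻¹ * g)⁻¹ = (φ l)⁻¹ * (g * t * g⁻¹) * φ l := by group
      _ = (φ l)⁻¹ * φ (l * z * l⁻¹) * φ l := by rw [← e, hlz]
      _ = φ z := by rw [map_mul, map_mul, map_inv]; group
  · rintro _ ⟨a, ha, rfl⟩ ha1 _ ⟨b, hb, rfl⟩ hb1
    obtain ⟨k, hk, hkz⟩ := trX a ha (fun e => ha1 (by rw [e, map_one]))
    obtain ⟨l, hl, hlz⟩ := trX b hb (fun e => hb1 (by rw [e, map_one]))
    have hk' : Nrm k⁻¹ X := by
      intro x
      rw [← hk]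
      have : k * (k⁻¹ * x * k⁻¹⁻¹) * k⁻¹ = x := by group
      rw [this]
    refine ⟨φ (l * k⁻¹), Nrm_map s (Nrm_mul hl hk'), s.comm _, ?_⟩
    rw [← map_mul, ← map_inv, ← map_mul]
    congr 1
    rw [← hkz, ← hlz]
    group
  · intro x hx
    obtain ⟨k, hk, e | e⟩ := (mem_TT s).1 hx
    · rw [e]; exact Nrm_map s (nX k hk)
    · rw [e]; exact Nrm_mul (Nrm_t s X) (Nrm_map s (nX k hk))
  · intro x hx
    obtain ⟨k, hk, e | e⟩ := (mem_TT s).1 hx
    · rw [e]; exact s.comm k
    · rw [e, mul_assoc, s.comm k]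
  · have h1 := card_EE s.tt (comm_map s SK) (t_notMem_map s SK)
    rw [← Nat.card_congr (SK.equivMapOfInjective φ s.inj).toEquiv] at h1
    obtain ⟨m, hm⟩ := card_SK h
    show 256 ∣ Nat.card (EE t (SK.map φ))
    rw [h1, hm]
    exact ⟨m, by ring⟩

/-- **node A** -/
theorem A [Finite G] (hG : ∀ H : Subgroup G, H.index ≠ 2) (h : Sheet SK V W z c)
    (s : Setting t φ) :
    (∀ g : G, g * t * g⁻¹ ≠ φ z) ∧
      (∀ v ∈ V, ∃ b : G, Cen b (V.map φ) ∧ b * t * b⁻¹ = t * φ v) ∧
      (∀ w ∈ W, ∃ b : G, Cen b (W.map φ) ∧ b * t * b⁻¹ = t * φ w) := by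
  have hK := finite_K s
  obtain ⟨mu, hmu⟩ := exists_mu s SK
  obtain ⟨S, -, -, ⟨x, -, hxN, -, hxt, hxz⟩, hnz, -⟩ := (frame h s).main hG mu hmu
  -- `N(X)` moves `z`
  have hmv : ∀ X : Subgroup K, Nat.card X = 16 →
      (∀ v ∈ X, v ≠ 1 → ∃ k : K, Nrm k X ∧ k * z * k⁻¹ = v) →
      ∃ k : K, Nrm k X ∧ k * z * k⁻¹ ≠ z := by
    intro X hc htr
    by_contra hno
    push Not at hno
    have h1 : X ≤ zpowers z := by
      intro v hv
      by_cases hv1 : v = 1
      · rw [hv1]; exact one_mem _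
      obtain ⟨k, hk, e⟩ := htr v hv hv1
      rw [← e, hno k hk]
      exact mem_zpowers z
    have h2 := Subgroup.card_le_of_le h1
    rw [hc, Nat.card_zpowers] at h2
    have h3 : orderOf z ≤ 2 := orderOf_le_of_pow_eq_one (by norm_num) (by
      rw [pow_two]; exact h.elV z h.zV)
    omega
  have hmvV := hmv V h.cardV h.trV
  have hmvW := hmv W h.cardW h.trW
  refine ⟨hnz, ?_, ?_⟩
  · exact half h s hnz h.elV h.cardV h.nV h.trV h.CV
      (moves s hxt h.z1 (perm h s hxN hxt hxz h.VS h.elV h.cardV h.zV) hmvW)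
  · exact half h s hnz h.elW h.cardW h.nW h.trW h.CW
      (moves s hxt h.z1 (perm h s hxN hxt hxz h.WS h.elW h.cardW h.zW).symm hmvV)

end Cfsg.Agent.OddHalf.MM.Frame
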