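import Cfsg.Agent.OddHalf.Front.OfSheet
import Cfsg.Agent.OddHalf.D8.Rows
import Cfsg.Agent.OddHalf.MM.Sheet

/-!
# ODD half, D8, `M22`, `M23`: from `Iface` to the setting (helper253)

`Base SK z`: the part of the K-facts used by the front end: `SK` a Sylow 2-subgroup with centre `⟨z⟩`, `z` in the second
derived subgroup of `C_K(z)`, `|Out(K)| ≤ 2`, no outer 2-element of `Aut(K)` centralises `SK`.

`position`: `Ctx`, `Std`, `Cyc` and `Base` give an involution `t` with `C(K) ∩ C(t) = ⟨t⟩`, a Sylow 2-subgroup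
`T ≥ SK` of `C(t)`, the frame, `t ~ tz`, `z ≁ t`. `setting`: if `C(t) = ⟨t⟩ K` then `MM.Setting`.
-/

set_option autoImplicit false

namespace Cfsg.Agent.OddHalf.MM.Glue

open Subgroup Cfsg Cfsg.Agent.OddHalf.Front.FE
open Cfsg.Agent.OddHalf.Front (Cyclic.inv_comm)

universe u

/-- an inner automorphism -/
def Inn {K : Type*} [Group K] (α : MulAut K) : Prop := ∃ m : K, α = MulAut.conj m

/-- the facts used by the front end -/
structure Base {K : Type*} [Group K] (SK : Subgroup K) (z : K) : Prop where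
  two : IsPGroup 2 SK
  max : ∀ P : Subgroup K, IsPGroup 2 P → SK ≤ P → P = SK
  z1 : z ≠ 1
  zS : z ∈ SK
  zc : ∀ s ∈ SK, s * z = z * s
  cen : ∀ y ∈ SK, (∀ s ∈ SK, s * y = y * s) → y = 1 ∨ y = z
  zD : z ∈ ⁅⁅centralizer ({z} : Set K), centralizer ({z} : Set K)⁆, ⁅centralizer ({z} : Set K), centralizer ({z} : Set K)⁆⁆
  /-- `z` is not central -/
  nz : ∃ d : K, d * z ≠ z * d
  /-- `|Out(K)| ≤ 2` -/
  out : ∀ α β : MulAut K, ¬ Inn α → ¬ Inn β → Inn (α * β⁻¹)
  /-- no outer 2-element centralises `SK` -/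
  syl : ∀ α : MulAut K, IsPGroup 2 (zpowers α) → (∀ x ∈ SK, α x = x) → Inn α

section Transport

variable {K : Type*} [Group K] {L : Type*} [Group L]

/-- transport of automorphisms -/
def tr (e : K ≃* L) : MulAut L ≃* MulAut K := MulAut.congr e.symm

theorem tr_apply (e : K ≃* L) (α : MulAut L) (x : K) : tr e α x = e.symm (α (e x)) := rfl

theorem inn_tr (e : K ≃* L) (α : MulAut L) : Inn (tr e α) ↔ Inn α := by
  constructor
  · rintro ⟨m, hm⟩
    refine ⟨e m, ?_⟩
    ext x
    have h1 : tr e α (e.symm x) = m * e.symm x * m⁻¹ := by rw [hm, MulAut.conj_apply]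
    rw [tr_apply, e.apply_symm_apply] at h1
    have h2 := congrArg e h1
    rw [e.apply_symm_apply] at h2
    rw [h2, MulAut.conj_apply, map_mul, map_mul, map_inv, e.apply_symm_apply]
  · rintro ⟨m, rfl⟩
    refine ⟨e.symm m, ?_⟩
    ext x
    rw [tr_apply, MulAut.conj_apply, MulAut.conj_apply, map_mul, map_mul, map_inv, e.symm_apply_apply]

theorem centralizer_map (e : K ≃* L) (z : K) :
    (centralizer ({z} : Set K)).map e.toMonoidHom = centralizer ({e z} : Set L) := by
  ext x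
  rw [mem_centralizer_singleton_iff]
  constructor
  · rintro ⟨y, hy, rfl⟩
    rw [SetLike.mem_coe, mem_centralizer_singleton_iff] at hy
    show e y * e z = e z * e y
    rw [← map_mul, hy, map_mul]
  · intro hx
    refine ⟨e.symm x, ?_, e.apply_symm_apply x⟩
    rw [SetLike.mem_coe, mem_centralizer_singleton_iff]
    have h1 := congrArg e.symm hx
    rw [map_mul, map_mul, e.symm_apply_apply] at h1
    exact h1

theorem Base.of_equiv {SK : Subgroup K} {z : K} (h : Base SK z) (e : K ≃* L) :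
    Base (SK.map e.toMonoidHom) (e z) where
  two := h.two.map _
  max := by
    intro P hP hle
    have h1 : (P.map e.symm.toMonoidHom) = SK := by
      apply h.max _ (hP.map _)
      intro s hs
      exact ⟨e s, hle ⟨s, hs, rfl⟩, e.symm_apply_apply s⟩
    rw [← h1, Subgroup.map_map]
    have h2 : e.toMonoidHom.comp e.symm.toMonoidHom = MonoidHom.id L := by
      ext x
      exact e.apply_symm_apply x
    rw [h2, Subgroup.map_id]
  z1 := fun h1 => h.z1 (e.injective (h1.trans (map_one e).symm))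
  zS := ⟨z, h.zS, rfl⟩
  zc := by
    rintro _ ⟨s, hs, rfl⟩
    show e s * e z = e z * e s
    rw [← map_mul, h.zc s hs, map_mul]
  cen := by
    rintro _ ⟨y, hy, rfl⟩ hc
    have h1 := h.cen y hy fun s hs => e.injective (by
      rw [map_mul, map_mul]
      exact hc (e s) ⟨s, hs, rfl⟩)
    rcases h1 with h1 | h1
    · left
      rw [h1]; exact map_one e
    · right
      rw [h1]; rfl
  zD := by
    rw [← centralizer_map e z, ← map_commutator, ← map_commutator]
    exact ⟨z, h.zD, rfl⟩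
  nz := by
    obtain ⟨d, hd⟩ := h.nz
    refine ⟨e d, fun h1 => hd (e.injective ?_)⟩
    rw [map_mul, map_mul]; exact h1
  out := by
    intro α β hα hβ
    have h1 := h.out (tr e α) (tr e β) (fun h2 => hα ((inn_tr e α).1 h2)) (fun h2 => hβ ((inn_tr e β).1 h2))
    rw [← map_inv, ← map_mul] at h1
    exact (inn_tr e _).1 h1
  syl := by
    intro α hα hfix
    rw [← inn_tr e α]
    apply h.syl
    · have h1 := hα.map (tr e).toMonoidHom
      rw [MonoidHom.map_zpowers] at h1
      exact h1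
    · intro x hx
      rw [tr_apply, hfix (e x) ⟨x, hx, rfl⟩, e.symm_apply_apply]

/-- groups all of whose automorphisms are inner -/
theorem Base.of_inn {SK : Subgroup K} {z : K} (hout : ∀ α : MulAut K, Inn α)
    (two : IsPGroup 2 SK) (max : ∀ P : Subgroup K, IsPGroup 2 P → SK ≤ P → P = SK) (z1 : z ≠ 1) (zS : z ∈ SK)
    (zc : ∀ s ∈ SK, s * z = z * s) (cen : ∀ y ∈ SK, (∀ s ∈ SK, s * y = y * s) → y = 1 ∨ y = z)
    (zD : z ∈ ⁅⁅centralizer ({z} : Set K), centralizer ({z} : Set K)⁆, ⁅centralizer ({z} : Set K), centralizer ({z} : Set K)⁆⁆)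
    (nz : ∃ d : K, d * z ≠ z * d) : Base SK z :=
  ⟨two, max, z1, zS, zc, cen, zD, nz, fun _ _ _ _ => hout _, fun _ _ _ => hout _⟩

end Transport

variable {G : Type u} [Group G] {K : Subgroup G} {t q : G}

/-- `z` is isolated in `⟨t, z⟩` -/
theorem iso (h : Start K t q) {z : K}
    (zD : z ∈ ⁅⁅centralizer ({z} : Set K), centralizer ({z} : Set K)⁆, ⁅centralizer ({z} : Set K), centralizer ({z} : Set K)⁆⁆)
    (hout : ∀ a b : G, a * t = t * a → b * t = t * b → a * b * a⁻¹ * b⁻¹ ∈ zpowers q ⊔ K) (g : G)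
    (h1 : g * t * g⁻¹ = t ∨ g * t * g⁻¹ = z ∨ g * t * g⁻¹ = t * z)
    (h2 : g * z * g⁻¹ = t ∨ g * z * g⁻¹ = z ∨ g * z * g⁻¹ = t * z) : g * z * g⁻¹ = z := by
  have htz : t * (z : G) = z * t := (h.Kt z z.2).symm
  have tK : t ∉ K := fun h1 => h.t1 (h.cen t h1 fun y hy => h.Kt y hy)
  set C : Subgroup G := centralizer ({t} : Set G) ⊓ centralizer ({(z : G)} : Set G) with hC
  have hmemC : ∀ x, x ∈ C ↔ x * t = t * x ∧ x * z = z * x := by
    intro x
    rw [hC, mem_inf, mem_centralizer_singleton_iff, mem_centralizer_singleton_iff]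
  -- `g⁻¹ C g ≤ C`
  have hconj : C.map (MulAut.conj g⁻¹).toMonoidHom ≤ C := by
    rintro _ ⟨x, hx, rfl⟩
    have hx' := (hmemC x).1 hx
    have hc : ∀ y, (y = t ∨ y = z ∨ y = t * z) → x * y = y * x := by
      rintro y (rfl | rfl | rfl)
      · exact hx'.1
      · exact hx'.2
      · calc x * (t * z) = (x * t) * z := by group
          _ = t * (x * z) := by rw [hx'.1]; group
          _ = t * z * x := by rw [hx'.2]; group
    have hb : ∀ y, x * (g * y * g⁻¹) = g * y * g⁻¹ * x →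
        g⁻¹ * x * g⁻¹⁻¹ * y = y * (g⁻¹ * x * g⁻¹⁻¹) := by
      intro y hy
      calc g⁻¹ * x * g⁻¹⁻¹ * y = g⁻¹ * (x * (g * y * g⁻¹)) * g := by group
        _ = g⁻¹ * (g * y * g⁻¹ * x) * g := by rw [hy]
        _ = y * (g⁻¹ * x * g⁻¹⁻¹) := by group
    exact (hmemC _).2 ⟨hb t (hc _ h1), hb z (hc _ h2)⟩
  -- `C'' ≤ K`
  have hC1 : ⁅C, C⁆ ≤ zpowers q ⊔ K := by
    rw [commutator_le]
    intro a ha b hb
    rw [commutatorElement_def]
    exact hout a b ((hmemC a).1 ha).1 ((hmemC b).1 hb).1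
  have hM : ⁅zpowers q ⊔ K, zpowers q ⊔ K⁆ ≤ K := by
    rw [commutator_le]
    intro a ha b hb
    rw [commutatorElement_def]
    obtain ⟨x, hx, k, hk, rfl⟩ := (Front.Cyclic.mem_M h.toStart0).1 ha
    obtain ⟨y, hy, l, hl, rfl⟩ := (Front.Cyclic.mem_M h.toStart0).1 hb
    have hxy : x * y = y * x := by
      obtain ⟨m, rfl⟩ := mem_zpowers_iff.1 hx
      obtain ⟨n, rfl⟩ := mem_zpowers_iff.1 hy
      rw [← zpow_add, ← zpow_add, add_comm]
    have c1 : Commute x y := hxy
    have c2 : Commute k y := h.QK y hy k hk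
    have c3 : Commute l x := h.QK x hx l hl
    have c4 : Commute k x := h.QK x hx k hk
    have c5 : Commute l y := h.QK y hy l hl
    have e : x * k * (y * l) * (x * k)⁻¹ * (y * l)⁻¹ = k * l * k⁻¹ * l⁻¹ := by
      have d1 : Commute x (k * l * k⁻¹ * l⁻¹) :=
        (((c4.symm.mul_right c3.symm).mul_right c4.symm.inv_right).mul_right c3.symm.inv_right)
      have d2 : Commute y (k * l * k⁻¹ * l⁻¹) :=
        (((c2.symm.mul_right c5.symm).mul_right c2.symm.inv_right).mul_right c5.symm.inv_right)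
      rw [mul_inv_eq_iff_eq_mul, mul_inv_eq_iff_eq_mul]
      calc x * k * (y * l) = x * (k * y) * l := by group
        _ = (x * y) * (k * l) := by rw [c2.eq]; group
        _ = (y * x) * (k * l * k⁻¹ * l⁻¹) * (l * k) := by rw [hxy]; group
        _ = y * (x * (k * l * k⁻¹ * l⁻¹)) * (l * k) := by group
        _ = (y * (k * l * k⁻¹ * l⁻¹)) * x * (l * k) := by rw [d1.eq]; group
        _ = k * l * k⁻¹ * l⁻¹ * y * (x * l) * k := by rw [d2.eq]; group
        _ = k * l * k⁻¹ * l⁻¹ * y * (l * x) * k := by rw [c3.eq]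
        _ = k * l * k⁻¹ * l⁻¹ * (y * l) * (x * k) := by group
    rw [e]
    exact mul_mem (mul_mem (mul_mem hk hl) (inv_mem hk)) (inv_mem hl)
  have hC2 : ⁅⁅C, C⁆, ⁅C, C⁆⁆ ≤ K := (commutator_mono hC1 hC1).trans hM
  have hzC : (z : G) ∈ ⁅⁅C, C⁆, ⁅C, C⁆⁆ := by
    have h3 : (centralizer ({z} : Set K)).map K.subtype ≤ C := by
      rintro _ ⟨y, hy, rfl⟩
      rw [SetLike.mem_coe, mem_centralizer_singleton_iff] at hy
      exact (hmemC _).2 ⟨h.Kt y y.2, congrArg Subtype.val hy⟩
    have h4 : (⁅⁅centralizer ({z} : Set K), centralizer ({z} : Set K)⁆,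
        ⁅centralizer ({z} : Set K), centralizer ({z} : Set K)⁆⁆).map K.subtype ≤ ⁅⁅C, C⁆, ⁅C, C⁆⁆ := by
      rw [map_commutator, map_commutator]
      exact commutator_mono (commutator_mono h3 h3) (commutator_mono h3 h3)
    exact h4 ⟨z, zD, rfl⟩
  have h7 : g⁻¹ * z * g ∈ K := by
    apply hC2
    have h3 : (⁅⁅C, C⁆, ⁅C, C⁆⁆).map (MulAut.conj g⁻¹).toMonoidHom ≤ ⁅⁅C, C⁆, ⁅C, C⁆⁆ := by
      rw [map_commutator, map_commutator]
      exact commutator_mono (commutator_mono hconj hconj) (commutator_mono hconj hconj)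
    have h4 := h3 (mem_map_of_mem _ hzC)
    have h5 : (MulAut.conj g⁻¹).toMonoidHom (z : G) = g⁻¹ * z * g := by
      show g⁻¹ * z * g⁻¹⁻¹ = _
      rw [inv_inv]
    rwa [h5] at h4
  have htzK : t * z ∉ K := fun e => tK (by
    have := K.mul_mem e (K.inv_mem z.2)
    rwa [mul_inv_cancel_right] at this)
  have hzt : (z : G) ≠ t := fun e => tK (e ▸ z.2)
  have hmul : g * (t * z) * g⁻¹ = (g * t * g⁻¹) * (g * z * g⁻¹) := by group
  have back : ∀ y, g * y * g⁻¹ = z → y ∈ K := by
    intro y hy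
    have : g⁻¹ * z * g = y := by rw [← hy]; group
    rwa [this] at h7
  have hinj : ∀ c d, g * c * g⁻¹ = g * d * g⁻¹ → c = d :=
    fun c d e => mul_left_cancel (mul_right_cancel e)
  rcases h2 with h2 | h2 | h2
  · exfalso
    rcases h1 with h1 | h1 | h1
    · exact hzt (hinj _ _ (h2.trans h1.symm))
    · exact tK (back t h1)
    · apply htzK
      apply back
      rw [hmul, h1, h2, htz, mul_assoc, h.tt, mul_one]
  · exact h2
  · exfalso
    rcases h1 with h1 | h1 | h1
    · apply htzK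
      apply back
      rw [hmul, h1, h2, ← mul_assoc, h.tt, one_mul]
    · exact tK (back t h1)
    · exact hzt (hinj _ _ (h2.trans h1.symm))

/-- the automorphism of `K` induced by an element of `C(t)` -/
theorem mem_of_inn' (h : Start K t q) {y : G} (hyt : y * t = t * y)
    (hy : Inn (K.normalizerMonoidHom ⟨y, h.nK y hyt⟩)) : y ∈ zpowers q ⊔ K := by
  obtain ⟨m, hm⟩ := hy
  exact Front.OfSheet.mem_of_inn h hyt ⟨m, hm.symm⟩

/-- elements of `QK` induce inner automorphisms -/
theorem inn_of_mem (h : Start K t q) {y : G} (hyt : y * t = t * y) (hy : y ∈ zpowers q ⊔ K) :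
    Inn (K.normalizerMonoidHom ⟨y, h.nK y hyt⟩) := by
  obtain ⟨a, ha, k, hk, rfl⟩ := (Front.Cyclic.mem_M h.toStart0).1 hy
  refine ⟨⟨k, hk⟩, ?_⟩
  ext x
  rw [D8.GlueE.nmh_apply, MulAut.conj_apply]
  show a * k * x * (a * k)⁻¹ = k * x * k⁻¹
  have h1 := h.QK a ha (k * x * k⁻¹) (mul_mem (mul_mem hk x.2) (inv_mem hk))
  calc a * k * x * (a * k)⁻¹ = a * (k * x * k⁻¹) * a⁻¹ := by group
    _ = (k * x * k⁻¹) * a * a⁻¹ := by rw [h1]
    _ = k * x * k⁻¹ := by group

/-- products of inner automorphisms -/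
theorem Inn.mul {K : Type*} [Group K] {α β : MulAut K} (hα : Inn α) (hβ : Inn β) : Inn (α * β) := by
  obtain ⟨m, rfl⟩ := hα
  obtain ⟨n, rfl⟩ := hβ
  exact ⟨m * n, (map_mul _ _ _).symm⟩

theorem Inn.inv {K : Type*} [Group K] {α : MulAut K} (hα : Inn α) : Inn α⁻¹ := by
  obtain ⟨m, rfl⟩ := hα
  exact ⟨m⁻¹, (map_inv _ _).symm⟩

theorem Inn.conj {K : Type*} [Group K] {α : MulAut K} (hα : Inn α) (γ : MulAut K) : Inn (γ * α * γ⁻¹) := by
  obtain ⟨m, rfl⟩ := hα
  refine ⟨γ m, ?_⟩
  ext x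
  simp [MulAut.conj_apply, MulAut.mul_apply, MulAut.inv_def]

theorem Base.comm {K : Type*} [Group K] {SK : Subgroup K} {z : K} (B : Base SK z) (α β : MulAut K) :
    Inn (α * β * α⁻¹ * β⁻¹) := by
  by_cases hα : Inn α
  · have h1 := hα.mul (hα.inv.conj β)
    have h2 : α * (β * α⁻¹ * β⁻¹) = α * β * α⁻¹ * β⁻¹ := by group
    rwa [h2] at h1
  by_cases hβ : Inn β
  · exact (hβ.conj α).mul hβ.inv
  have h1 := B.out α β hα hβ
  have h2 := h1.mul ((h1.inv).conj β)
  have h3 : α * β⁻¹ * (β * (α * β⁻¹)⁻¹ * β⁻¹) = α * β * α⁻¹ * β⁻¹ := by group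
  rwa [h3] at h2

/-- the starting position and the part of the K-facts -/
structure Begin (K : Subgroup G) (t q : G) (SK : Subgroup K) (z : K) (T : Subgroup G) : Prop where
  facts : Front.CycT.Facts K t q (z : G) T
  ST : SK.map K.subtype ≤ T
  /-- `T ∩ K = SK` -/
  TK : ∀ x (hx : x ∈ K), x ∈ T → (⟨x, hx⟩ : K) ∈ SK

theorem begin_of [Finite G] {SK : Subgroup K} {z : K} (B : Base SK z) (st : Start K t q) :
    ∃ T, Begin K t q SK z T := by
  obtain ⟨C, hC⟩ : ∃ C : Subgroup G, C = centralizer ({t} : Set G) := ⟨_, rfl⟩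
  have hmC : ∀ x, x ∈ C ↔ x * t = t * x := by
    intro x
    rw [hC, mem_centralizer_singleton_iff]
  have hKC : K ≤ C := fun x hx => (hmC x).2 (st.Kt x hx)
  have hS' : IsPGroup 2 ↥(SK.map K.subtype) := B.two.map _
  have hS'C : SK.map K.subtype ≤ C := by
    rintro _ ⟨y, -, rfl⟩
    exact hKC y.2
  obtain ⟨TS, hTS⟩ := (hS'.comap_of_injective C.subtype C.subtype_injective).exists_le_sylow
  have hTC : (TS : Subgroup C).map C.subtype ≤ C := by
    rintro _ ⟨y, -, rfl⟩
    exact y.2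
  have hpT : IsPGroup 2 ↥((TS : Subgroup C).map C.subtype) := TS.isPGroup'.map _
  have hST : SK.map K.subtype ≤ (TS : Subgroup C).map C.subtype := by
    intro x hx
    exact ⟨⟨x, hS'C hx⟩, hTS hx, rfl⟩
  have htc : ∀ x ∈ (TS : Subgroup C).map C.subtype, x * t = t * x := fun x hx => (hmC x).1 (hTC hx)
  have hTK : ∀ x (hx : x ∈ K), x ∈ (TS : Subgroup C).map C.subtype → (⟨x, hx⟩ : K) ∈ SK := by
    have h1 : IsPGroup 2 ↥(((TS : Subgroup C).map C.subtype).subgroupOf K) :=
      hpT.comap_of_injective K.subtype K.subtype_injective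
    have h2 := B.max _ h1 (fun y hy => mem_subgroupOf.2 (hST ⟨y, hy, rfl⟩))
    intro x hx hxT
    have h3 : (⟨x, hx⟩ : K) ∈ ((TS : Subgroup C).map C.subtype).subgroupOf K := mem_subgroupOf.2 hxT
    rw [h2] at h3
    exact h3
  have hKT : ∀ x : K, x ∈ SK → (x : G) ∈ (TS : Subgroup C).map C.subtype := fun x hx => hST ⟨x, hx, rfl⟩
  refine ⟨(TS : Subgroup C).map C.subtype, ?_, hST, hTK⟩
  exact
    { toStart := st
      pT := hpT
      tc := htc
      max := by
        intro R hR hle hRt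
        have h1 : IsPGroup 2 ↥(R.subgroupOf C) := hR.comap_of_injective C.subtype C.subtype_injective
        have h2 := TS.is_maximal' h1 (fun y hy => mem_subgroupOf.2 (hle ⟨y, hy, rfl⟩))
        intro x hx
        have hxC : x ∈ C := (hmC x).2 (hRt x hx)
        have h3 : (⟨x, hxC⟩ : C) ∈ R.subgroupOf C := mem_subgroupOf.2 hx
        rw [h2] at h3
        exact ⟨⟨x, hxC⟩, h3, rfl⟩
      z1 := fun h => B.z1 (Subtype.ext h)
      zT := hKT z B.zS
      zK := z.2
      zS := by
        intro x hxT hxK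
        exact congrArg Subtype.val (B.zc ⟨x, hxK⟩ (hTK x hxK hxT))
      P1 := by
        intro y hyT hyK hy
        rcases B.cen ⟨y, hyK⟩ (hTK y hyK hyT) (fun x hx => Subtype.ext (hy x (hKT x hx) x.2)) with h | h
        · exact Or.inl (congrArg Subtype.val h)
        · exact Or.inr (congrArg Subtype.val h)
      T1s := by
        intro y hyt hy2 hy
        apply mem_of_inn' st hyt
        apply B.syl _ (D8.GlueE.isPGroup_nmh (st.nK y hyt) hy2)
        intro x hx
        apply Subtype.ext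
        rw [D8.GlueE.nmh_apply, ← hy x (hKT x hx) x.2]
        group
      idx := by
        intro a ha b hb haM hbM
        have ha' := htc a ha
        have hb' := htc b hb
        have hbi : b⁻¹ * t = t * b⁻¹ := by
          have := Front.Cyclic.inv_comm hb'
          exact this
        have hab : a * b⁻¹ * t = t * (a * b⁻¹) := by
          rw [mul_assoc, hbi, ← mul_assoc, ha', mul_assoc]
        apply mem_of_inn' st hab
        have h1 := B.out _ _ (fun h2 => haM (mem_of_inn' st ha' h2)) (fun h2 => hbM (mem_of_inn' st hb' h2))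
        rw [← map_inv, ← map_mul] at h1
        exact h1
      iso := by
        apply iso st B.zD
        intro a b ha hb
        have hab : a * b * a⁻¹ * b⁻¹ * t = t * (a * b * a⁻¹ * b⁻¹) := by
          have c1 : Commute a t := ha
          have c2 : Commute b t := hb
          exact ((c1.mul_left c2).mul_left c1.inv_left).mul_left c2.inv_left
        apply mem_of_inn' st hab
        have h1 := B.comm (K.normalizerMonoidHom ⟨a, st.nK a ha⟩) (K.normalizerMonoidHom ⟨b, st.nK b hb⟩)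
        rw [← map_inv, ← map_inv, ← map_mul, ← map_mul, ← map_mul] at h1
        exact h1 }

/-- what the front end gives -/
structure Position (K : Subgroup G) (t : G) (SK : Subgroup K) (z : K) (T : Subgroup G) : Prop where
  facts : Front.CycT.Facts K t t (z : G) T
  frame : TR.Frame t (z : G) T
  /-- `C(K) ∩ C(t) = ⟨t⟩` -/
  Q2 : ∀ c : G, c * t = t * c → (∀ x ∈ K, x * c = c * x) → c = 1 ∨ c = t
  ST : SK.map K.subtype ≤ T
  /-- `T ∩ K = SK` -/
  TK : ∀ x (hx : x ∈ K), x ∈ T → (⟨x, hx⟩ : K) ∈ SK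
  /-- `z` is not conjugate to `t` -/
  nc : ∀ g, g * t * g⁻¹ ≠ z
  /-- `t ~ tz` -/
  swap : ∃ (S : Sylow 2 G) (x : G), T < (S : Subgroup G) ∧ (∀ s ∈ (S : Subgroup G), s * z = z * s) ∧
    x ∈ (S : Subgroup G) ∧ x ∈ normalizer (T : Set G) ∧ x ∉ T ∧ x * t * x⁻¹ = t * z ∧ x * z * x⁻¹ = z
  /-- `t ∈ [C(z), C(z)]` -/
  tH : (⟨t, mem_centralizer_singleton_iff.2 frame.comm⟩ : centralizer ({(z : G)} : Set G)) ∈
    commutator (centralizer ({(z : G)} : Set G))
  /-- the outer part has order at most 2 -/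
  out : ∀ a b : G, a * t = t * a → b * t = t * b → a ∉ zpowers t ⊔ K → b ∉ zpowers t ⊔ K →
    a * b⁻¹ ∈ zpowers t ⊔ K

/-- replacing `q` by `t` -/
theorem start_tt [Finite G] (st : Start K t q) (hQ : ∀ y ∈ zpowers q, y = 1 ∨ y = t) : Start K t t :=
  { tt := st.tt
    t1 := st.t1
    tQ := mem_zpowers t
    pQ := by
      have h : zpowers t ≤ zpowers q := zpowers_le.2 st.tQ
      exact st.pQ.to_le h
    qK := st.Kt
    nK := st.nK
    cK := by
      intro c hc hcK
      rcases hQ c (st.cK c hc hcK) with h | h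
      · rw [h]; exact one_mem _
      · rw [h]; exact mem_zpowers t
    comp := st.comp
    simple := st.simple
    cen := st.cen }

/-- **The front end** for `M22`, `M23`. -/
theorem position (hG : Iface.Ctx G) (hK : Iface.Std G K) (hC : Iface.Cyc K)
    {SK : Subgroup K} {z : K} (B : Base SK z) : ∃ t T, Position K t SK z T := by
  have := hG.fin
  have hcen : center (↥K) = ⊥ := by
    rw [eq_bot_iff]
    intro y hy
    have hst := hK.z2
    -- the centre is a 2-group, so contained in every Sylow subgroup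
    have hyS : y ∈ SK := by
      have h1 : IsPGroup 2 ↥(SK ⊔ center ↥K : Subgroup K) :=
        B.two.to_sup_of_normal_right hst
      have h2 := B.max _ h1 le_sup_left
      rw [← h2]
      exact (le_sup_right : center ↥K ≤ SK ⊔ center ↥K) hy
    rw [mem_center_iff] at hy
    rcases B.cen y hyS (fun s _ => (hy s)) with h1 | h1
    · rw [h1]; exact one_mem _
    · exfalso
      obtain ⟨d, hd⟩ := B.nz
      apply hd
      rw [← h1]
      exact hy d
  obtain ⟨t, q, st⟩ := exists_start hG hK hC hcen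
  obtain ⟨T, D⟩ := begin_of B st
  obtain ⟨Fr, hQ, -⟩ := Front.CycT.main D.facts (commutator_eq_top hG) (index_ne_two hG)
  have st' := start_tt st hQ
  obtain ⟨T, D⟩ := begin_of B st'
  obtain ⟨Fr, -, S, hTS, hSz, ⟨x, hxS, hxN, hxT, hxt, hxz⟩, hnc, htH⟩ :=
    Front.CycT.main D.facts (commutator_eq_top hG) (index_ne_two hG)
  refine ⟨t, T,
    { facts := D.facts
      frame := Fr
      Q2 := ?_
      ST := D.ST
      TK := D.TK
      nc := hnc
      swap := ⟨S, x, hTS, hSz, hxS, hxN, hxT, hxt, hxz⟩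
      tH := htH
      out := ?_ }⟩
  · intro c hc hcK
    exact hQ c (st.cK c hc hcK)
  · intro a b ha hb haM hbM
    have hbi : b⁻¹ * t = t * b⁻¹ := Front.Cyclic.inv_comm hb
    have hab : a * b⁻¹ * t = t * (a * b⁻¹) := by
      rw [mul_assoc, hbi, ← mul_assoc, ha, mul_assoc]
    apply mem_of_inn' st' hab
    have h1 := B.out _ _ (fun h2 => haM (mem_of_inn' st' ha h2)) (fun h2 => hbM (mem_of_inn' st' hb h2))
    rw [← map_inv, ← map_mul] at h1
    exact h1

/-- **The clean case**: `C(t) = ⟨t⟩ K`. -/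
theorem setting {SK : Subgroup K} {z : K} {T : Subgroup G} (P : Position K t SK z T)
    (hin : ∀ g : G, g * t = t * g → g ∈ zpowers t ⊔ K) {M : Type*} [Group M] (e : M ≃* K) :
    Setting t (K.subtype.comp e.toMonoidHom) where
  tt := P.facts.tt
  t1 := P.facts.t1
  inj := by
    intro a b hab
    exact e.injective (Subtype.ext hab)
  comm := fun k => P.facts.Kt _ (e k).2
  tK := by
    intro k hk
    have h1 : t ∈ K := by
      rw [← hk]
      exact (e k).2
    exact P.facts.t1 (P.facts.cen t h1 fun y hy => P.facts.Kt y hy)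
  cent := by
    intro g hg
    obtain ⟨a, ha, k, hk, rfl⟩ := (Front.Cyclic.mem_M P.facts.toStart0).1 (hin g hg)
    have h2 : a = 1 ∨ a = t := by
      apply P.Q2
      · exact P.facts.Qt a ha
      · exact fun x hx => P.facts.QK a ha x hx
    refine ⟨e.symm ⟨k, hk⟩, ?_⟩
    have h3 : (K.subtype.comp e.toMonoidHom) (e.symm ⟨k, hk⟩) = k := by
      show ((e (e.symm ⟨k, hk⟩) : K) : G) = k
      rw [e.apply_symm_apply]
    rw [h3]
    rcases h2 with h2 | h2
    · left; rw [h2, one_mul]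
    · right; rw [h2]

end Cfsg.Agent.OddHalf.MM.Glue
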