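import Cfsg.Agent.OddHalf.MM.Sheet
import Cfsg.Agent.GTwoFour.TransferTL

/-!
# ODD half, D8, `M22` and `M23`: the end of the kill (node F, helper259)

`KillHyp t c V W UV UW`: the situation reached by the nodes A-E (in `G`). With `S₀ = UV·UW`, `S = S₀⟨t, c⟩` and
`M₀ = S₀⟨tc⟩` of index 2 in `S`, every involution of `tS₀` is conjugate to `t` (`fus_t`), every involution of `cS₀` to
`c` (`fus_c`), and `C_{S₀}(t) = VW` (`cent_S0`). The transfer to `S/M₀` then gives a subgroup of index 2 (`kill_of`).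
-/

set_option autoImplicit false

namespace Cfsg.Agent.OddHalf.MM

variable {G : Type*} [Group G]

/-! ### Elementary abelian subgroups -/

theorem El.invF {E : Subgroup G} (h : El E) {x : G} (hx : x ∈ E) : x⁻¹ = x :=
  inv_eq_of_mul_eq_one_left (h x hx)

theorem El.mul_comm {E : Subgroup G} (h : El E) {x y : G} (hx : x ∈ E) (hy : y ∈ E) : x * y = y * x := by
  have h1 := h _ (E.mul_mem hx hy)
  calc x * y = (x * x) * (x * y) := by rw [h x hx, one_mul]
    _ = x * (x * x * y) := by group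
    _ = x * y := by rw [h x hx, one_mul]
    _ = (x * y)⁻¹ := (inv_eq_of_mul_eq_one_left h1).symm
    _ = y⁻¹ * x⁻¹ := mul_inv_rev x y
    _ = y * x := by rw [h.invF hx, h.invF hy]

/-! ### Extension by an involution -/

section Ext

variable (N : Subgroup G) (a : G) (ha : a * a = 1) (hn : ∀ x ∈ N, a * x * a ∈ N)

/-- `N ∪ Na` for an involution `a` normalising `N` -/
def ext : Subgroup G where
  carrier := {x | x ∈ N ∨ x * a ∈ N}
  one_mem' := Or.inl N.one_mem
  mul_mem' := by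
    rintro x y (hx | hx) (hy | hy)
    · exact Or.inl (N.mul_mem hx hy)
    · right
      rw [mul_assoc]
      exact N.mul_mem hx hy
    · right
      have e : x * y * a = (x * a) * (a * y * a) := by
        calc x * y * a = x * 1 * y * a := by group
          _ = x * (a * a) * y * a := by rw [ha]
          _ = _ := by group
      rw [e]
      exact N.mul_mem hx (hn y hy)
    · left
      have e : x * y = (x * a) * (a * (y * a) * a) := by
        calc x * y = x * 1 * y * 1 := by group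
          _ = x * (a * a) * y * (a * a) := by rw [ha]
          _ = _ := by group
      rw [e]
      exact N.mul_mem hx (hn _ hy)
  inv_mem' := by
    rintro x (hx | hx)
    · exact Or.inl (N.inv_mem hx)
    · right
      have hai : a⁻¹ = a := inv_eq_of_mul_eq_one_left ha
      have e : x⁻¹ * a = a * (x * a)⁻¹ * a := by
        rw [mul_inv_rev, hai]
        calc x⁻¹ * a = 1 * x⁻¹ * a := by group
          _ = (a * a) * x⁻¹ * a := by rw [ha]
          _ = _ := by group
      rw [e]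
      exact hn _ (N.inv_mem hx)

theorem mem_ext {x : G} : x ∈ ext N a ha hn ↔ x ∈ N ∨ x * a ∈ N := Iff.rfl

theorem le_ext : N ≤ ext N a ha hn := fun _ hx => Or.inl hx

theorem a_mem_ext : a ∈ ext N a ha hn := Or.inr (by rw [ha]; exact N.one_mem)

open Classical in
/-- the sign character of `N ∪ Na` -/
noncomputable def sg : ext N a ha hn →* ℤˣ where
  toFun x := if (x : G) ∈ N then 1 else -1
  map_one' := by
    rw [if_pos]
    exact N.one_mem
  map_mul' := by
    rintro ⟨x, hx⟩ ⟨y, hy⟩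
    show (if x * y ∈ N then (1 : ℤˣ) else -1) = (if x ∈ N then 1 else -1) * (if y ∈ N then 1 else -1)
    by_cases h1 : x ∈ N
    · by_cases h2 : y ∈ N
      · rw [if_pos h1, if_pos h2, if_pos (N.mul_mem h1 h2), one_mul]
      · rw [if_pos h1, if_neg h2, if_neg (fun h => h2 ((N.mul_mem_cancel_left h1).1 h)), one_mul]
    · by_cases h2 : y ∈ N
      · rw [if_neg h1, if_pos h2, if_neg (fun h => h1 ((N.mul_mem_cancel_right h2).1 h)), mul_one]
      · have h3 : x * a ∈ N := hx.resolve_left h1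
        have h4 : y * a ∈ N := hy.resolve_left h2
        have h5 : x * y ∈ N := by
          have e : x * y = (x * a) * (a * (y * a) * a) := by
            calc x * y = x * 1 * y * 1 := by group
              _ = x * (a * a) * y * (a * a) := by rw [ha]
              _ = _ := by group
          rw [e]
          exact N.mul_mem h3 (hn _ h4)
        rw [if_neg h1, if_neg h2, if_pos h5, neg_mul_neg, one_mul]

theorem sg_eq_one {x : ext N a ha hn} (hx : (x : G) ∈ N) : sg N a ha hn x = 1 := if_pos hx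

theorem sg_ne_one {x : ext N a ha hn} (hx : (x : G) ∉ N) : sg N a ha hn x = -1 := if_neg hx

end Ext

/-- a homomorphism to `±1` that is not trivial gives a subgroup of index 2 -/
theorem exists_index_two (f : G →* ℤˣ) {t : G} (ht : f t = -1) : ∃ H : Subgroup G, H.index = 2 := by
  refine ⟨f.ker, ?_⟩
  rw [Subgroup.index_ker]
  have h1 : f.range = ⊤ := by
    rw [eq_top_iff]
    rintro u -
    rcases Int.units_eq_one_or u with rfl | rfl
    · exact f.range.one_mem
    · exact ⟨t, ht⟩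
  rw [h1, Subgroup.card_top, Nat.card_eq_fintype_card]
  rfl

/-! ### The layer lemma -/

/-- `c` acts on `X/X₀`, of order 4, as a transvection: elements fixed by `c` are commutators. -/
theorem layer_lemma [Finite G] {c : G} {X X₀ : Subgroup G} (hc : c * c = 1) (hX : El X) (h0 : X₀ ≤ X)
    (hcX : ∀ x ∈ X, c * x * c ∈ X) (hc0 : ∀ x ∈ X₀, c * x * c ∈ X₀) (h4 : Nat.card X = 4 * Nat.card X₀)
    {v : G} (hv : v ∈ X) (hcv : c * v * c * v ∉ X₀) {x : G} (hx : x ∈ X) (hcx : c * x * c * x ∈ X₀) :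
    ∃ y ∈ X, c * y * c * y * x ∈ X₀ := by
  classical
  set w : G := c * v * c * v with hw
  have hwX : w ∈ X := X.mul_mem (hcX v hv) hv
  -- `x ∈ X₀` or `w x ∈ X₀`, as the cosets of `1, v, w, v w` are all cosets
  have hcw : c * w * c = w := by
    rw [hw]
    calc c * (c * v * c * v) * c = (c * c) * v * (c * v * c) := by group
      _ = v * (c * v * c) := by rw [hc, one_mul]
      _ = c * v * c * v := hX.mul_comm hv (hcX v hv)
  have hcom : ∀ a b : G, a ∈ X → b ∈ X → c * (a * b) * c * (a * b) = (c * a * c * a) * (c * b * c * b) := by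
    intro a b ha hb
    have e1 : c * (a * b) * c = (c * a * c) * (c * b * c) := by
      calc c * (a * b) * c = c * a * 1 * b * c := by group
        _ = c * a * (c * c) * b * c := by rw [hc]
        _ = _ := by group
    rw [e1]
    have e2 := hX.mul_comm (hcX b hb) ha
    calc (c * a * c) * (c * b * c) * (a * b) = (c * a * c) * ((c * b * c) * a) * b := by group
      _ = (c * a * c) * (a * (c * b * c)) * b := by rw [e2]
      _ = _ := by group
  have key : x ∈ X₀ ∨ w * x ∈ X₀ := by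
    by_contra hno
    rw [not_or] at hno
    obtain ⟨hn1, hn2⟩ := hno
    -- five distinct cosets
    have hw2 : w * w = 1 := hX w hwX
    have hv2 : v * v = 1 := hX v hv
    have hcw1 : c * w * c * w ∈ X₀ := by rw [hcw, hw2]; exact X₀.one_mem
    let Q := X ⧸ X₀.subgroupOf X
    have hQ : Nat.card Q = 4 := by
      have h1 := Subgroup.card_eq_card_quotient_mul_card_subgroup (X₀.subgroupOf X)
      have h2 : Nat.card (X₀.subgroupOf X) = Nat.card X₀ :=
        Nat.card_congr (Subgroup.subgroupOfEquivOfLe h0).toEquiv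
      rw [h2, h4] at h1
      have h3 : 0 < Nat.card X₀ := Nat.card_pos
      exact (Nat.eq_of_mul_eq_mul_right h3 h1).symm
    let f : Fin 5 → Q := ![QuotientGroup.mk (1 : X), QuotientGroup.mk (⟨v, hv⟩ : X),
      QuotientGroup.mk (⟨w, hwX⟩ : X), QuotientGroup.mk (⟨v * w, X.mul_mem hv hwX⟩ : X),
      QuotientGroup.mk (⟨x, hx⟩ : X)]
    have heq : ∀ (a b : X), (QuotientGroup.mk a : Q) = QuotientGroup.mk b ↔ (a : G) * b ∈ X₀ := by
      intro a b
      rw [QuotientGroup.eq, Subgroup.mem_subgroupOf]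
      show (a : G)⁻¹ * b ∈ X₀ ↔ _
      rw [hX.invF a.2]
    have g1 : v ∉ X₀ := fun h => hcv (X₀.mul_mem (hc0 v h) h)
    have g2 : w ∉ X₀ := hcv
    have mulc : ∀ a b : G, a ∈ X → b ∈ X → a * b ∈ X₀ → c * a * c * a * (c * b * c * b) ∈ X₀ := by
      intro a b ha hb h
      rw [← hcom a b ha hb]
      exact X₀.mul_mem (hc0 _ h) h
    have g3 : v * w ∉ X₀ := by
      intro h
      have h1 := mulc v w hv hwX h
      exact g2 ((X₀.mul_mem_cancel_right hcw1).1 h1)
    have g4 : v * x ∉ X₀ := by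
      intro h
      have h1 := mulc v x hv hx h
      exact g2 ((X₀.mul_mem_cancel_right hcx).1 h1)
    have g5 : v * w * x ∉ X₀ := by
      intro h
      have h1 := mulc (v * w) x (X.mul_mem hv hwX) hx h
      have h2 := (X₀.mul_mem_cancel_right hcx).1 h1
      rw [hcom v w hv hwX] at h2
      exact g2 ((X₀.mul_mem_cancel_right hcw1).1 h2)
    have vw : v * w = w * v := hX.mul_comm hv hwX
    have hf : Function.Injective f := by
      have e12 : (1 : G) * v = v := one_mul v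
      have cmm : ∀ a b : G, a ∈ X → b ∈ X → a * b ∉ X₀ → b * a ∉ X₀ := by
        intro a b ha hb h
        rwa [hX.mul_comm hb ha]
      have p01 : (1 : G) * v ∉ X₀ := by rwa [one_mul]
      have p02 : (1 : G) * w ∉ X₀ := by rwa [one_mul]
      have p03 : (1 : G) * (v * w) ∉ X₀ := by rwa [one_mul]
      have p04 : (1 : G) * x ∉ X₀ := by rwa [one_mul]
      have p13 : v * (v * w) ∉ X₀ := by rwa [← mul_assoc, hv2, one_mul]
      have p23 : w * (v * w) ∉ X₀ := by
        rw [vw, ← mul_assoc, hw2, one_mul]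
        exact g1
      intro i j hij
      fin_cases i <;> fin_cases j <;>
        first
        | rfl
        | (exfalso
           have h := (heq _ _).1 hij
           first
           | exact p01 h
           | exact p02 h
           | exact p03 h
           | exact p04 h
           | exact g3 h
           | exact p13 h
           | exact g4 h
           | exact p23 h
           | exact hn2 h
           | exact g5 h
           | exact cmm _ _ X.one_mem hv p01 h
           | exact cmm _ _ X.one_mem hwX p02 h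
           | exact cmm _ _ X.one_mem (X.mul_mem hv hwX) p03 h
           | exact cmm _ _ X.one_mem hx p04 h
           | exact cmm _ _ hv hwX g3 h
           | exact cmm _ _ hv (X.mul_mem hv hwX) p13 h
           | exact cmm _ _ hv hx g4 h
           | exact cmm _ _ hwX (X.mul_mem hv hwX) p23 h
           | exact cmm _ _ hwX hx hn2 h
           | exact cmm _ _ (X.mul_mem hv hwX) hx g5 h)
    have : Finite Q := inferInstance
    have h5 := Nat.card_le_card_of_injective f hf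
    rw [hQ, Nat.card_eq_fintype_card, Fintype.card_fin] at h5
    omega
  rcases key with h | h
  · refine ⟨1, X.one_mem, ?_⟩
    have e : c * 1 * c * 1 * x = c * c * x := by group
    rw [e, hc, one_mul]
    exact h
  · exact ⟨v, hv, h⟩

/-! ### The situation reached by the nodes A-E -/

/-- the situation reached by the nodes A-E -/
structure KillHyp (t c : G) (V W UV UW : Subgroup G) : Prop where
  tt : t * t = 1
  cc : c * c = 1
  ct : c * t = t * c
  elV : El UV
  elW : El UW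
  VU : V ≤ UV
  WU : W ≤ UW
  tV : ∀ v ∈ V, v * t = t * v
  tW : ∀ w ∈ W, w * t = t * w
  cenV : ∀ b ∈ UV, b * t = t * b → b ∈ V
  cenW : ∀ b ∈ UW, b * t = t * b → b ∈ W
  betaV : ∀ b ∈ UV, ∃ v ∈ V, b * t * b⁻¹ = t * v
  betaW : ∀ b ∈ UW, ∃ w ∈ W, b * t * b⁻¹ = t * w
  exV : ∀ v ∈ V, ∃ b ∈ UV, b * t * b⁻¹ = t * v
  exW : ∀ w ∈ W, ∃ b ∈ UW, b * t * b⁻¹ = t * w
  cV : ∀ v ∈ V, c * v * c ∈ V
  cW : ∀ w ∈ W, c * w * c ∈ W
  cUV : ∀ b ∈ UV, c * b * c ∈ UV
  cUW : ∀ b ∈ UW, c * b * c ∈ UW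
  nor : ∀ a ∈ UW, ∀ b ∈ UV, a * b * a⁻¹ ∈ UV
  ex0 : ∀ x ∈ V, x ∈ W → ∃ u ∈ UV, u ∈ UW ∧ u * t * u⁻¹ = t * x
  l0 : ∀ x ∈ V, x ∈ W → c * x * c * x = 1 → ∃ y ∈ V, y ∈ W ∧ c * y * c * y * x = 1
  lV : ∀ x ∈ V, c * x * c * x ∈ W → ∃ y ∈ V, c * y * c * y * x ∈ W
  lW : ∀ x ∈ W, c * x * c * x ∈ V → ∃ y ∈ W, c * y * c * y * x ∈ V
  tVW : ∀ v ∈ V, ∀ w ∈ W, t ≠ v * w
  cVW : ∀ v ∈ V, ∀ w ∈ W, c ≠ v * w

/-- `b t b⁻¹ = t v` for an involution `b`: then `t b t = v b` -/
theorem tbt {t b v : G} (tt : t * t = 1) (h : b * t * b⁻¹ = t * v) : t * b * t = v * b := by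
  have e : b * t = t * v * b := by rw [← h]; group
  calc t * b * t = t * (b * t) := by group
    _ = t * (t * v * b) := by rw [e]
    _ = (t * t) * v * b := by group
    _ = v * b := by rw [tt, one_mul]

/-- the values of `β` multiply -/
theorem beta_mulF {t b b' v v' : G} (h : b * t * b⁻¹ = t * v) (h' : b' * t * b'⁻¹ = t * v')
    (hc : b * v' = v' * b) : (b * b') * t * (b * b')⁻¹ = t * (v * v') := by
  calc (b * b') * t * (b * b')⁻¹ = b * (b' * t * b'⁻¹) * b⁻¹ := by group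
    _ = b * (t * v') * b⁻¹ := by rw [h']
    _ = (b * t * b⁻¹) * (b * v') * b⁻¹ := by group
    _ = (b * t * b⁻¹) * (v' * b) * b⁻¹ := by rw [hc]
    _ = t * v * v' := by rw [h]; group
    _ = _ := by group

namespace KillHyp

variable {t c : G} {V W UV UW : Subgroup G} (h : KillHyp t c V W UV UW)

include h

theorem ti : t⁻¹ = t := inv_eq_of_mul_eq_one_left h.tt

theorem ci : c⁻¹ = c := inv_eq_of_mul_eq_one_left h.cc

/-- the values of `β` on `c b c` -/
theorem beta_c {b v : G} (hb : b * t * b⁻¹ = t * v) : (c * b * c) * t * (c * b * c)⁻¹ = t * (c * v * c) := by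
  have hci := h.ci
  calc (c * b * c) * t * (c * b * c)⁻¹ = c * b * (c * t) * c⁻¹ * b⁻¹ * c⁻¹ := by group
    _ = c * b * (t * c) * c⁻¹ * b⁻¹ * c⁻¹ := by rw [h.ct]
    _ = c * (b * t * b⁻¹) * c⁻¹ := by group
    _ = c * (t * v) * c := by rw [hb, hci]
    _ = (c * t) * v * c := by group
    _ = (t * c) * v * c := by rw [h.ct]
    _ = _ := by group

theorem tUV {b : G} (hb : b ∈ UV) : t * b * t ∈ UV := by
  obtain ⟨v, hv, e⟩ := h.betaV b hb
  rw [tbt h.tt e]
  exact UV.mul_mem (h.VU hv) hb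

theorem tUW {b : G} (hb : b ∈ UW) : t * b * t ∈ UW := by
  obtain ⟨v, hv, e⟩ := h.betaW b hb
  rw [tbt h.tt e]
  exact UW.mul_mem (h.WU hv) hb

/-- `β` is injective modulo `V` -/
theorem mul_mem_V {b b' v : G} (hb : b ∈ UV) (hb' : b' ∈ UV) (e : b * t * b⁻¹ = t * v)
    (e' : b' * t * b'⁻¹ = t * v) : b * b' ∈ V := by
  apply h.cenV _ (UV.mul_mem hb hb')
  have e1 := tbt h.tt e
  have e2 := tbt h.tt e'
  have hv : v ∈ UV := by
    have : v = t * b * t * b⁻¹ := by rw [e1]; group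
    rw [this]
    exact UV.mul_mem (h.tUV hb) (UV.inv_mem hb)
  have e3 : t * (b * b') * t = b * b' := by
    calc t * (b * b') * t = t * b * 1 * b' * t := by group
      _ = t * b * (t * t) * b' * t := by rw [h.tt]
      _ = (t * b * t) * (t * b' * t) := by group
      _ = (v * b) * (v * b') := by rw [e1, e2]
      _ = v * (b * v) * b' := by group
      _ = v * (v * b) * b' := by rw [h.elV.mul_comm hb hv]
      _ = (v * v) * (b * b') := by group
      _ = b * b' := by rw [h.elV v hv, one_mul]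
  calc b * b' * t = (t * t) * (b * b') * t := by rw [h.tt, one_mul]
    _ = t * (t * (b * b') * t) := by group
    _ = t * (b * b') := by rw [e3]

theorem mul_mem_W {b b' v : G} (hb : b ∈ UW) (hb' : b' ∈ UW) (e : b * t * b⁻¹ = t * v)
    (e' : b' * t * b'⁻¹ = t * v) : b * b' ∈ W := by
  apply h.cenW _ (UW.mul_mem hb hb')
  have e1 := tbt h.tt e
  have e2 := tbt h.tt e'
  have hv : v ∈ UW := by
    have : v = t * b * t * b⁻¹ := by rw [e1]; group
    rw [this]
    exact UW.mul_mem (h.tUW hb) (UW.inv_mem hb)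
  have e3 : t * (b * b') * t = b * b' := by
    calc t * (b * b') * t = t * b * 1 * b' * t := by group
      _ = t * b * (t * t) * b' * t := by rw [h.tt]
      _ = (t * b * t) * (t * b' * t) := by group
      _ = (v * b) * (v * b') := by rw [e1, e2]
      _ = v * (b * v) * b' := by group
      _ = v * (v * b) * b' := by rw [h.elW.mul_comm hb hv]
      _ = (v * v) * (b * b') := by group
      _ = b * b' := by rw [h.elW v hv, one_mul]
  calc b * b' * t = (t * t) * (b * b') * t := by rw [h.tt, one_mul]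
    _ = t * (t * (b * b') * t) := by group
    _ = t * (b * b') := by rw [e3]

/-- `U_V ∩ W = V ∩ W`, `U_W ∩ V = V ∩ W` -/
theorem UV_W {w : G} (hw : w ∈ W) (hu : w ∈ UV) : w ∈ V := h.cenV w hu (h.tW w hw)

theorem UW_V {v : G} (hv : v ∈ V) (hu : v ∈ UW) : v ∈ W := h.cenW v hu (h.tV v hv)

/-! ### The group `S₀ = U_V U_W` -/

/-- `S₀ = U_V U_W` -/
def S0 : Subgroup G where
  carrier := {s | ∃ u ∈ UV, ∃ b ∈ UW, s = u * b}
  one_mem' := ⟨1, UV.one_mem, 1, UW.one_mem, by group⟩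
  mul_mem' := by
    rintro _ _ ⟨u, hu, b, hb, rfl⟩ ⟨u', hu', b', hb', rfl⟩
    exact ⟨u * (b * u' * b⁻¹), UV.mul_mem hu (h.nor b hb u' hu'), b * b', UW.mul_mem hb hb', by group⟩
  inv_mem' := by
    rintro _ ⟨u, hu, b, hb, rfl⟩
    refine ⟨b⁻¹ * u⁻¹ * b⁻¹⁻¹, h.nor _ (UW.inv_mem hb) _ (UV.inv_mem hu), b⁻¹, UW.inv_mem hb, by group⟩

theorem mem_S0 {s : G} : s ∈ h.S0 ↔ ∃ u ∈ UV, ∃ b ∈ UW, s = u * b := Iff.rfl

theorem UV_le : UV ≤ h.S0 := fun u hu => ⟨u, hu, 1, UW.one_mem, by group⟩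

theorem UW_le : UW ≤ h.S0 := fun b hb => ⟨1, UV.one_mem, b, hb, by group⟩

theorem t_S0 {s : G} (hs : s ∈ h.S0) : t * s * t ∈ h.S0 := by
  obtain ⟨u, hu, b, hb, rfl⟩ := hs
  refine ⟨t * u * t, h.tUV hu, t * b * t, h.tUW hb, ?_⟩
  calc t * (u * b) * t = t * u * 1 * b * t := by group
    _ = t * u * (t * t) * b * t := by rw [h.tt]
    _ = _ := by group

theorem c_S0 {s : G} (hs : s ∈ h.S0) : c * s * c ∈ h.S0 := by
  obtain ⟨u, hu, b, hb, rfl⟩ := hs
  refine ⟨c * u * c, h.cUV u hu, c * b * c, h.cUW b hb, ?_⟩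
  calc c * (u * b) * c = c * u * 1 * b * c := by group
    _ = c * u * (c * c) * b * c := by rw [h.cc]
    _ = _ := by group

/-- `C_{S₀}(t) = VW` -/
theorem cent_S0 {s : G} (hs : s ∈ h.S0) (hst : s * t = t * s) : ∃ v ∈ V, ∃ w ∈ W, s = v * w := by
  obtain ⟨u, hu, b, hb, rfl⟩ := hs
  obtain ⟨v, hv, e⟩ := h.betaV u hu
  obtain ⟨w, hw, e'⟩ := h.betaW b hb
  have e1 := tbt h.tt e
  have e2 := tbt h.tt e'
  -- `v = w`
  have e3 : t * (u * b) * t = u * b := by
    calc t * (u * b) * t = (t * (u * b)) * t := by group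
      _ = (u * b * t) * t := by rw [hst]
      _ = u * b * (t * t) := by group
      _ = u * b := by rw [h.tt, mul_one]
  have e4 : v * u * (w * b) = u * b := by
    rw [← e3, ← e1, ← e2]
    calc t * u * t * (t * b * t) = t * u * (t * t) * b * t := by group
      _ = t * (u * b) * t := by rw [h.tt]; group
  have e5 : v * w = 1 := by
    have h1 : u * (v * w) * b = u * b := by
      calc u * (v * w) * b = (u * v) * w * b := by group
        _ = (v * u) * w * b := by rw [h.elV.mul_comm hu (h.VU hv)]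
        _ = v * u * (w * b) := by group
        _ = u * b := e4
    have h2 : u * (v * w) = u := mul_right_cancel h1
    exact mul_eq_left.1 h2
  have hvw : v = w := by
    have : w * w = 1 := h.elW w (h.WU hw)
    calc v = v * (w * w) := by rw [this, mul_one]
      _ = (v * w) * w := by group
      _ = w := by rw [e5, one_mul]
  subst hvw
  obtain ⟨u0, h1, h2, h3⟩ := h.ex0 v hv hw
  refine ⟨u * u0, h.mul_mem_V hu h1 e h3, u0 * b, h.mul_mem_W h2 hb h3 e', ?_⟩
  calc u * b = u * 1 * b := by group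
    _ = u * (u0 * u0) * b := by rw [h.elV u0 h1]
    _ = _ := by group

/-! ### Fusion of the involutions of `tS₀` -/

theorem fus_t {s : G} (hs : s ∈ h.S0) (h2 : t * s * (t * s) = 1) :
    ∃ a ∈ h.S0, a * (t * s) * a⁻¹ = t := by
  obtain ⟨u, hu, b, hb, rfl⟩ := hs
  obtain ⟨w, hw, e⟩ := h.betaW b hb
  have ebb : b * b = 1 := h.elW b hb
  have e1 := tbt h.tt e
  -- `w = (tb)²` lies in `U_V`
  have hwU : w ∈ UV := by
    -- `t u b t u b = 1`
    have e2 : (t * u * t) * (w * b) * u * b⁻¹ * (b * b) = 1 := by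
      calc (t * u * t) * (w * b) * u * b⁻¹ * (b * b) = (t * u * t) * (w * b) * u * b := by group
        _ = (t * u * t) * (t * b * t) * u * b := by rw [e1]
        _ = t * u * (t * t) * b * t * u * b := by group
        _ = t * (u * b) * (t * (u * b)) := by rw [h.tt]; group
        _ = 1 := h2
    rw [ebb, mul_one] at e2
    have e3 : w = (t * u * t)⁻¹ * (b * u * b⁻¹)⁻¹ := by
      have : (t * u * t) * w * (b * u * b⁻¹) = 1 := by
        calc (t * u * t) * w * (b * u * b⁻¹) = (t * u * t) * (w * b) * u * b⁻¹ := by group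
          _ = 1 := e2
      calc w = (t * u * t)⁻¹ * ((t * u * t) * w * (b * u * b⁻¹)) * (b * u * b⁻¹)⁻¹ := by group
        _ = _ := by rw [this]; group
    rw [e3]
    exact UV.mul_mem (UV.inv_mem (h.tUV hu)) (UV.inv_mem (h.nor b hb u hu))
  have hwV := h.UV_W hw hwU
  obtain ⟨u0, h3, h4, h5⟩ := h.ex0 w hwV hw
  -- `s = u' w₁`
  have hw1 : u0 * b ∈ W := h.mul_mem_W h4 hb h5 e
  have hu' : u * u0 ∈ UV := UV.mul_mem hu h3
  have es : u * b = (u * u0) * (u0 * b) := by
    calc u * b = u * 1 * b := by group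
      _ = u * (u0 * u0) * b := by rw [h.elV u0 h3]
      _ = _ := by group
  rw [es] at h2 ⊢
  generalize u0 * b = w1 at hw1 h2 ⊢
  generalize u * u0 = u' at hu' h2 ⊢
  obtain ⟨a, ha, ea⟩ := h.exW w1 hw1
  have hw11 : w1 * w1 = 1 := h.elW w1 (h.WU hw1)
  have hww : w1⁻¹ = w1 := h.elW.invF (h.WU hw1)
  have haw : a * w1 = w1 * a := h.elW.mul_comm ha (h.WU hw1)
  -- `a (t s) a⁻¹ = t u''`
  have e6 : a * (t * (u' * w1)) * a⁻¹ = t * (w1 * (a * u' * a⁻¹) * w1⁻¹) := by
    calc a * (t * (u' * w1)) * a⁻¹ = (a * t * a⁻¹) * (a * u' * a⁻¹) * (a * w1) * a⁻¹ := by group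
      _ = (t * w1) * (a * u' * a⁻¹) * (w1 * a) * a⁻¹ := by rw [ea, haw]
      _ = t * (w1 * (a * u' * a⁻¹) * w1) := by group
      _ = _ := by rw [hww]
  have hu'' : w1 * (a * u' * a⁻¹) * w1⁻¹ ∈ UV := h.nor w1 (h.WU hw1) _ (h.nor a ha u' hu')
  set u'' := w1 * (a * u' * a⁻¹) * w1⁻¹ with hu''def
  have e7 : t * u'' * (t * u'') = 1 := by
    rw [← e6]
    calc a * (t * (u' * w1)) * a⁻¹ * (a * (t * (u' * w1)) * a⁻¹)
        = a * (t * (u' * w1) * (t * (u' * w1))) * a⁻¹ := by group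
      _ = 1 := by rw [h2]; group
  have huu : u'' * u'' = 1 := h.elV _ hu''
  have e8 : u'' * t = t * u'' := by
    calc u'' * t = (t * t) * (u'' * t) * (u'' * u'') := by rw [h.tt, huu]; group
      _ = t * (t * u'' * (t * u'')) * u'' := by group
      _ = t * u'' := by rw [e7]; group
  have hv : u'' ∈ V := h.cenV _ hu'' e8
  obtain ⟨d, hd, ed⟩ := h.exV _ hv
  -- conjugation by `d` maps `t` to `t u''`, hence `t u''` to `t`
  have hdd : d * d = 1 := h.elV d hd
  have hdi : d⁻¹ = d := h.elV.invF hd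
  refine ⟨d * a, h.S0.mul_mem (h.UV_le hd) (h.UW_le ha), ?_⟩
  calc d * a * (t * (u' * w1)) * (d * a)⁻¹ = d * (a * (t * (u' * w1)) * a⁻¹) * d⁻¹ := by group
    _ = d * (t * u'') * d⁻¹ := by rw [e6]
    _ = d * (d * t * d⁻¹) * d⁻¹ := by rw [ed]
    _ = (d * d) * t * (d * d)⁻¹ := by group
    _ = t := by rw [hdd]; group

/-! ### Fusion of the involutions of `cS₀` -/

omit h in
theorem fus_step {N M S₀ : G → Prop} (hc : c * c = 1) (hmul : ∀ a b, S₀ a → S₀ b → S₀ (a * b))
    (hred : ∀ s, N s → c * s * c * s = 1 → ∃ a, S₀ a ∧ M (c * a * c * s * a⁻¹))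
    (hM : ∀ s, M s → c * s * c * s = 1 → ∃ a, S₀ a ∧ a * (c * s) * a⁻¹ = c) (s : G) (hs : N s)
    (h2 : c * s * c * s = 1) : ∃ a, S₀ a ∧ a * (c * s) * a⁻¹ = c := by
  obtain ⟨a, ha, hm⟩ := hred s hs h2
  have e : a * (c * s) * a⁻¹ = c * (c * a * c * s * a⁻¹) := by
    calc a * (c * s) * a⁻¹ = 1 * a * (c * s) * a⁻¹ := by group
      _ = (c * c) * a * (c * s) * a⁻¹ := by rw [hc]
      _ = _ := by group
  obtain ⟨a', ha', e'⟩ := hM _ hm (by
    have e3 : c * (c * a * c * s * a⁻¹) * c * (c * a * c * s * a⁻¹) = 1 := by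
      calc c * (c * a * c * s * a⁻¹) * c * (c * a * c * s * a⁻¹)
          = c * (c * a * c * s * a⁻¹) * (c * (c * a * c * s * a⁻¹)) := by group
        _ = a * (c * s) * a⁻¹ * (a * (c * s) * a⁻¹) := by rw [e]
        _ = a * (c * s * c * s) * a⁻¹ := by group
        _ = 1 := by rw [h2]; group
    exact e3)
  refine ⟨a' * a, hmul _ _ ha' ha, ?_⟩
  calc a' * a * (c * s) * (a' * a)⁻¹ = a' * (a * (c * s) * a⁻¹) * a'⁻¹ := by group
    _ = c := by rw [e, e']

omit h in
theorem comm_of_beta {b x : G} (hb : b * t * b⁻¹ = t * x) (hx : x = 1) : b * t = t * b := by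
  rw [hx, mul_one] at hb
  calc b * t = b * t * b⁻¹ * b := by group
    _ = t * b := by rw [hb]

/-- the value of `β` on `(c a c) s a⁻¹`, in `U_V` -/
theorem beta_red_V {a s y v : G} (ha : a ∈ UV) (hs : s ∈ UV) (hy : y ∈ V) (hv : v ∈ V)
    (ea : a * t * a⁻¹ = t * y) (es : s * t * s⁻¹ = t * v) :
    (c * a * c * s * a⁻¹) * t * (c * a * c * s * a⁻¹)⁻¹ = t * (c * y * c * y * v) := by
  have e1 := h.beta_c ea
  have hcy := h.VU (h.cV y hy)
  have hca := h.cUV a ha
  rw [h.elV.invF ha]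
  have e2 : (s * a) * t * (s * a)⁻¹ = t * (v * y) := beta_mulF es ea (h.elV.mul_comm hs (h.VU hy))
  have e3 := beta_mulF e1 e2 (h.elV.mul_comm hca (UV.mul_mem (h.VU hv) (h.VU hy)))
  have e4 : c * a * c * s * a = (c * a * c) * (s * a) := by group
  rw [e4, e3, h.elV.mul_comm (h.VU hv) (h.VU hy)]
  group

theorem beta_red_W {a s y v : G} (ha : a ∈ UW) (hs : s ∈ UW) (hy : y ∈ W) (hv : v ∈ W)
    (ea : a * t * a⁻¹ = t * y) (es : s * t * s⁻¹ = t * v) :
    (c * a * c * s * a⁻¹) * t * (c * a * c * s * a⁻¹)⁻¹ = t * (c * y * c * y * v) := by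
  have e1 := h.beta_c ea
  have hcy := h.WU (h.cW y hy)
  have hca := h.cUW a ha
  rw [h.elW.invF ha]
  have e2 : (s * a) * t * (s * a)⁻¹ = t * (v * y) := beta_mulF es ea (h.elW.mul_comm hs (h.WU hy))
  have e3 := beta_mulF e1 e2 (h.elW.mul_comm hca (UW.mul_mem (h.WU hv) (h.WU hy)))
  have e4 : c * a * c * s * a = (c * a * c) * (s * a) := by group
  rw [e4, e3, h.elW.mul_comm (h.WU hv) (h.WU hy)]
  group

theorem red_mem_UV {a s : G} (ha : a ∈ UV) (hs : s ∈ UV) : c * a * c * s * a⁻¹ ∈ UV :=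
  UV.mul_mem (UV.mul_mem (h.cUV a ha) hs) (UV.inv_mem ha)

theorem red_mem_UW {a s : G} (ha : a ∈ UW) (hs : s ∈ UW) : c * a * c * s * a⁻¹ ∈ UW :=
  UW.mul_mem (UW.mul_mem (h.cUW a ha) hs) (UW.inv_mem ha)

/-- an involution `s` of `U_V` fixed by `c` has `β(s)` fixed by `c` -/
theorem beta_fixed {s v : G} (hss : s * s = 1) (hvv : v * v = 1) (es : s * t * s⁻¹ = t * v)
    (h2 : c * s * c * s = 1) : c * v * c * v = 1 := by
  have e1 : c * s * c = s := by
    calc c * s * c = (c * s * c * s) * s⁻¹ := by group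
      _ = s := by rw [h2, one_mul]; exact inv_eq_of_mul_eq_one_left hss
  have e2 := h.beta_c es
  rw [e1, es] at e2
  have e3 : v = c * v * c := mul_left_cancel e2
  rw [← e3, hvv]

theorem fus0 (s : G) (hs : s ∈ V ∧ s ∈ W) (h2 : c * s * c * s = 1) :
    ∃ a, a ∈ h.S0 ∧ a * (c * s) * a⁻¹ = c := by
  refine fus_step (N := fun s => s ∈ V ∧ s ∈ W) (M := fun s => s = 1) (S₀ := fun a => a ∈ h.S0) h.cc
    (fun a b => h.S0.mul_mem) ?_ ?_ s hs h2
  · rintro s ⟨h1, h3⟩ h2
    obtain ⟨y, hy, -, e⟩ := h.l0 s h1 h3 h2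
    refine ⟨y, h.UV_le (h.VU hy), ?_⟩
    rw [h.elV.invF (h.VU hy)]
    calc c * y * c * s * y = c * y * c * (s * y) := by group
      _ = c * y * c * (y * s) := by rw [h.elV.mul_comm (h.VU h1) (h.VU hy)]
      _ = c * y * c * y * s := by group
      _ = 1 := e
  · rintro s rfl -
    exact ⟨1, h.S0.one_mem, by group⟩

theorem fus1 (s : G) (hs : s ∈ UV ∧ s ∈ UW) (h2 : c * s * c * s = 1) :
    ∃ a, a ∈ h.S0 ∧ a * (c * s) * a⁻¹ = c := by
  refine fus_step (N := fun s => s ∈ UV ∧ s ∈ UW) (M := fun s => s ∈ V ∧ s ∈ W)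
    (S₀ := fun a => a ∈ h.S0) h.cc (fun a b => h.S0.mul_mem) ?_ h.fus0 s hs h2
  rintro s ⟨h1, h3⟩ h2
  obtain ⟨v, hv, es⟩ := h.betaV s h1
  obtain ⟨w, hw, es'⟩ := h.betaW s h3
  have hvw : v = w := mul_left_cancel (es.symm.trans es')
  have e1 := h.beta_fixed (h.elV s h1) (h.elV v (h.VU hv)) es h2
  obtain ⟨y, hy, hyW, e2⟩ := h.l0 v hv (hvw ▸ hw) e1
  obtain ⟨a, ha, ha', ea⟩ := h.ex0 y hy hyW
  refine ⟨a, h.UV_le ha, ?_, ?_⟩
  · exact h.cenV _ (h.red_mem_UV ha h1) (comm_of_beta (h.beta_red_V ha h1 hy hv ea es) e2)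
  · exact h.cenW _ (h.red_mem_UW ha' h3) (comm_of_beta (h.beta_red_V ha h1 hy hv ea es) e2)

theorem fus2 (s : G) (hs : ∃ v ∈ V, ∃ u ∈ UV, u ∈ UW ∧ s = v * u) (h2 : c * s * c * s = 1) :
    ∃ a, a ∈ h.S0 ∧ a * (c * s) * a⁻¹ = c := by
  refine fus_step (N := fun s => ∃ v ∈ V, ∃ u ∈ UV, u ∈ UW ∧ s = v * u) (M := fun s => s ∈ UV ∧ s ∈ UW)
    (S₀ := fun a => a ∈ h.S0) h.cc (fun a b => h.S0.mul_mem) ?_ h.fus1 s hs h2
  rintro s ⟨v, hv, u, hu, hu', rfl⟩ h2
  have hvU := h.VU hv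
  have hcv := h.cV v hv
  have e1 : c * v * c * v ∈ W := by
    have e2 : c * v * c * v = (c * u * c * u)⁻¹ := by
      have e3 : (c * v * c) * (c * u * c) * (v * u) = 1 := by
        calc (c * v * c) * (c * u * c) * (v * u) = c * v * (c * c) * u * c * (v * u) := by group
          _ = c * (v * u) * c * (v * u) := by rw [h.cc]; group
          _ = 1 := h2
      have e4 : (c * v * c * v) * (c * u * c * u) = 1 := by
        calc (c * v * c * v) * (c * u * c * u) = (c * v * c) * (v * (c * u * c)) * u := by group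
          _ = (c * v * c) * ((c * u * c) * v) * u := by rw [h.elV.mul_comm hvU (h.cUV u hu)]
          _ = (c * v * c) * (c * u * c) * (v * u) := by group
          _ = 1 := e3
      exact eq_inv_of_mul_eq_one_left e4
    apply h.UW_V (V.mul_mem hcv hv)
    rw [e2]
    exact UW.inv_mem (UW.mul_mem (h.cUW u hu') hu')
  obtain ⟨y, hy, e2⟩ := h.lV v hv e1
  refine ⟨y, h.UV_le (h.VU hy), ?_⟩
  have hyU := h.VU hy
  have e3 : c * y * c * (v * u) * y⁻¹ = (c * y * c * y * v) * u := by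
    rw [h.elV.invF hyU]
    calc c * y * c * (v * u) * y = c * y * c * ((v * u) * y) := by group
      _ = c * y * c * (y * (v * u)) := by rw [h.elV.mul_comm (UV.mul_mem hvU hu) hyU]
      _ = _ := by group
  rw [e3]
  have hV : c * y * c * y * v ∈ V := V.mul_mem (V.mul_mem (h.cV y hy) hy) hv
  exact ⟨UV.mul_mem (h.VU hV) hu, UW.mul_mem (h.WU e2) hu'⟩

theorem fus3 (s : G) (hs : s ∈ UV) (h2 : c * s * c * s = 1) :
    ∃ a, a ∈ h.S0 ∧ a * (c * s) * a⁻¹ = c := by
  refine fus_step (N := fun s => s ∈ UV) (M := fun s => ∃ v ∈ V, ∃ u ∈ UV, u ∈ UW ∧ s = v * u)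
    (S₀ := fun a => a ∈ h.S0) h.cc (fun a b => h.S0.mul_mem) ?_ h.fus2 s hs h2
  intro s hs h2
  obtain ⟨v, hv, es⟩ := h.betaV s hs
  have e1 := h.beta_fixed (h.elV s hs) (h.elV v (h.VU hv)) es h2
  obtain ⟨y, hy, e2⟩ := h.lV v hv (by rw [e1]; exact W.one_mem)
  obtain ⟨a, ha, ea⟩ := h.exV y hy
  refine ⟨a, h.UV_le ha, ?_⟩
  have hm := h.red_mem_UV ha hs
  have em := h.beta_red_V ha hs hy hv ea es
  have hV : c * y * c * y * v ∈ V := V.mul_mem (V.mul_mem (h.cV y hy) hy) hv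
  obtain ⟨u0, h3, h4, h5⟩ := h.ex0 _ hV e2
  refine ⟨_, h.mul_mem_V hm h3 em h5, u0, h3, h4, ?_⟩
  calc c * a * c * s * a⁻¹ = c * a * c * s * a⁻¹ * 1 := by group
    _ = c * a * c * s * a⁻¹ * (u0 * u0) := by rw [h.elV u0 h3]
    _ = _ := by group

/-- if `(c u b)² = 1` then `c b c b ∈ U_V` -/
theorem cbcb_mem {u b : G} (hu : u ∈ UV) (hb : b ∈ UW) (h2 : c * (u * b) * c * (u * b) = 1) :
    c * b * c * b ∈ UV := by
  have hcb := h.cUW b hb
  have e3 : (c * u * c) * ((c * b * c) * u * (c * b * c)⁻¹) * (c * b * c * b) = 1 := by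
    calc (c * u * c) * ((c * b * c) * u * (c * b * c)⁻¹) * (c * b * c * b)
        = c * u * (c * c) * b * c * u * b := by group
      _ = c * (u * b) * c * (u * b) := by rw [h.cc]; group
      _ = 1 := h2
  rw [eq_inv_of_mul_eq_one_right e3]
  exact UV.inv_mem (UV.mul_mem (h.cUV u hu) (h.nor _ hcb _ hu))

theorem fus4 (s : G) (hs : ∃ u ∈ UV, ∃ w ∈ W, s = u * w) (h2 : c * s * c * s = 1) :
    ∃ a, a ∈ h.S0 ∧ a * (c * s) * a⁻¹ = c := by
  refine fus_step (N := fun s => ∃ u ∈ UV, ∃ w ∈ W, s = u * w) (M := fun s => s ∈ UV)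
    (S₀ := fun a => a ∈ h.S0) h.cc (fun a b => h.S0.mul_mem) ?_ h.fus3 s hs h2
  rintro s ⟨u, hu, w, hw, rfl⟩ h2
  have hwU := h.WU hw
  have e1 := h.cbcb_mem hu hwU h2
  have e2 := h.UV_W (W.mul_mem (h.cW w hw) hw) e1
  obtain ⟨y, hy, e3⟩ := h.lW w hw e2
  have hyU := h.WU hy
  refine ⟨y, h.UW_le hyU, ?_⟩
  have e4 : c * y * c * (u * w) * y⁻¹ = ((c * y * c) * u * (c * y * c)⁻¹) * (c * y * c * y * w) := by
    rw [h.elW.invF hyU]
    calc c * y * c * (u * w) * y = ((c * y * c) * u * (c * y * c)⁻¹) * (c * y * c) * (w * y) := by group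
      _ = ((c * y * c) * u * (c * y * c)⁻¹) * (c * y * c) * (y * w) := by rw [h.elW.mul_comm hwU hyU]
      _ = _ := by group
  rw [e4]
  exact UV.mul_mem (h.nor _ (h.cUW y hyU) _ hu) (h.VU e3)

theorem fus_c {s : G} (hs : s ∈ h.S0) (h2 : c * s * c * s = 1) :
    ∃ a ∈ h.S0, a * (c * s) * a⁻¹ = c := by
  refine fus_step (N := fun s => s ∈ h.S0) (M := fun s => ∃ u ∈ UV, ∃ w ∈ W, s = u * w)
    (S₀ := fun a => a ∈ h.S0) h.cc (fun a b => h.S0.mul_mem) ?_ h.fus4 s hs h2
  rintro s ⟨u, hu, b, hb, rfl⟩ h2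
  obtain ⟨w, hw, eb⟩ := h.betaW b hb
  have hcb := h.cUW b hb
  have e1 := h.cbcb_mem hu hb h2
  -- `β(c b c b) = c w c w`
  have e2 : (c * b * c * b) * t * (c * b * c * b)⁻¹ = t * (c * w * c * w) := by
    have := beta_mulF (h.beta_c eb) eb (h.elW.mul_comm hcb (h.WU hw))
    have e3 : c * b * c * b = (c * b * c) * b := by group
    rw [e3, this]
  have e3 : c * w * c * w ∈ V := by
    obtain ⟨v, hv, ev⟩ := h.betaV _ e1
    have : c * w * c * w = v := mul_left_cancel (e2.symm.trans ev)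
    rw [this]; exact hv
  obtain ⟨y, hy, e4⟩ := h.lW w hw e3
  obtain ⟨a, ha, ea⟩ := h.exW y hy
  refine ⟨a, h.UW_le ha, ?_⟩
  have hm := h.red_mem_UW ha hb
  have em := h.beta_red_W ha hb hy hw ea eb
  have hW : c * y * c * y * w ∈ W := W.mul_mem (W.mul_mem (h.cW y hy) hy) hw
  obtain ⟨u0, h5, h6, h7⟩ := h.ex0 _ e4 hW
  refine ⟨((c * a * c) * u * (c * a * c)⁻¹) * u0, UV.mul_mem (h.nor _ (h.cUW a ha) _ hu) h5,
    u0 * (c * a * c * b * a⁻¹), h.mul_mem_W h6 hm h7 em, ?_⟩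
  calc c * a * c * (u * b) * a⁻¹ = ((c * a * c) * u * (c * a * c)⁻¹) * 1 * (c * a * c * b * a⁻¹) := by group
    _ = ((c * a * c) * u * (c * a * c)⁻¹) * (u0 * u0) * (c * a * c * b * a⁻¹) := by rw [h.elV u0 h5]
    _ = _ := by group

/-! ### The groups `M₀` and `S` -/

theorem tc_sq : t * c * (t * c) = 1 := by
  calc t * c * (t * c) = t * (c * t) * c := by group
    _ = t * (t * c) * c := by rw [h.ct]
    _ = (t * t) * (c * c) := by group
    _ = 1 := by rw [h.tt, h.cc, one_mul]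

theorem tc_nor (x : G) (hx : x ∈ h.S0) : t * c * x * (t * c) ∈ h.S0 := by
  have e : t * c * x * (t * c) = t * (c * x * c) * t := by
    calc t * c * x * (t * c) = t * c * x * (c * t) := by rw [h.ct]
      _ = _ := by group
  rw [e]
  exact h.t_S0 (h.c_S0 hx)

/-- `M₀ = S₀⟨tc⟩` -/
def M0 : Subgroup G := ext h.S0 (t * c) h.tc_sq h.tc_nor

theorem t_nor (x : G) (hx : x ∈ h.M0) : t * x * t ∈ h.M0 := by
  rcases hx with hx | hx
  · exact Or.inl (h.t_S0 hx)
  · right
    have e : t * x * t * (t * c) = t * (x * (t * c)) * t := by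
      calc t * x * t * (t * c) = t * x * (t * t) * c := by group
        _ = t * x * c := by rw [h.tt]; group
        _ = t * x * c * (t * t) := by rw [h.tt, mul_one]
        _ = t * x * (c * t) * t := by group
        _ = t * x * (t * c) * t := by rw [h.ct]
        _ = _ := by group
    rw [e]
    exact h.t_S0 hx

/-- `S = S₀⟨t, c⟩` -/
def S : Subgroup G := ext h.M0 t h.tt h.t_nor

theorem S0_le : h.S0 ≤ h.S := fun _ hx => Or.inl (Or.inl hx)

theorem t_mem : t ∈ h.S := a_mem_ext _ _ _ _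

theorem c_mem : c ∈ h.S := by
  have h1 : t * c ∈ h.S := Or.inl (a_mem_ext _ _ _ _)
  have h2 : t * (t * c) = c := by
    calc t * (t * c) = (t * t) * c := by group
      _ = c := by rw [h.tt, one_mul]
  have h3 := h.S.mul_mem h.t_mem h1
  rwa [h2] at h3

theorem t_notMem : t ∉ h.M0 := by
  rintro (h1 | h1)
  · obtain ⟨v, hv, w, hw, e⟩ := h.cent_S0 h1 rfl
    exact h.tVW v hv w hw e
  · have e1 : t * (t * c) = c := by
      calc t * (t * c) = (t * t) * c := by group
        _ = c := by rw [h.tt, one_mul]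
    rw [e1] at h1
    obtain ⟨v, hv, w, hw, e⟩ := h.cent_S0 h1 h.ct
    exact h.cVW v hv w hw e

/-- the elements of `S - M₀` lie in `tS₀ ∪ cS₀` -/
theorem mem_of_notMem {x : G} (hx : x ∈ h.S) (hM : x ∉ h.M0) :
    ∃ s ∈ h.S0, x = t * s ∨ x = c * s := by
  rcases hx.resolve_left hM with h1 | h1
  · refine ⟨t * (x * t) * t, h.t_S0 h1, Or.inl ?_⟩
    calc x = (t * t) * x * (t * t) := by rw [h.tt]; group
      _ = _ := by group
  · have e1 : x * t * (t * c) = x * c := by
      calc x * t * (t * c) = x * (t * t) * c := by group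
        _ = x * c := by rw [h.tt, mul_one]
    rw [e1] at h1
    refine ⟨c * (x * c) * c, h.c_S0 h1, Or.inr ?_⟩
    calc x = (c * c) * x * (c * c) := by rw [h.cc]; group
      _ = _ := by group

/-- **The end of the kill.** -/
theorem false_of_odd [Finite G] (hG : ∀ H : Subgroup G, H.index ≠ 2) (hct : ∀ g : G, g * t * g⁻¹ ≠ c)
    (hodd : Odd (h.S.relIndex (Subgroup.centralizer {t}))) : False := by
  have hk := Cfsg.Agent.GTwoFour.TransferTL.transfer_eq h.S (sg h.M0 t h.tt h.t_nor) t h.tt h.t_mem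
    (fun g hg h1 _ => ?_) hodd
  · have e := sg_ne_one h.M0 t h.tt h.t_nor (x := ⟨t, h.t_mem⟩) h.t_notMem
    obtain ⟨H, hH⟩ := exists_index_two _ (hk.trans e)
    exact hG H hH
  · have hM : g⁻¹ * t * g ∉ h.M0 := fun hM => h1 (sg_eq_one h.M0 t h.tt h.t_nor hM)
    have hsq : g⁻¹ * t * g * (g⁻¹ * t * g) = 1 := by
      calc g⁻¹ * t * g * (g⁻¹ * t * g) = g⁻¹ * (t * t) * g := by group
        _ = 1 := by rw [h.tt]; group
    obtain ⟨s, hs, e | e⟩ := h.mem_of_notMem hg hM
    · rw [e] at hsq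
      obtain ⟨a, ha, e2⟩ := h.fus_t hs hsq
      refine ⟨a, h.S0_le ha, ?_⟩
      rw [e]
      calc t * s = a⁻¹ * (a * (t * s) * a⁻¹) * a := by group
        _ = a⁻¹ * t * a := by rw [e2]
    · exfalso
      rw [e] at hsq
      obtain ⟨a, ha, e2⟩ := h.fus_c hs (by rw [← hsq]; group)
      apply hct (a * g⁻¹)
      calc a * g⁻¹ * t * (a * g⁻¹)⁻¹ = a * (g⁻¹ * t * g) * a⁻¹ := by group
        _ = a * (c * s) * a⁻¹ := by rw [e]
        _ = c := e2

end KillHyp

end Cfsg.Agent.OddHalf.MM
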