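import Cfsg.Agent.OddHalf.MM.Main
import Cfsg.Agent.OddHalf.Front.OfSheet
import Cfsg.Agent.OddHalf.D8.Rows
import Cfsg.Agent.KFacts.M23.OutOne

/-!
# ODD half, D8: the row `M23` (helper259)

`row_clean`: no counterexample to S1765 has a standard component `K` with a sheet `MM.Sheet` and without outer
automorphisms. `row_m23`: the row `M23` from the sheet.
-/

set_option autoImplicit false

open scoped commutatorElement

namespace Cfsg.Agent.OddHalf.MM.Row

open Subgroup Cfsg Cfsg.Agent.OddHalf.Iface Cfsg.Agent.OddHalf.Front.FE Cfsg.Agent.OddHalf.Front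
open Cfsg.Agent.OddHalf.Front.CycT (mem_sup_comm)

universe u

theorem center_eq_bot {K : Type*} [Group K] [Finite K] {SK V W : Subgroup K} {z c : K}
    (h : Sheet SK V W z c) : center K = ⊥ := by
  rw [eq_bot_iff]
  intro x hx
  rw [mem_center_iff] at hx
  have h1 : x ∈ V := h.CV x fun v _ => (hx v).symm
  rcases h.cen x (h.VS h1) (fun s _ => hx s) with h2 | h2
  · rw [mem_bot]; exact h2
  · exfalso
    obtain ⟨d, -, -, hd⟩ := h.del
    apply hd
    rw [← h2, hx d]
    group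

section

variable {G : Type u} [Group G]

/-- `C(t) = Q × K` if `K` has no outer automorphisms -/
theorem mem_QK {K : Subgroup G} {t q : G} (st : Start K t q) (hout : ∀ φ : MulAut K, ∃ k : K, φ = MulAut.conj k)
    {y : G} (hy : y * t = t * y) : ∃ i ∈ zpowers q, ∃ k ∈ K, y = i * k := by
  obtain ⟨k, hk⟩ := hout (K.normalizerMonoidHom ⟨y, st.nK y hy⟩)
  have h1 := D8.GlueE.exists_of_conj (st.nK y hy) hk
  have hkt := st.Kt k k.2
  have hkt' := st.Kt _ (K.inv_mem k.2)
  refine ⟨(k : G)⁻¹ * y, st.cK _ ?_ h1, k, k.2, ?_⟩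
  · calc (k : G)⁻¹ * y * t = (k : G)⁻¹ * (y * t) := by group
      _ = ((k : G)⁻¹ * t) * y := by rw [hy]; group
      _ = t * ((k : G)⁻¹ * y) := by rw [hkt']; group
  · have h2 := h1 k k.2
    calc y = (k : G) * ((k : G)⁻¹ * y) := by group
      _ = _ := h2

variable {K : Subgroup G} {t q : G} {SK V W : Subgroup K} {z c : K}

/-- the Sylow subgroup `Q S_K` of `C(t)` -/
def TT (q : G) (SK : Subgroup K) : Subgroup G := zpowers q ⊔ SK.map K.subtype

theorem mem_TT (st : Start K t q) {y : G} :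
    y ∈ TT q SK ↔ ∃ i ∈ zpowers q, ∃ s : K, s ∈ SK ∧ y = i * s := by
  unfold TT
  rw [mem_sup_comm (fun a ha k hk => by
    obtain ⟨s, -, rfl⟩ := hk
    exact st.QK a ha s s.2)]
  constructor
  · rintro ⟨i, hi, _, ⟨s, hs, rfl⟩, rfl⟩
    exact ⟨i, hi, s, hs, rfl⟩
  · rintro ⟨i, hi, s, hs, rfl⟩
    exact ⟨i, hi, s, ⟨s, hs, rfl⟩, rfl⟩

theorem KQ (st : Start K t q) {x : G} (hx : x ∈ K) (hq : x ∈ zpowers q) : x = 1 :=
  st.cen x hx fun y hy => st.QK x hq y hy

theorem mem_TT_K (st : Start K t q) {x : K} (hx : (x : G) ∈ TT q SK) : x ∈ SK := by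
  obtain ⟨i, hi, s, hs, e⟩ := (mem_TT st).1 hx
  have h1 : i ∈ K := by
    have : i = x * (s : G)⁻¹ := by rw [e]; group
    rw [this]
    exact K.mul_mem x.2 (K.inv_mem s.2)
  have h2 := KQ st h1 hi
  rw [h2, one_mul] at e
  rw [Subtype.ext e]
  exact hs

theorem commutator_le_K (st : Start K t q) (hout : ∀ φ : MulAut K, ∃ k : K, φ = MulAut.conj k) {a b : G}
    (ha : a * t = t * a) (hb : b * t = t * b) : ⁅a, b⁆ ∈ K := by
  obtain ⟨i, hi, k, hk, rfl⟩ := mem_QK st hout ha
  obtain ⟨j, hj, l, hl, rfl⟩ := mem_QK st hout hb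
  have e : ⁅i * k, j * l⁆ = ⁅k, l⁆ := by
    have h1 := st.QK i hi
    have h2 := st.QK j hj
    have h3 : i * j = j * i := by
      obtain ⟨m, rfl⟩ := mem_zpowers_iff.1 hi
      obtain ⟨n, rfl⟩ := mem_zpowers_iff.1 hj
      rw [← zpow_add, ← zpow_add, add_comm]
    have h1' : ∀ x ∈ K, x * i⁻¹ = i⁻¹ * x := fun x hx => by
      rw [eq_inv_mul_iff_mul_eq, ← mul_assoc, ← h1 x hx, mul_inv_cancel_right]
    have h2' : ∀ x ∈ K, x * j⁻¹ = j⁻¹ * x := fun x hx => by
      rw [eq_inv_mul_iff_mul_eq, ← mul_assoc, ← h2 x hx, mul_inv_cancel_right]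
    rw [commutatorElement_def, commutatorElement_def, mul_inv_rev, mul_inv_rev]
    calc i * k * (j * l) * (k⁻¹ * i⁻¹) * (l⁻¹ * j⁻¹)
        = i * (k * j) * l * (k⁻¹ * i⁻¹) * (l⁻¹ * j⁻¹) := by group
      _ = i * (j * k) * l * (i⁻¹ * k⁻¹) * (j⁻¹ * l⁻¹) := by
          rw [h2 k hk, h1' _ (K.inv_mem hk), h2' _ (K.inv_mem hl)]
      _ = i * j * (k * l * i⁻¹) * k⁻¹ * j⁻¹ * l⁻¹ := by group
      _ = i * j * (i⁻¹ * (k * l)) * k⁻¹ * j⁻¹ * l⁻¹ := by rw [h1' _ (K.mul_mem hk hl)]
      _ = i * j * i⁻¹ * (k * l * k⁻¹ * j⁻¹) * l⁻¹ := by group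
      _ = i * j * i⁻¹ * (j⁻¹ * (k * l * k⁻¹)) * l⁻¹ := by
          rw [h2' _ (K.mul_mem (K.mul_mem hk hl) (K.inv_mem hk))]
      _ = (i * j) * i⁻¹ * j⁻¹ * (k * l * k⁻¹ * l⁻¹) := by group
      _ = k * l * k⁻¹ * l⁻¹ := by rw [h3]; group
  rw [e, commutatorElement_def]
  exact K.mul_mem (K.mul_mem (K.mul_mem hk hl) (K.inv_mem hk)) (K.inv_mem hl)

/-- **`CycT.Facts`** -/
theorem facts [Finite G] (st : Start K t q) (hout : ∀ φ : MulAut K, ∃ k : K, φ = MulAut.conj k)
    (h : Sheet SK V W z c) : CycT.Facts K t q (z : G) (TT q SK) := by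
  have hzc := Frame.z_cen h
  have hzS : z ∈ SK := h.VS h.zV
  have hSK : ∀ s : K, s ∈ SK → (s : G) ∈ TT q SK := fun s hs => (mem_TT st).2 ⟨1, one_mem _, s, hs, by group⟩
  have hQT : ∀ i ∈ zpowers q, i ∈ TT q SK := fun i hi => (le_sup_left : zpowers q ≤ TT q SK) hi
  have htK : t ∉ K := fun h1 => st.t1 (st.cen t h1 fun y hy => st.Kt y hy)
  have hzz : (z : G) * z = 1 := congrArg Subtype.val (h.elV z h.zV)
  have hzt := st.Kt z z.2
  refine
    { toStart := st
      pT := ?_
      tc := ?_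
      max := ?_
      z1 := fun e => h.z1 (Subtype.ext e)
      zT := hSK z hzS
      zK := z.2
      zS := ?_
      P1 := ?_
      T1s := ?_
      idx := ?_
      iso := ?_ }
  · rintro ⟨x, hx⟩
    obtain ⟨i, hi, s, hs, rfl⟩ := (mem_TT st).1 hx
    obtain ⟨m, hm⟩ := st.pQ ⟨i, hi⟩
    obtain ⟨n, hn⟩ := h.two ⟨s, hs⟩
    have hm' : i ^ 2 ^ m = 1 := congrArg Subtype.val hm
    have hn' : (s : G) ^ 2 ^ n = 1 := by
      have h1 : s ^ 2 ^ n = 1 := congrArg Subtype.val hn
      exact congrArg Subtype.val h1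
    refine ⟨m + n, Subtype.ext ?_⟩
    show (i * (s : G)) ^ 2 ^ (m + n) = 1
    have hc : Commute i (s : G) := (st.QK i hi s s.2).symm
    rw [hc.mul_pow, pow_add, pow_mul, hm', one_pow, one_mul, mul_comm, pow_mul, hn', one_pow]
  · intro x hx
    obtain ⟨i, hi, s, hs, rfl⟩ := (mem_TT st).1 hx
    calc i * (s : G) * t = i * (s * t) := by group
      _ = i * t * s := by rw [st.Kt s s.2]; group
      _ = t * i * s := by rw [st.Qt i hi]
      _ = _ := by group
  · intro P hP hle hPt x hx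
    obtain ⟨i, hi, k, hk, e⟩ := mem_QK st hout (hPt x hx)
    have hkP : k ∈ P := by
      have : k = i⁻¹ * x := by rw [e]; group
      rw [this]
      exact P.mul_mem (P.inv_mem (hle (hQT i hi))) hx
    have h1 : IsPGroup 2 ↥(P.subgroupOf K) := hP.comap_of_injective K.subtype K.subtype_injective
    have h2 := h.max (P.subgroupOf K) h1 (fun s hs => mem_subgroupOf.2 (hle (hSK s hs)))
    have h3 : (⟨k, hk⟩ : K) ∈ P.subgroupOf K := mem_subgroupOf.2 hkP
    rw [h2] at h3
    exact (mem_TT st).2 ⟨i, hi, ⟨k, hk⟩, h3, e⟩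
  · intro x hx hxK
    exact congrArg Subtype.val (hzc ⟨x, hxK⟩ (mem_TT_K st hx))
  · intro y hy hyK hyc
    rcases h.cen ⟨y, hyK⟩ (mem_TT_K st hy) (fun s hs => Subtype.ext (hyc s (hSK s hs) s.2)) with e | e
    · exact Or.inl (congrArg Subtype.val e)
    · exact Or.inr (congrArg Subtype.val e)
  · intro y hy _ _
    obtain ⟨i, hi, k, hk, rfl⟩ := mem_QK st hout hy
    exact mul_mem ((le_sup_left : zpowers q ≤ _) hi) ((le_sup_right : K ≤ _) hk)
  · intro a ha b hb haM _
    exfalso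
    apply haM
    obtain ⟨i, hi, s, hs, rfl⟩ := (mem_TT st).1 ha
    exact mul_mem ((le_sup_left : zpowers q ≤ _) hi) ((le_sup_right : K ≤ _) s.2)
  · intro g h1 h2
    by_contra hno
    -- `g` normalises `E = C(t) ∩ C(z)`
    set E : Subgroup G := centralizer ({t} : Set G) ⊓ centralizer ({(z : G)} : Set G) with hE
    have mE : ∀ {y : G}, y ∈ E ↔ y * t = t * y ∧ y * z = z * y := by
      intro y
      rw [hE, mem_inf, mem_centralizer_singleton_iff, mem_centralizer_singleton_iff]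
    have hne : g * t * g⁻¹ ≠ g * z * g⁻¹ := by
      intro e
      apply htK
      have : t = z := mul_left_cancel (mul_right_cancel e)
      rw [this]
      exact z.2
    have hz1 : (z : G) ≠ 1 := fun e => h.z1 (Subtype.ext e)
    have hEg : ∀ y ∈ E, g * y * g⁻¹ ∈ E := by
      intro y hy
      obtain ⟨hyt, hyz⟩ := mE.1 hy
      have e1 : (g * y * g⁻¹) * (g * t * g⁻¹) = (g * t * g⁻¹) * (g * y * g⁻¹) := by
        calc (g * y * g⁻¹) * (g * t * g⁻¹) = g * (y * t) * g⁻¹ := by group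
          _ = g * (t * y) * g⁻¹ := by rw [hyt]
          _ = _ := by group
      have e2 : (g * y * g⁻¹) * (g * z * g⁻¹) = (g * z * g⁻¹) * (g * y * g⁻¹) := by
        calc (g * y * g⁻¹) * (g * z * g⁻¹) = g * (y * z) * g⁻¹ := by group
          _ = g * (z * y) * g⁻¹ := by rw [hyz]
          _ = _ := by group
      generalize g * y * g⁻¹ = w at e1 e2 ⊢
      generalize g * t * g⁻¹ = a at e1 h1 hne
      generalize g * z * g⁻¹ = b at e2 h2 hne hno
      have c1 : Commute w a := e1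
      have c2 : Commute w b := e2
      have c3 : Commute w (a * b) := c1.mul_right c2
      have tt := st.tt
      have htz : t * (z : G) = z * t := hzt.symm
      have r1 : t * (t * (z : G)) = z := by rw [← mul_assoc, tt, one_mul]
      have r2 : (z : G) * (t * z) = t := by rw [htz, ← mul_assoc, hzz, one_mul]
      have r3 : t * (z : G) * t = z := by rw [htz, mul_assoc, tt, mul_one]
      have r4 : t * (z : G) * z = t := by rw [mul_assoc, hzz, mul_one]
      rw [mE]
      rcases h1 with rfl | rfl | rfl <;> rcases h2 with rfl | rfl | rfl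
      · exact absurd rfl hne
      · exact absurd rfl hno
      · rw [r1] at c3
        exact ⟨c1, c3⟩
      · exact ⟨c2, c1⟩
      · exact absurd rfl hne
      · rw [r2] at c3
        exact ⟨c3, c1⟩
      · rw [r3] at c3
        exact ⟨c2, c3⟩
      · exact absurd rfl hno
      · exact absurd rfl hne
    have hzE : (z : G) ∈ ⁅E, E⁆ := by
      have h3 : (⁅centralizer ({z} : Set K), centralizer ({z} : Set K)⁆).map K.subtype ≤ ⁅E, E⁆ := by
        rw [map_commutator]
        have h4 : (centralizer ({z} : Set K)).map K.subtype ≤ E := by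
          rintro _ ⟨k, hk, rfl⟩
          exact mE.2 ⟨st.Kt k k.2, congrArg Subtype.val (mem_centralizer_singleton_iff.1 hk)⟩
        exact commutator_mono h4 h4
      exact h3 ⟨z, h.zD, rfl⟩
    have hEE : ⁅E, E⁆ ≤ K := by
      rw [commutator_le]
      intro a ha b hb
      exact commutator_le_K st hout (mE.1 ha).1 (mE.1 hb).1
    have h5 : g * z * g⁻¹ ∈ K := by
      apply hEE
      have h6 : ⁅E, E⁆.map (MulAut.conj g).toMonoidHom ≤ ⁅E, E⁆ := by
        rw [map_commutator]
        have h7 : E.map (MulAut.conj g).toMonoidHom ≤ E := by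
          rintro _ ⟨y, hy, rfl⟩
          exact hEg y hy
        exact commutator_mono h7 h7
      exact h6 ⟨z, hzE, rfl⟩
    rcases h2 with e | e | e
    · rw [e] at h5
      exact htK h5
    · exact hno e
    · rw [e] at h5
      apply htK
      exact (K.mul_mem_cancel_right z.2).1 h5

/-- **The row of a group with a sheet and without outer automorphisms.** -/
theorem row_clean (C : Ctx G) (S : Std G K) (hcyc : Cyc K)
    (hout : ∀ φ : MulAut K, ∃ k : K, φ = MulAut.conj k) (h : Sheet SK V W z c) : False := by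
  have := C.fin
  obtain ⟨t, q, st⟩ := exists_start C S hcyc (center_eq_bot h)
  obtain ⟨-, hQ, -⟩ := CycT.main (facts st hout h) (commutator_eq_top C) (index_ne_two C)
  have htK : t ∉ K := fun h1 => st.t1 (st.cen t h1 fun y hy => st.Kt y hy)
  apply kill (φ := K.subtype) (t := t) (index_ne_two C) h
  exact
    { tt := st.tt
      t1 := st.t1
      inj := K.subtype_injective
      comm := fun k => st.Kt k k.2
      tK := fun k e => htK (by rw [← e]; exact k.2)
      cent := by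
        intro g hg
        obtain ⟨i, hi, k, hk, e⟩ := mem_QK st hout hg
        rcases hQ i hi with rfl | rfl
        · exact ⟨⟨k, hk⟩, Or.inl (by rw [e, one_mul]; rfl)⟩
        · exact ⟨⟨k, hk⟩, Or.inr e⟩ }

end

/-- **row `m23` of `D8.Rows.All`**, from the sheet of `M23` -/
theorem row_m23 (hs : ∀ (K : Type u) [Group K], Spor.IsoM23 K →
    ∃ (SK V W : Subgroup K) (z c : K), Sheet SK V W z c) : D8.Rows.Row.{u} (fun K _ => Spor.IsoM23 K) := by
  intro G _ C K S hcyc hK
  obtain ⟨SK, V, W, z, c, h⟩ := hs ↥K hK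
  refine row_clean C S hcyc (fun φ => ?_) h
  obtain ⟨k, hk⟩ := KFacts.M23.OutOne.exists_conj' hK φ
  exact ⟨k, MulEquiv.ext hk⟩

end Cfsg.Agent.OddHalf.MM.Row
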